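import Cfsg.Agent.H35.T1692.PTab

set_option autoImplicit false
set_option linter.all false
set_option Elab.async false

namespace Cfsg.Agent.H35

theorem t1692_pchk_120 : allR t1692_pf 122760 6 (120 * 2 ^ 6) = true := by decide +kernel
theorem t1692_pchk_121 : allR t1692_pf 122760 6 (121 * 2 ^ 6) = true := by decide +kernel
theorem t1692_pchk_122 : allR t1692_pf 122760 6 (122 * 2 ^ 6) = true := by decide +kernel
theorem t1692_pchk_123 : allR t1692_pf 122760 6 (123 * 2 ^ 6) = true := by decide +kernel
theorem t1692_pchk_124 : allR t1692_pf 122760 6 (124 * 2 ^ 6) = true := by decide +kernel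
theorem t1692_pchk_125 : allR t1692_pf 122760 6 (125 * 2 ^ 6) = true := by decide +kernel
theorem t1692_pchk_126 : allR t1692_pf 122760 6 (126 * 2 ^ 6) = true := by decide +kernel
theorem t1692_pchk_127 : allR t1692_pf 122760 6 (127 * 2 ^ 6) = true := by decide +kernel
theorem t1692_pchk_128 : allR t1692_pf 122760 6 (128 * 2 ^ 6) = true := by decide +kernel
theorem t1692_pchk_129 : allR t1692_pf 122760 6 (129 * 2 ^ 6) = true := by decide +kernel
theorem t1692_pchk_130 : allR t1692_pf 122760 6 (130 * 2 ^ 6) = true := by decide +kernel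
theorem t1692_pchk_131 : allR t1692_pf 122760 6 (131 * 2 ^ 6) = true := by decide +kernel
theorem t1692_pchk_132 : allR t1692_pf 122760 6 (132 * 2 ^ 6) = true := by decide +kernel
theorem t1692_pchk_133 : allR t1692_pf 122760 6 (133 * 2 ^ 6) = true := by decide +kernel
theorem t1692_pchk_134 : allR t1692_pf 122760 6 (134 * 2 ^ 6) = true := by decide +kernel
theorem t1692_pchk_135 : allR t1692_pf 122760 6 (135 * 2 ^ 6) = true := by decide +kernel
theorem t1692_pchk_136 : allR t1692_pf 122760 6 (136 * 2 ^ 6) = true := by decide +kernel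
theorem t1692_pchk_137 : allR t1692_pf 122760 6 (137 * 2 ^ 6) = true := by decide +kernel
theorem t1692_pchk_138 : allR t1692_pf 122760 6 (138 * 2 ^ 6) = true := by decide +kernel
theorem t1692_pchk_139 : allR t1692_pf 122760 6 (139 * 2 ^ 6) = true := by decide +kernel
theorem t1692_pchk_140 : allR t1692_pf 122760 6 (140 * 2 ^ 6) = true := by decide +kernel
theorem t1692_pchk_141 : allR t1692_pf 122760 6 (141 * 2 ^ 6) = true := by decide +kernel
theorem t1692_pchk_142 : allR t1692_pf 122760 6 (142 * 2 ^ 6) = true := by decide +kernel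
theorem t1692_pchk_143 : allR t1692_pf 122760 6 (143 * 2 ^ 6) = true := by decide +kernel
theorem t1692_pchk_144 : allR t1692_pf 122760 6 (144 * 2 ^ 6) = true := by decide +kernel
theorem t1692_pchk_145 : allR t1692_pf 122760 6 (145 * 2 ^ 6) = true := by decide +kernel
theorem t1692_pchk_146 : allR t1692_pf 122760 6 (146 * 2 ^ 6) = true := by decide +kernel
theorem t1692_pchk_147 : allR t1692_pf 122760 6 (147 * 2 ^ 6) = true := by decide +kernel
theorem t1692_pchk_148 : allR t1692_pf 122760 6 (148 * 2 ^ 6) = true := by decide +kernel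
theorem t1692_pchk_149 : allR t1692_pf 122760 6 (149 * 2 ^ 6) = true := by decide +kernel
theorem t1692_pchk_150 : allR t1692_pf 122760 6 (150 * 2 ^ 6) = true := by decide +kernel
theorem t1692_pchk_151 : allR t1692_pf 122760 6 (151 * 2 ^ 6) = true := by decide +kernel
theorem t1692_pchk_152 : allR t1692_pf 122760 6 (152 * 2 ^ 6) = true := by decide +kernel
theorem t1692_pchk_153 : allR t1692_pf 122760 6 (153 * 2 ^ 6) = true := by decide +kernel
theorem t1692_pchk_154 : allR t1692_pf 122760 6 (154 * 2 ^ 6) = true := by decide +kernel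
theorem t1692_pchk_155 : allR t1692_pf 122760 6 (155 * 2 ^ 6) = true := by decide +kernel
theorem t1692_pchk_156 : allR t1692_pf 122760 6 (156 * 2 ^ 6) = true := by decide +kernel
theorem t1692_pchk_157 : allR t1692_pf 122760 6 (157 * 2 ^ 6) = true := by decide +kernel
theorem t1692_pchk_158 : allR t1692_pf 122760 6 (158 * 2 ^ 6) = true := by decide +kernel
theorem t1692_pchk_159 : allR t1692_pf 122760 6 (159 * 2 ^ 6) = true := by decide +kernel
theorem t1692_pchk_160 : allR t1692_pf 122760 6 (160 * 2 ^ 6) = true := by decide +kernel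
theorem t1692_pchk_161 : allR t1692_pf 122760 6 (161 * 2 ^ 6) = true := by decide +kernel
theorem t1692_pchk_162 : allR t1692_pf 122760 6 (162 * 2 ^ 6) = true := by decide +kernel
theorem t1692_pchk_163 : allR t1692_pf 122760 6 (163 * 2 ^ 6) = true := by decide +kernel
theorem t1692_pchk_164 : allR t1692_pf 122760 6 (164 * 2 ^ 6) = true := by decide +kernel
theorem t1692_pchk_165 : allR t1692_pf 122760 6 (165 * 2 ^ 6) = true := by decide +kernel
theorem t1692_pchk_166 : allR t1692_pf 122760 6 (166 * 2 ^ 6) = true := by decide +kernel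
theorem t1692_pchk_167 : allR t1692_pf 122760 6 (167 * 2 ^ 6) = true := by decide +kernel
theorem t1692_pchk_168 : allR t1692_pf 122760 6 (168 * 2 ^ 6) = true := by decide +kernel
theorem t1692_pchk_169 : allR t1692_pf 122760 6 (169 * 2 ^ 6) = true := by decide +kernel
theorem t1692_pchk_170 : allR t1692_pf 122760 6 (170 * 2 ^ 6) = true := by decide +kernel
theorem t1692_pchk_171 : allR t1692_pf 122760 6 (171 * 2 ^ 6) = true := by decide +kernel
theorem t1692_pchk_172 : allR t1692_pf 122760 6 (172 * 2 ^ 6) = true := by decide +kernel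
theorem t1692_pchk_173 : allR t1692_pf 122760 6 (173 * 2 ^ 6) = true := by decide +kernel
theorem t1692_pchk_174 : allR t1692_pf 122760 6 (174 * 2 ^ 6) = true := by decide +kernel
theorem t1692_pchk_175 : allR t1692_pf 122760 6 (175 * 2 ^ 6) = true := by decide +kernel
theorem t1692_pchk_176 : allR t1692_pf 122760 6 (176 * 2 ^ 6) = true := by decide +kernel
theorem t1692_pchk_177 : allR t1692_pf 122760 6 (177 * 2 ^ 6) = true := by decide +kernel
theorem t1692_pchk_178 : allR t1692_pf 122760 6 (178 * 2 ^ 6) = true := by decide +kernel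
theorem t1692_pchk_179 : allR t1692_pf 122760 6 (179 * 2 ^ 6) = true := by decide +kernel
theorem t1692_pchk_180 : allR t1692_pf 122760 6 (180 * 2 ^ 6) = true := by decide +kernel
theorem t1692_pchk_181 : allR t1692_pf 122760 6 (181 * 2 ^ 6) = true := by decide +kernel
theorem t1692_pchk_182 : allR t1692_pf 122760 6 (182 * 2 ^ 6) = true := by decide +kernel
theorem t1692_pchk_183 : allR t1692_pf 122760 6 (183 * 2 ^ 6) = true := by decide +kernel
theorem t1692_pchk_184 : allR t1692_pf 122760 6 (184 * 2 ^ 6) = true := by decide +kernel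
theorem t1692_pchk_185 : allR t1692_pf 122760 6 (185 * 2 ^ 6) = true := by decide +kernel
theorem t1692_pchk_186 : allR t1692_pf 122760 6 (186 * 2 ^ 6) = true := by decide +kernel
theorem t1692_pchk_187 : allR t1692_pf 122760 6 (187 * 2 ^ 6) = true := by decide +kernel
theorem t1692_pchk_188 : allR t1692_pf 122760 6 (188 * 2 ^ 6) = true := by decide +kernel
theorem t1692_pchk_189 : allR t1692_pf 122760 6 (189 * 2 ^ 6) = true := by decide +kernel
theorem t1692_pchk_190 : allR t1692_pf 122760 6 (190 * 2 ^ 6) = true := by decide +kernel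
theorem t1692_pchk_191 : allR t1692_pf 122760 6 (191 * 2 ^ 6) = true := by decide +kernel
theorem t1692_pchk_192 : allR t1692_pf 122760 6 (192 * 2 ^ 6) = true := by decide +kernel
theorem t1692_pchk_193 : allR t1692_pf 122760 6 (193 * 2 ^ 6) = true := by decide +kernel
theorem t1692_pchk_194 : allR t1692_pf 122760 6 (194 * 2 ^ 6) = true := by decide +kernel
theorem t1692_pchk_195 : allR t1692_pf 122760 6 (195 * 2 ^ 6) = true := by decide +kernel
theorem t1692_pchk_196 : allR t1692_pf 122760 6 (196 * 2 ^ 6) = true := by decide +kernel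
theorem t1692_pchk_197 : allR t1692_pf 122760 6 (197 * 2 ^ 6) = true := by decide +kernel
theorem t1692_pchk_198 : allR t1692_pf 122760 6 (198 * 2 ^ 6) = true := by decide +kernel
theorem t1692_pchk_199 : allR t1692_pf 122760 6 (199 * 2 ^ 6) = true := by decide +kernel
theorem t1692_pchk_200 : allR t1692_pf 122760 6 (200 * 2 ^ 6) = true := by decide +kernel
theorem t1692_pchk_201 : allR t1692_pf 122760 6 (201 * 2 ^ 6) = true := by decide +kernel
theorem t1692_pchk_202 : allR t1692_pf 122760 6 (202 * 2 ^ 6) = true := by decide +kernel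
theorem t1692_pchk_203 : allR t1692_pf 122760 6 (203 * 2 ^ 6) = true := by decide +kernel
theorem t1692_pchk_204 : allR t1692_pf 122760 6 (204 * 2 ^ 6) = true := by decide +kernel
theorem t1692_pchk_205 : allR t1692_pf 122760 6 (205 * 2 ^ 6) = true := by decide +kernel
theorem t1692_pchk_206 : allR t1692_pf 122760 6 (206 * 2 ^ 6) = true := by decide +kernel
theorem t1692_pchk_207 : allR t1692_pf 122760 6 (207 * 2 ^ 6) = true := by decide +kernel
theorem t1692_pchk_208 : allR t1692_pf 122760 6 (208 * 2 ^ 6) = true := by decide +kernel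
theorem t1692_pchk_209 : allR t1692_pf 122760 6 (209 * 2 ^ 6) = true := by decide +kernel
theorem t1692_pchk_210 : allR t1692_pf 122760 6 (210 * 2 ^ 6) = true := by decide +kernel
theorem t1692_pchk_211 : allR t1692_pf 122760 6 (211 * 2 ^ 6) = true := by decide +kernel
theorem t1692_pchk_212 : allR t1692_pf 122760 6 (212 * 2 ^ 6) = true := by decide +kernel
theorem t1692_pchk_213 : allR t1692_pf 122760 6 (213 * 2 ^ 6) = true := by decide +kernel
theorem t1692_pchk_214 : allR t1692_pf 122760 6 (214 * 2 ^ 6) = true := by decide +kernel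
theorem t1692_pchk_215 : allR t1692_pf 122760 6 (215 * 2 ^ 6) = true := by decide +kernel
theorem t1692_pchk_216 : allR t1692_pf 122760 6 (216 * 2 ^ 6) = true := by decide +kernel
theorem t1692_pchk_217 : allR t1692_pf 122760 6 (217 * 2 ^ 6) = true := by decide +kernel
theorem t1692_pchk_218 : allR t1692_pf 122760 6 (218 * 2 ^ 6) = true := by decide +kernel
theorem t1692_pchk_219 : allR t1692_pf 122760 6 (219 * 2 ^ 6) = true := by decide +kernel
theorem t1692_pchk_220 : allR t1692_pf 122760 6 (220 * 2 ^ 6) = true := by decide +kernel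
theorem t1692_pchk_221 : allR t1692_pf 122760 6 (221 * 2 ^ 6) = true := by decide +kernel
theorem t1692_pchk_222 : allR t1692_pf 122760 6 (222 * 2 ^ 6) = true := by decide +kernel
theorem t1692_pchk_223 : allR t1692_pf 122760 6 (223 * 2 ^ 6) = true := by decide +kernel
theorem t1692_pchk_224 : allR t1692_pf 122760 6 (224 * 2 ^ 6) = true := by decide +kernel
theorem t1692_pchk_225 : allR t1692_pf 122760 6 (225 * 2 ^ 6) = true := by decide +kernel
theorem t1692_pchk_226 : allR t1692_pf 122760 6 (226 * 2 ^ 6) = true := by decide +kernel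
theorem t1692_pchk_227 : allR t1692_pf 122760 6 (227 * 2 ^ 6) = true := by decide +kernel
theorem t1692_pchk_228 : allR t1692_pf 122760 6 (228 * 2 ^ 6) = true := by decide +kernel
theorem t1692_pchk_229 : allR t1692_pf 122760 6 (229 * 2 ^ 6) = true := by decide +kernel
theorem t1692_pchk_230 : allR t1692_pf 122760 6 (230 * 2 ^ 6) = true := by decide +kernel
theorem t1692_pchk_231 : allR t1692_pf 122760 6 (231 * 2 ^ 6) = true := by decide +kernel
theorem t1692_pchk_232 : allR t1692_pf 122760 6 (232 * 2 ^ 6) = true := by decide +kernel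
theorem t1692_pchk_233 : allR t1692_pf 122760 6 (233 * 2 ^ 6) = true := by decide +kernel
theorem t1692_pchk_234 : allR t1692_pf 122760 6 (234 * 2 ^ 6) = true := by decide +kernel
theorem t1692_pchk_235 : allR t1692_pf 122760 6 (235 * 2 ^ 6) = true := by decide +kernel
theorem t1692_pchk_236 : allR t1692_pf 122760 6 (236 * 2 ^ 6) = true := by decide +kernel
theorem t1692_pchk_237 : allR t1692_pf 122760 6 (237 * 2 ^ 6) = true := by decide +kernel
theorem t1692_pchk_238 : allR t1692_pf 122760 6 (238 * 2 ^ 6) = true := by decide +kernel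
theorem t1692_pchk_239 : allR t1692_pf 122760 6 (239 * 2 ^ 6) = true := by decide +kernel

theorem t1692_pfile_1 : ∀ k, k < 240 → 120 ≤ k → allR t1692_pf 122760 6 (k * 2 ^ 6) = true := by
  intro k h1 h2
  interval_cases k
  · exact t1692_pchk_120
  · exact t1692_pchk_121
  · exact t1692_pchk_122
  · exact t1692_pchk_123
  · exact t1692_pchk_124
  · exact t1692_pchk_125
  · exact t1692_pchk_126
  · exact t1692_pchk_127
  · exact t1692_pchk_128
  · exact t1692_pchk_129
  · exact t1692_pchk_130
  · exact t1692_pchk_131
  · exact t1692_pchk_132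
  · exact t1692_pchk_133
  · exact t1692_pchk_134
  · exact t1692_pchk_135
  · exact t1692_pchk_136
  · exact t1692_pchk_137
  · exact t1692_pchk_138
  · exact t1692_pchk_139
  · exact t1692_pchk_140
  · exact t1692_pchk_141
  · exact t1692_pchk_142
  · exact t1692_pchk_143
  · exact t1692_pchk_144
  · exact t1692_pchk_145
  · exact t1692_pchk_146
  · exact t1692_pchk_147
  · exact t1692_pchk_148
  · exact t1692_pchk_149
  · exact t1692_pchk_150
  · exact t1692_pchk_151
  · exact t1692_pchk_152
  · exact t1692_pchk_153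
  · exact t1692_pchk_154
  · exact t1692_pchk_155
  · exact t1692_pchk_156
  · exact t1692_pchk_157
  · exact t1692_pchk_158
  · exact t1692_pchk_159
  · exact t1692_pchk_160
  · exact t1692_pchk_161
  · exact t1692_pchk_162
  · exact t1692_pchk_163
  · exact t1692_pchk_164
  · exact t1692_pchk_165
  · exact t1692_pchk_166
  · exact t1692_pchk_167
  · exact t1692_pchk_168
  · exact t1692_pchk_169
  · exact t1692_pchk_170
  · exact t1692_pchk_171
  · exact t1692_pchk_172
  · exact t1692_pchk_173
  · exact t1692_pchk_174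
  · exact t1692_pchk_175
  · exact t1692_pchk_176
  · exact t1692_pchk_177
  · exact t1692_pchk_178
  · exact t1692_pchk_179
  · exact t1692_pchk_180
  · exact t1692_pchk_181
  · exact t1692_pchk_182
  · exact t1692_pchk_183
  · exact t1692_pchk_184
  · exact t1692_pchk_185
  · exact t1692_pchk_186
  · exact t1692_pchk_187
  · exact t1692_pchk_188
  · exact t1692_pchk_189
  · exact t1692_pchk_190
  · exact t1692_pchk_191
  · exact t1692_pchk_192
  · exact t1692_pchk_193
  · exact t1692_pchk_194
  · exact t1692_pchk_195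
  · exact t1692_pchk_196
  · exact t1692_pchk_197
  · exact t1692_pchk_198
  · exact t1692_pchk_199
  · exact t1692_pchk_200
  · exact t1692_pchk_201
  · exact t1692_pchk_202
  · exact t1692_pchk_203
  · exact t1692_pchk_204
  · exact t1692_pchk_205
  · exact t1692_pchk_206
  · exact t1692_pchk_207
  · exact t1692_pchk_208
  · exact t1692_pchk_209
  · exact t1692_pchk_210
  · exact t1692_pchk_211
  · exact t1692_pchk_212
  · exact t1692_pchk_213
  · exact t1692_pchk_214
  · exact t1692_pchk_215
  · exact t1692_pchk_216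
  · exact t1692_pchk_217
  · exact t1692_pchk_218
  · exact t1692_pchk_219
  · exact t1692_pchk_220
  · exact t1692_pchk_221
  · exact t1692_pchk_222
  · exact t1692_pchk_223
  · exact t1692_pchk_224
  · exact t1692_pchk_225
  · exact t1692_pchk_226
  · exact t1692_pchk_227
  · exact t1692_pchk_228
  · exact t1692_pchk_229
  · exact t1692_pchk_230
  · exact t1692_pchk_231
  · exact t1692_pchk_232
  · exact t1692_pchk_233
  · exact t1692_pchk_234
  · exact t1692_pchk_235
  · exact t1692_pchk_236
  · exact t1692_pchk_237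
  · exact t1692_pchk_238
  · exact t1692_pchk_239

end Cfsg.Agent.H35
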