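import Cfsg.Agent.H35.T1692.PTab

set_option autoImplicit false
set_option linter.all false
set_option Elab.async false

namespace Cfsg.Agent.H35

theorem t1692_pchk_1560 : allR t1692_pf 122760 6 (1560 * 2 ^ 6) = true := by decide +kernel
theorem t1692_pchk_1561 : allR t1692_pf 122760 6 (1561 * 2 ^ 6) = true := by decide +kernel
theorem t1692_pchk_1562 : allR t1692_pf 122760 6 (1562 * 2 ^ 6) = true := by decide +kernel
theorem t1692_pchk_1563 : allR t1692_pf 122760 6 (1563 * 2 ^ 6) = true := by decide +kernel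
theorem t1692_pchk_1564 : allR t1692_pf 122760 6 (1564 * 2 ^ 6) = true := by decide +kernel
theorem t1692_pchk_1565 : allR t1692_pf 122760 6 (1565 * 2 ^ 6) = true := by decide +kernel
theorem t1692_pchk_1566 : allR t1692_pf 122760 6 (1566 * 2 ^ 6) = true := by decide +kernel
theorem t1692_pchk_1567 : allR t1692_pf 122760 6 (1567 * 2 ^ 6) = true := by decide +kernel
theorem t1692_pchk_1568 : allR t1692_pf 122760 6 (1568 * 2 ^ 6) = true := by decide +kernel
theorem t1692_pchk_1569 : allR t1692_pf 122760 6 (1569 * 2 ^ 6) = true := by decide +kernel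
theorem t1692_pchk_1570 : allR t1692_pf 122760 6 (1570 * 2 ^ 6) = true := by decide +kernel
theorem t1692_pchk_1571 : allR t1692_pf 122760 6 (1571 * 2 ^ 6) = true := by decide +kernel
theorem t1692_pchk_1572 : allR t1692_pf 122760 6 (1572 * 2 ^ 6) = true := by decide +kernel
theorem t1692_pchk_1573 : allR t1692_pf 122760 6 (1573 * 2 ^ 6) = true := by decide +kernel
theorem t1692_pchk_1574 : allR t1692_pf 122760 6 (1574 * 2 ^ 6) = true := by decide +kernel
theorem t1692_pchk_1575 : allR t1692_pf 122760 6 (1575 * 2 ^ 6) = true := by decide +kernel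
theorem t1692_pchk_1576 : allR t1692_pf 122760 6 (1576 * 2 ^ 6) = true := by decide +kernel
theorem t1692_pchk_1577 : allR t1692_pf 122760 6 (1577 * 2 ^ 6) = true := by decide +kernel
theorem t1692_pchk_1578 : allR t1692_pf 122760 6 (1578 * 2 ^ 6) = true := by decide +kernel
theorem t1692_pchk_1579 : allR t1692_pf 122760 6 (1579 * 2 ^ 6) = true := by decide +kernel
theorem t1692_pchk_1580 : allR t1692_pf 122760 6 (1580 * 2 ^ 6) = true := by decide +kernel
theorem t1692_pchk_1581 : allR t1692_pf 122760 6 (1581 * 2 ^ 6) = true := by decide +kernel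
theorem t1692_pchk_1582 : allR t1692_pf 122760 6 (1582 * 2 ^ 6) = true := by decide +kernel
theorem t1692_pchk_1583 : allR t1692_pf 122760 6 (1583 * 2 ^ 6) = true := by decide +kernel
theorem t1692_pchk_1584 : allR t1692_pf 122760 6 (1584 * 2 ^ 6) = true := by decide +kernel
theorem t1692_pchk_1585 : allR t1692_pf 122760 6 (1585 * 2 ^ 6) = true := by decide +kernel
theorem t1692_pchk_1586 : allR t1692_pf 122760 6 (1586 * 2 ^ 6) = true := by decide +kernel
theorem t1692_pchk_1587 : allR t1692_pf 122760 6 (1587 * 2 ^ 6) = true := by decide +kernel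
theorem t1692_pchk_1588 : allR t1692_pf 122760 6 (1588 * 2 ^ 6) = true := by decide +kernel
theorem t1692_pchk_1589 : allR t1692_pf 122760 6 (1589 * 2 ^ 6) = true := by decide +kernel
theorem t1692_pchk_1590 : allR t1692_pf 122760 6 (1590 * 2 ^ 6) = true := by decide +kernel
theorem t1692_pchk_1591 : allR t1692_pf 122760 6 (1591 * 2 ^ 6) = true := by decide +kernel
theorem t1692_pchk_1592 : allR t1692_pf 122760 6 (1592 * 2 ^ 6) = true := by decide +kernel
theorem t1692_pchk_1593 : allR t1692_pf 122760 6 (1593 * 2 ^ 6) = true := by decide +kernel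
theorem t1692_pchk_1594 : allR t1692_pf 122760 6 (1594 * 2 ^ 6) = true := by decide +kernel
theorem t1692_pchk_1595 : allR t1692_pf 122760 6 (1595 * 2 ^ 6) = true := by decide +kernel
theorem t1692_pchk_1596 : allR t1692_pf 122760 6 (1596 * 2 ^ 6) = true := by decide +kernel
theorem t1692_pchk_1597 : allR t1692_pf 122760 6 (1597 * 2 ^ 6) = true := by decide +kernel
theorem t1692_pchk_1598 : allR t1692_pf 122760 6 (1598 * 2 ^ 6) = true := by decide +kernel
theorem t1692_pchk_1599 : allR t1692_pf 122760 6 (1599 * 2 ^ 6) = true := by decide +kernel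
theorem t1692_pchk_1600 : allR t1692_pf 122760 6 (1600 * 2 ^ 6) = true := by decide +kernel
theorem t1692_pchk_1601 : allR t1692_pf 122760 6 (1601 * 2 ^ 6) = true := by decide +kernel
theorem t1692_pchk_1602 : allR t1692_pf 122760 6 (1602 * 2 ^ 6) = true := by decide +kernel
theorem t1692_pchk_1603 : allR t1692_pf 122760 6 (1603 * 2 ^ 6) = true := by decide +kernel
theorem t1692_pchk_1604 : allR t1692_pf 122760 6 (1604 * 2 ^ 6) = true := by decide +kernel
theorem t1692_pchk_1605 : allR t1692_pf 122760 6 (1605 * 2 ^ 6) = true := by decide +kernel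
theorem t1692_pchk_1606 : allR t1692_pf 122760 6 (1606 * 2 ^ 6) = true := by decide +kernel
theorem t1692_pchk_1607 : allR t1692_pf 122760 6 (1607 * 2 ^ 6) = true := by decide +kernel
theorem t1692_pchk_1608 : allR t1692_pf 122760 6 (1608 * 2 ^ 6) = true := by decide +kernel
theorem t1692_pchk_1609 : allR t1692_pf 122760 6 (1609 * 2 ^ 6) = true := by decide +kernel
theorem t1692_pchk_1610 : allR t1692_pf 122760 6 (1610 * 2 ^ 6) = true := by decide +kernel
theorem t1692_pchk_1611 : allR t1692_pf 122760 6 (1611 * 2 ^ 6) = true := by decide +kernel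
theorem t1692_pchk_1612 : allR t1692_pf 122760 6 (1612 * 2 ^ 6) = true := by decide +kernel
theorem t1692_pchk_1613 : allR t1692_pf 122760 6 (1613 * 2 ^ 6) = true := by decide +kernel
theorem t1692_pchk_1614 : allR t1692_pf 122760 6 (1614 * 2 ^ 6) = true := by decide +kernel
theorem t1692_pchk_1615 : allR t1692_pf 122760 6 (1615 * 2 ^ 6) = true := by decide +kernel
theorem t1692_pchk_1616 : allR t1692_pf 122760 6 (1616 * 2 ^ 6) = true := by decide +kernel
theorem t1692_pchk_1617 : allR t1692_pf 122760 6 (1617 * 2 ^ 6) = true := by decide +kernel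
theorem t1692_pchk_1618 : allR t1692_pf 122760 6 (1618 * 2 ^ 6) = true := by decide +kernel
theorem t1692_pchk_1619 : allR t1692_pf 122760 6 (1619 * 2 ^ 6) = true := by decide +kernel
theorem t1692_pchk_1620 : allR t1692_pf 122760 6 (1620 * 2 ^ 6) = true := by decide +kernel
theorem t1692_pchk_1621 : allR t1692_pf 122760 6 (1621 * 2 ^ 6) = true := by decide +kernel
theorem t1692_pchk_1622 : allR t1692_pf 122760 6 (1622 * 2 ^ 6) = true := by decide +kernel
theorem t1692_pchk_1623 : allR t1692_pf 122760 6 (1623 * 2 ^ 6) = true := by decide +kernel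
theorem t1692_pchk_1624 : allR t1692_pf 122760 6 (1624 * 2 ^ 6) = true := by decide +kernel
theorem t1692_pchk_1625 : allR t1692_pf 122760 6 (1625 * 2 ^ 6) = true := by decide +kernel
theorem t1692_pchk_1626 : allR t1692_pf 122760 6 (1626 * 2 ^ 6) = true := by decide +kernel
theorem t1692_pchk_1627 : allR t1692_pf 122760 6 (1627 * 2 ^ 6) = true := by decide +kernel
theorem t1692_pchk_1628 : allR t1692_pf 122760 6 (1628 * 2 ^ 6) = true := by decide +kernel
theorem t1692_pchk_1629 : allR t1692_pf 122760 6 (1629 * 2 ^ 6) = true := by decide +kernel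
theorem t1692_pchk_1630 : allR t1692_pf 122760 6 (1630 * 2 ^ 6) = true := by decide +kernel
theorem t1692_pchk_1631 : allR t1692_pf 122760 6 (1631 * 2 ^ 6) = true := by decide +kernel
theorem t1692_pchk_1632 : allR t1692_pf 122760 6 (1632 * 2 ^ 6) = true := by decide +kernel
theorem t1692_pchk_1633 : allR t1692_pf 122760 6 (1633 * 2 ^ 6) = true := by decide +kernel
theorem t1692_pchk_1634 : allR t1692_pf 122760 6 (1634 * 2 ^ 6) = true := by decide +kernel
theorem t1692_pchk_1635 : allR t1692_pf 122760 6 (1635 * 2 ^ 6) = true := by decide +kernel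
theorem t1692_pchk_1636 : allR t1692_pf 122760 6 (1636 * 2 ^ 6) = true := by decide +kernel
theorem t1692_pchk_1637 : allR t1692_pf 122760 6 (1637 * 2 ^ 6) = true := by decide +kernel
theorem t1692_pchk_1638 : allR t1692_pf 122760 6 (1638 * 2 ^ 6) = true := by decide +kernel
theorem t1692_pchk_1639 : allR t1692_pf 122760 6 (1639 * 2 ^ 6) = true := by decide +kernel
theorem t1692_pchk_1640 : allR t1692_pf 122760 6 (1640 * 2 ^ 6) = true := by decide +kernel
theorem t1692_pchk_1641 : allR t1692_pf 122760 6 (1641 * 2 ^ 6) = true := by decide +kernel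
theorem t1692_pchk_1642 : allR t1692_pf 122760 6 (1642 * 2 ^ 6) = true := by decide +kernel
theorem t1692_pchk_1643 : allR t1692_pf 122760 6 (1643 * 2 ^ 6) = true := by decide +kernel
theorem t1692_pchk_1644 : allR t1692_pf 122760 6 (1644 * 2 ^ 6) = true := by decide +kernel
theorem t1692_pchk_1645 : allR t1692_pf 122760 6 (1645 * 2 ^ 6) = true := by decide +kernel
theorem t1692_pchk_1646 : allR t1692_pf 122760 6 (1646 * 2 ^ 6) = true := by decide +kernel
theorem t1692_pchk_1647 : allR t1692_pf 122760 6 (1647 * 2 ^ 6) = true := by decide +kernel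
theorem t1692_pchk_1648 : allR t1692_pf 122760 6 (1648 * 2 ^ 6) = true := by decide +kernel
theorem t1692_pchk_1649 : allR t1692_pf 122760 6 (1649 * 2 ^ 6) = true := by decide +kernel
theorem t1692_pchk_1650 : allR t1692_pf 122760 6 (1650 * 2 ^ 6) = true := by decide +kernel
theorem t1692_pchk_1651 : allR t1692_pf 122760 6 (1651 * 2 ^ 6) = true := by decide +kernel
theorem t1692_pchk_1652 : allR t1692_pf 122760 6 (1652 * 2 ^ 6) = true := by decide +kernel
theorem t1692_pchk_1653 : allR t1692_pf 122760 6 (1653 * 2 ^ 6) = true := by decide +kernel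
theorem t1692_pchk_1654 : allR t1692_pf 122760 6 (1654 * 2 ^ 6) = true := by decide +kernel
theorem t1692_pchk_1655 : allR t1692_pf 122760 6 (1655 * 2 ^ 6) = true := by decide +kernel
theorem t1692_pchk_1656 : allR t1692_pf 122760 6 (1656 * 2 ^ 6) = true := by decide +kernel
theorem t1692_pchk_1657 : allR t1692_pf 122760 6 (1657 * 2 ^ 6) = true := by decide +kernel
theorem t1692_pchk_1658 : allR t1692_pf 122760 6 (1658 * 2 ^ 6) = true := by decide +kernel
theorem t1692_pchk_1659 : allR t1692_pf 122760 6 (1659 * 2 ^ 6) = true := by decide +kernel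
theorem t1692_pchk_1660 : allR t1692_pf 122760 6 (1660 * 2 ^ 6) = true := by decide +kernel
theorem t1692_pchk_1661 : allR t1692_pf 122760 6 (1661 * 2 ^ 6) = true := by decide +kernel
theorem t1692_pchk_1662 : allR t1692_pf 122760 6 (1662 * 2 ^ 6) = true := by decide +kernel
theorem t1692_pchk_1663 : allR t1692_pf 122760 6 (1663 * 2 ^ 6) = true := by decide +kernel
theorem t1692_pchk_1664 : allR t1692_pf 122760 6 (1664 * 2 ^ 6) = true := by decide +kernel
theorem t1692_pchk_1665 : allR t1692_pf 122760 6 (1665 * 2 ^ 6) = true := by decide +kernel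
theorem t1692_pchk_1666 : allR t1692_pf 122760 6 (1666 * 2 ^ 6) = true := by decide +kernel
theorem t1692_pchk_1667 : allR t1692_pf 122760 6 (1667 * 2 ^ 6) = true := by decide +kernel
theorem t1692_pchk_1668 : allR t1692_pf 122760 6 (1668 * 2 ^ 6) = true := by decide +kernel
theorem t1692_pchk_1669 : allR t1692_pf 122760 6 (1669 * 2 ^ 6) = true := by decide +kernel
theorem t1692_pchk_1670 : allR t1692_pf 122760 6 (1670 * 2 ^ 6) = true := by decide +kernel
theorem t1692_pchk_1671 : allR t1692_pf 122760 6 (1671 * 2 ^ 6) = true := by decide +kernel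
theorem t1692_pchk_1672 : allR t1692_pf 122760 6 (1672 * 2 ^ 6) = true := by decide +kernel
theorem t1692_pchk_1673 : allR t1692_pf 122760 6 (1673 * 2 ^ 6) = true := by decide +kernel
theorem t1692_pchk_1674 : allR t1692_pf 122760 6 (1674 * 2 ^ 6) = true := by decide +kernel
theorem t1692_pchk_1675 : allR t1692_pf 122760 6 (1675 * 2 ^ 6) = true := by decide +kernel
theorem t1692_pchk_1676 : allR t1692_pf 122760 6 (1676 * 2 ^ 6) = true := by decide +kernel
theorem t1692_pchk_1677 : allR t1692_pf 122760 6 (1677 * 2 ^ 6) = true := by decide +kernel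
theorem t1692_pchk_1678 : allR t1692_pf 122760 6 (1678 * 2 ^ 6) = true := by decide +kernel
theorem t1692_pchk_1679 : allR t1692_pf 122760 6 (1679 * 2 ^ 6) = true := by decide +kernel

theorem t1692_pfile_13 : ∀ k, k < 1680 → 1560 ≤ k → allR t1692_pf 122760 6 (k * 2 ^ 6) = true := by
  intro k h1 h2
  interval_cases k
  · exact t1692_pchk_1560
  · exact t1692_pchk_1561
  · exact t1692_pchk_1562
  · exact t1692_pchk_1563
  · exact t1692_pchk_1564
  · exact t1692_pchk_1565
  · exact t1692_pchk_1566
  · exact t1692_pchk_1567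
  · exact t1692_pchk_1568
  · exact t1692_pchk_1569
  · exact t1692_pchk_1570
  · exact t1692_pchk_1571
  · exact t1692_pchk_1572
  · exact t1692_pchk_1573
  · exact t1692_pchk_1574
  · exact t1692_pchk_1575
  · exact t1692_pchk_1576
  · exact t1692_pchk_1577
  · exact t1692_pchk_1578
  · exact t1692_pchk_1579
  · exact t1692_pchk_1580
  · exact t1692_pchk_1581
  · exact t1692_pchk_1582
  · exact t1692_pchk_1583
  · exact t1692_pchk_1584
  · exact t1692_pchk_1585
  · exact t1692_pchk_1586
  · exact t1692_pchk_1587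
  · exact t1692_pchk_1588
  · exact t1692_pchk_1589
  · exact t1692_pchk_1590
  · exact t1692_pchk_1591
  · exact t1692_pchk_1592
  · exact t1692_pchk_1593
  · exact t1692_pchk_1594
  · exact t1692_pchk_1595
  · exact t1692_pchk_1596
  · exact t1692_pchk_1597
  · exact t1692_pchk_1598
  · exact t1692_pchk_1599
  · exact t1692_pchk_1600
  · exact t1692_pchk_1601
  · exact t1692_pchk_1602
  · exact t1692_pchk_1603
  · exact t1692_pchk_1604
  · exact t1692_pchk_1605
  · exact t1692_pchk_1606
  · exact t1692_pchk_1607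
  · exact t1692_pchk_1608
  · exact t1692_pchk_1609
  · exact t1692_pchk_1610
  · exact t1692_pchk_1611
  · exact t1692_pchk_1612
  · exact t1692_pchk_1613
  · exact t1692_pchk_1614
  · exact t1692_pchk_1615
  · exact t1692_pchk_1616
  · exact t1692_pchk_1617
  · exact t1692_pchk_1618
  · exact t1692_pchk_1619
  · exact t1692_pchk_1620
  · exact t1692_pchk_1621
  · exact t1692_pchk_1622
  · exact t1692_pchk_1623
  · exact t1692_pchk_1624
  · exact t1692_pchk_1625
  · exact t1692_pchk_1626
  · exact t1692_pchk_1627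
  · exact t1692_pchk_1628
  · exact t1692_pchk_1629
  · exact t1692_pchk_1630
  · exact t1692_pchk_1631
  · exact t1692_pchk_1632
  · exact t1692_pchk_1633
  · exact t1692_pchk_1634
  · exact t1692_pchk_1635
  · exact t1692_pchk_1636
  · exact t1692_pchk_1637
  · exact t1692_pchk_1638
  · exact t1692_pchk_1639
  · exact t1692_pchk_1640
  · exact t1692_pchk_1641
  · exact t1692_pchk_1642
  · exact t1692_pchk_1643
  · exact t1692_pchk_1644
  · exact t1692_pchk_1645
  · exact t1692_pchk_1646
  · exact t1692_pchk_1647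
  · exact t1692_pchk_1648
  · exact t1692_pchk_1649
  · exact t1692_pchk_1650
  · exact t1692_pchk_1651
  · exact t1692_pchk_1652
  · exact t1692_pchk_1653
  · exact t1692_pchk_1654
  · exact t1692_pchk_1655
  · exact t1692_pchk_1656
  · exact t1692_pchk_1657
  · exact t1692_pchk_1658
  · exact t1692_pchk_1659
  · exact t1692_pchk_1660
  · exact t1692_pchk_1661
  · exact t1692_pchk_1662
  · exact t1692_pchk_1663
  · exact t1692_pchk_1664
  · exact t1692_pchk_1665
  · exact t1692_pchk_1666
  · exact t1692_pchk_1667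
  · exact t1692_pchk_1668
  · exact t1692_pchk_1669
  · exact t1692_pchk_1670
  · exact t1692_pchk_1671
  · exact t1692_pchk_1672
  · exact t1692_pchk_1673
  · exact t1692_pchk_1674
  · exact t1692_pchk_1675
  · exact t1692_pchk_1676
  · exact t1692_pchk_1677
  · exact t1692_pchk_1678
  · exact t1692_pchk_1679

end Cfsg.Agent.H35
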