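import Cfsg.Agent.H35.T1692.PTab

set_option autoImplicit false
set_option linter.all false
set_option Elab.async false

namespace Cfsg.Agent.H35

theorem t1692_pchk_1680 : allR t1692_pf 122760 6 (1680 * 2 ^ 6) = true := by decide +kernel
theorem t1692_pchk_1681 : allR t1692_pf 122760 6 (1681 * 2 ^ 6) = true := by decide +kernel
theorem t1692_pchk_1682 : allR t1692_pf 122760 6 (1682 * 2 ^ 6) = true := by decide +kernel
theorem t1692_pchk_1683 : allR t1692_pf 122760 6 (1683 * 2 ^ 6) = true := by decide +kernel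
theorem t1692_pchk_1684 : allR t1692_pf 122760 6 (1684 * 2 ^ 6) = true := by decide +kernel
theorem t1692_pchk_1685 : allR t1692_pf 122760 6 (1685 * 2 ^ 6) = true := by decide +kernel
theorem t1692_pchk_1686 : allR t1692_pf 122760 6 (1686 * 2 ^ 6) = true := by decide +kernel
theorem t1692_pchk_1687 : allR t1692_pf 122760 6 (1687 * 2 ^ 6) = true := by decide +kernel
theorem t1692_pchk_1688 : allR t1692_pf 122760 6 (1688 * 2 ^ 6) = true := by decide +kernel
theorem t1692_pchk_1689 : allR t1692_pf 122760 6 (1689 * 2 ^ 6) = true := by decide +kernel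
theorem t1692_pchk_1690 : allR t1692_pf 122760 6 (1690 * 2 ^ 6) = true := by decide +kernel
theorem t1692_pchk_1691 : allR t1692_pf 122760 6 (1691 * 2 ^ 6) = true := by decide +kernel
theorem t1692_pchk_1692 : allR t1692_pf 122760 6 (1692 * 2 ^ 6) = true := by decide +kernel
theorem t1692_pchk_1693 : allR t1692_pf 122760 6 (1693 * 2 ^ 6) = true := by decide +kernel
theorem t1692_pchk_1694 : allR t1692_pf 122760 6 (1694 * 2 ^ 6) = true := by decide +kernel
theorem t1692_pchk_1695 : allR t1692_pf 122760 6 (1695 * 2 ^ 6) = true := by decide +kernel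
theorem t1692_pchk_1696 : allR t1692_pf 122760 6 (1696 * 2 ^ 6) = true := by decide +kernel
theorem t1692_pchk_1697 : allR t1692_pf 122760 6 (1697 * 2 ^ 6) = true := by decide +kernel
theorem t1692_pchk_1698 : allR t1692_pf 122760 6 (1698 * 2 ^ 6) = true := by decide +kernel
theorem t1692_pchk_1699 : allR t1692_pf 122760 6 (1699 * 2 ^ 6) = true := by decide +kernel
theorem t1692_pchk_1700 : allR t1692_pf 122760 6 (1700 * 2 ^ 6) = true := by decide +kernel
theorem t1692_pchk_1701 : allR t1692_pf 122760 6 (1701 * 2 ^ 6) = true := by decide +kernel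
theorem t1692_pchk_1702 : allR t1692_pf 122760 6 (1702 * 2 ^ 6) = true := by decide +kernel
theorem t1692_pchk_1703 : allR t1692_pf 122760 6 (1703 * 2 ^ 6) = true := by decide +kernel
theorem t1692_pchk_1704 : allR t1692_pf 122760 6 (1704 * 2 ^ 6) = true := by decide +kernel
theorem t1692_pchk_1705 : allR t1692_pf 122760 6 (1705 * 2 ^ 6) = true := by decide +kernel
theorem t1692_pchk_1706 : allR t1692_pf 122760 6 (1706 * 2 ^ 6) = true := by decide +kernel
theorem t1692_pchk_1707 : allR t1692_pf 122760 6 (1707 * 2 ^ 6) = true := by decide +kernel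
theorem t1692_pchk_1708 : allR t1692_pf 122760 6 (1708 * 2 ^ 6) = true := by decide +kernel
theorem t1692_pchk_1709 : allR t1692_pf 122760 6 (1709 * 2 ^ 6) = true := by decide +kernel
theorem t1692_pchk_1710 : allR t1692_pf 122760 6 (1710 * 2 ^ 6) = true := by decide +kernel
theorem t1692_pchk_1711 : allR t1692_pf 122760 6 (1711 * 2 ^ 6) = true := by decide +kernel
theorem t1692_pchk_1712 : allR t1692_pf 122760 6 (1712 * 2 ^ 6) = true := by decide +kernel
theorem t1692_pchk_1713 : allR t1692_pf 122760 6 (1713 * 2 ^ 6) = true := by decide +kernel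
theorem t1692_pchk_1714 : allR t1692_pf 122760 6 (1714 * 2 ^ 6) = true := by decide +kernel
theorem t1692_pchk_1715 : allR t1692_pf 122760 6 (1715 * 2 ^ 6) = true := by decide +kernel
theorem t1692_pchk_1716 : allR t1692_pf 122760 6 (1716 * 2 ^ 6) = true := by decide +kernel
theorem t1692_pchk_1717 : allR t1692_pf 122760 6 (1717 * 2 ^ 6) = true := by decide +kernel
theorem t1692_pchk_1718 : allR t1692_pf 122760 6 (1718 * 2 ^ 6) = true := by decide +kernel
theorem t1692_pchk_1719 : allR t1692_pf 122760 6 (1719 * 2 ^ 6) = true := by decide +kernel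
theorem t1692_pchk_1720 : allR t1692_pf 122760 6 (1720 * 2 ^ 6) = true := by decide +kernel
theorem t1692_pchk_1721 : allR t1692_pf 122760 6 (1721 * 2 ^ 6) = true := by decide +kernel
theorem t1692_pchk_1722 : allR t1692_pf 122760 6 (1722 * 2 ^ 6) = true := by decide +kernel
theorem t1692_pchk_1723 : allR t1692_pf 122760 6 (1723 * 2 ^ 6) = true := by decide +kernel
theorem t1692_pchk_1724 : allR t1692_pf 122760 6 (1724 * 2 ^ 6) = true := by decide +kernel
theorem t1692_pchk_1725 : allR t1692_pf 122760 6 (1725 * 2 ^ 6) = true := by decide +kernel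
theorem t1692_pchk_1726 : allR t1692_pf 122760 6 (1726 * 2 ^ 6) = true := by decide +kernel
theorem t1692_pchk_1727 : allR t1692_pf 122760 6 (1727 * 2 ^ 6) = true := by decide +kernel
theorem t1692_pchk_1728 : allR t1692_pf 122760 6 (1728 * 2 ^ 6) = true := by decide +kernel
theorem t1692_pchk_1729 : allR t1692_pf 122760 6 (1729 * 2 ^ 6) = true := by decide +kernel
theorem t1692_pchk_1730 : allR t1692_pf 122760 6 (1730 * 2 ^ 6) = true := by decide +kernel
theorem t1692_pchk_1731 : allR t1692_pf 122760 6 (1731 * 2 ^ 6) = true := by decide +kernel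
theorem t1692_pchk_1732 : allR t1692_pf 122760 6 (1732 * 2 ^ 6) = true := by decide +kernel
theorem t1692_pchk_1733 : allR t1692_pf 122760 6 (1733 * 2 ^ 6) = true := by decide +kernel
theorem t1692_pchk_1734 : allR t1692_pf 122760 6 (1734 * 2 ^ 6) = true := by decide +kernel
theorem t1692_pchk_1735 : allR t1692_pf 122760 6 (1735 * 2 ^ 6) = true := by decide +kernel
theorem t1692_pchk_1736 : allR t1692_pf 122760 6 (1736 * 2 ^ 6) = true := by decide +kernel
theorem t1692_pchk_1737 : allR t1692_pf 122760 6 (1737 * 2 ^ 6) = true := by decide +kernel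
theorem t1692_pchk_1738 : allR t1692_pf 122760 6 (1738 * 2 ^ 6) = true := by decide +kernel
theorem t1692_pchk_1739 : allR t1692_pf 122760 6 (1739 * 2 ^ 6) = true := by decide +kernel
theorem t1692_pchk_1740 : allR t1692_pf 122760 6 (1740 * 2 ^ 6) = true := by decide +kernel
theorem t1692_pchk_1741 : allR t1692_pf 122760 6 (1741 * 2 ^ 6) = true := by decide +kernel
theorem t1692_pchk_1742 : allR t1692_pf 122760 6 (1742 * 2 ^ 6) = true := by decide +kernel
theorem t1692_pchk_1743 : allR t1692_pf 122760 6 (1743 * 2 ^ 6) = true := by decide +kernel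
theorem t1692_pchk_1744 : allR t1692_pf 122760 6 (1744 * 2 ^ 6) = true := by decide +kernel
theorem t1692_pchk_1745 : allR t1692_pf 122760 6 (1745 * 2 ^ 6) = true := by decide +kernel
theorem t1692_pchk_1746 : allR t1692_pf 122760 6 (1746 * 2 ^ 6) = true := by decide +kernel
theorem t1692_pchk_1747 : allR t1692_pf 122760 6 (1747 * 2 ^ 6) = true := by decide +kernel
theorem t1692_pchk_1748 : allR t1692_pf 122760 6 (1748 * 2 ^ 6) = true := by decide +kernel
theorem t1692_pchk_1749 : allR t1692_pf 122760 6 (1749 * 2 ^ 6) = true := by decide +kernel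
theorem t1692_pchk_1750 : allR t1692_pf 122760 6 (1750 * 2 ^ 6) = true := by decide +kernel
theorem t1692_pchk_1751 : allR t1692_pf 122760 6 (1751 * 2 ^ 6) = true := by decide +kernel
theorem t1692_pchk_1752 : allR t1692_pf 122760 6 (1752 * 2 ^ 6) = true := by decide +kernel
theorem t1692_pchk_1753 : allR t1692_pf 122760 6 (1753 * 2 ^ 6) = true := by decide +kernel
theorem t1692_pchk_1754 : allR t1692_pf 122760 6 (1754 * 2 ^ 6) = true := by decide +kernel
theorem t1692_pchk_1755 : allR t1692_pf 122760 6 (1755 * 2 ^ 6) = true := by decide +kernel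
theorem t1692_pchk_1756 : allR t1692_pf 122760 6 (1756 * 2 ^ 6) = true := by decide +kernel
theorem t1692_pchk_1757 : allR t1692_pf 122760 6 (1757 * 2 ^ 6) = true := by decide +kernel
theorem t1692_pchk_1758 : allR t1692_pf 122760 6 (1758 * 2 ^ 6) = true := by decide +kernel
theorem t1692_pchk_1759 : allR t1692_pf 122760 6 (1759 * 2 ^ 6) = true := by decide +kernel
theorem t1692_pchk_1760 : allR t1692_pf 122760 6 (1760 * 2 ^ 6) = true := by decide +kernel
theorem t1692_pchk_1761 : allR t1692_pf 122760 6 (1761 * 2 ^ 6) = true := by decide +kernel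
theorem t1692_pchk_1762 : allR t1692_pf 122760 6 (1762 * 2 ^ 6) = true := by decide +kernel
theorem t1692_pchk_1763 : allR t1692_pf 122760 6 (1763 * 2 ^ 6) = true := by decide +kernel
theorem t1692_pchk_1764 : allR t1692_pf 122760 6 (1764 * 2 ^ 6) = true := by decide +kernel
theorem t1692_pchk_1765 : allR t1692_pf 122760 6 (1765 * 2 ^ 6) = true := by decide +kernel
theorem t1692_pchk_1766 : allR t1692_pf 122760 6 (1766 * 2 ^ 6) = true := by decide +kernel
theorem t1692_pchk_1767 : allR t1692_pf 122760 6 (1767 * 2 ^ 6) = true := by decide +kernel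
theorem t1692_pchk_1768 : allR t1692_pf 122760 6 (1768 * 2 ^ 6) = true := by decide +kernel
theorem t1692_pchk_1769 : allR t1692_pf 122760 6 (1769 * 2 ^ 6) = true := by decide +kernel
theorem t1692_pchk_1770 : allR t1692_pf 122760 6 (1770 * 2 ^ 6) = true := by decide +kernel
theorem t1692_pchk_1771 : allR t1692_pf 122760 6 (1771 * 2 ^ 6) = true := by decide +kernel
theorem t1692_pchk_1772 : allR t1692_pf 122760 6 (1772 * 2 ^ 6) = true := by decide +kernel
theorem t1692_pchk_1773 : allR t1692_pf 122760 6 (1773 * 2 ^ 6) = true := by decide +kernel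
theorem t1692_pchk_1774 : allR t1692_pf 122760 6 (1774 * 2 ^ 6) = true := by decide +kernel
theorem t1692_pchk_1775 : allR t1692_pf 122760 6 (1775 * 2 ^ 6) = true := by decide +kernel
theorem t1692_pchk_1776 : allR t1692_pf 122760 6 (1776 * 2 ^ 6) = true := by decide +kernel
theorem t1692_pchk_1777 : allR t1692_pf 122760 6 (1777 * 2 ^ 6) = true := by decide +kernel
theorem t1692_pchk_1778 : allR t1692_pf 122760 6 (1778 * 2 ^ 6) = true := by decide +kernel
theorem t1692_pchk_1779 : allR t1692_pf 122760 6 (1779 * 2 ^ 6) = true := by decide +kernel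
theorem t1692_pchk_1780 : allR t1692_pf 122760 6 (1780 * 2 ^ 6) = true := by decide +kernel
theorem t1692_pchk_1781 : allR t1692_pf 122760 6 (1781 * 2 ^ 6) = true := by decide +kernel
theorem t1692_pchk_1782 : allR t1692_pf 122760 6 (1782 * 2 ^ 6) = true := by decide +kernel
theorem t1692_pchk_1783 : allR t1692_pf 122760 6 (1783 * 2 ^ 6) = true := by decide +kernel
theorem t1692_pchk_1784 : allR t1692_pf 122760 6 (1784 * 2 ^ 6) = true := by decide +kernel
theorem t1692_pchk_1785 : allR t1692_pf 122760 6 (1785 * 2 ^ 6) = true := by decide +kernel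
theorem t1692_pchk_1786 : allR t1692_pf 122760 6 (1786 * 2 ^ 6) = true := by decide +kernel
theorem t1692_pchk_1787 : allR t1692_pf 122760 6 (1787 * 2 ^ 6) = true := by decide +kernel
theorem t1692_pchk_1788 : allR t1692_pf 122760 6 (1788 * 2 ^ 6) = true := by decide +kernel
theorem t1692_pchk_1789 : allR t1692_pf 122760 6 (1789 * 2 ^ 6) = true := by decide +kernel
theorem t1692_pchk_1790 : allR t1692_pf 122760 6 (1790 * 2 ^ 6) = true := by decide +kernel
theorem t1692_pchk_1791 : allR t1692_pf 122760 6 (1791 * 2 ^ 6) = true := by decide +kernel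
theorem t1692_pchk_1792 : allR t1692_pf 122760 6 (1792 * 2 ^ 6) = true := by decide +kernel
theorem t1692_pchk_1793 : allR t1692_pf 122760 6 (1793 * 2 ^ 6) = true := by decide +kernel
theorem t1692_pchk_1794 : allR t1692_pf 122760 6 (1794 * 2 ^ 6) = true := by decide +kernel
theorem t1692_pchk_1795 : allR t1692_pf 122760 6 (1795 * 2 ^ 6) = true := by decide +kernel
theorem t1692_pchk_1796 : allR t1692_pf 122760 6 (1796 * 2 ^ 6) = true := by decide +kernel
theorem t1692_pchk_1797 : allR t1692_pf 122760 6 (1797 * 2 ^ 6) = true := by decide +kernel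
theorem t1692_pchk_1798 : allR t1692_pf 122760 6 (1798 * 2 ^ 6) = true := by decide +kernel
theorem t1692_pchk_1799 : allR t1692_pf 122760 6 (1799 * 2 ^ 6) = true := by decide +kernel

theorem t1692_pfile_14 : ∀ k, k < 1800 → 1680 ≤ k → allR t1692_pf 122760 6 (k * 2 ^ 6) = true := by
  intro k h1 h2
  interval_cases k
  · exact t1692_pchk_1680
  · exact t1692_pchk_1681
  · exact t1692_pchk_1682
  · exact t1692_pchk_1683
  · exact t1692_pchk_1684
  · exact t1692_pchk_1685
  · exact t1692_pchk_1686
  · exact t1692_pchk_1687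
  · exact t1692_pchk_1688
  · exact t1692_pchk_1689
  · exact t1692_pchk_1690
  · exact t1692_pchk_1691
  · exact t1692_pchk_1692
  · exact t1692_pchk_1693
  · exact t1692_pchk_1694
  · exact t1692_pchk_1695
  · exact t1692_pchk_1696
  · exact t1692_pchk_1697
  · exact t1692_pchk_1698
  · exact t1692_pchk_1699
  · exact t1692_pchk_1700
  · exact t1692_pchk_1701
  · exact t1692_pchk_1702
  · exact t1692_pchk_1703
  · exact t1692_pchk_1704
  · exact t1692_pchk_1705
  · exact t1692_pchk_1706
  · exact t1692_pchk_1707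
  · exact t1692_pchk_1708
  · exact t1692_pchk_1709
  · exact t1692_pchk_1710
  · exact t1692_pchk_1711
  · exact t1692_pchk_1712
  · exact t1692_pchk_1713
  · exact t1692_pchk_1714
  · exact t1692_pchk_1715
  · exact t1692_pchk_1716
  · exact t1692_pchk_1717
  · exact t1692_pchk_1718
  · exact t1692_pchk_1719
  · exact t1692_pchk_1720
  · exact t1692_pchk_1721
  · exact t1692_pchk_1722
  · exact t1692_pchk_1723
  · exact t1692_pchk_1724
  · exact t1692_pchk_1725
  · exact t1692_pchk_1726
  · exact t1692_pchk_1727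
  · exact t1692_pchk_1728
  · exact t1692_pchk_1729
  · exact t1692_pchk_1730
  · exact t1692_pchk_1731
  · exact t1692_pchk_1732
  · exact t1692_pchk_1733
  · exact t1692_pchk_1734
  · exact t1692_pchk_1735
  · exact t1692_pchk_1736
  · exact t1692_pchk_1737
  · exact t1692_pchk_1738
  · exact t1692_pchk_1739
  · exact t1692_pchk_1740
  · exact t1692_pchk_1741
  · exact t1692_pchk_1742
  · exact t1692_pchk_1743
  · exact t1692_pchk_1744
  · exact t1692_pchk_1745
  · exact t1692_pchk_1746
  · exact t1692_pchk_1747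
  · exact t1692_pchk_1748
  · exact t1692_pchk_1749
  · exact t1692_pchk_1750
  · exact t1692_pchk_1751
  · exact t1692_pchk_1752
  · exact t1692_pchk_1753
  · exact t1692_pchk_1754
  · exact t1692_pchk_1755
  · exact t1692_pchk_1756
  · exact t1692_pchk_1757
  · exact t1692_pchk_1758
  · exact t1692_pchk_1759
  · exact t1692_pchk_1760
  · exact t1692_pchk_1761
  · exact t1692_pchk_1762
  · exact t1692_pchk_1763
  · exact t1692_pchk_1764
  · exact t1692_pchk_1765
  · exact t1692_pchk_1766
  · exact t1692_pchk_1767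
  · exact t1692_pchk_1768
  · exact t1692_pchk_1769
  · exact t1692_pchk_1770
  · exact t1692_pchk_1771
  · exact t1692_pchk_1772
  · exact t1692_pchk_1773
  · exact t1692_pchk_1774
  · exact t1692_pchk_1775
  · exact t1692_pchk_1776
  · exact t1692_pchk_1777
  · exact t1692_pchk_1778
  · exact t1692_pchk_1779
  · exact t1692_pchk_1780
  · exact t1692_pchk_1781
  · exact t1692_pchk_1782
  · exact t1692_pchk_1783
  · exact t1692_pchk_1784
  · exact t1692_pchk_1785
  · exact t1692_pchk_1786
  · exact t1692_pchk_1787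
  · exact t1692_pchk_1788
  · exact t1692_pchk_1789
  · exact t1692_pchk_1790
  · exact t1692_pchk_1791
  · exact t1692_pchk_1792
  · exact t1692_pchk_1793
  · exact t1692_pchk_1794
  · exact t1692_pchk_1795
  · exact t1692_pchk_1796
  · exact t1692_pchk_1797
  · exact t1692_pchk_1798
  · exact t1692_pchk_1799

end Cfsg.Agent.H35
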