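import Cfsg.Agent.H35.T1692.PTab

set_option autoImplicit false
set_option linter.all false
set_option Elab.async false

namespace Cfsg.Agent.H35

theorem t1692_pchk_240 : allR t1692_pf 122760 6 (240 * 2 ^ 6) = true := by decide +kernel
theorem t1692_pchk_241 : allR t1692_pf 122760 6 (241 * 2 ^ 6) = true := by decide +kernel
theorem t1692_pchk_242 : allR t1692_pf 122760 6 (242 * 2 ^ 6) = true := by decide +kernel
theorem t1692_pchk_243 : allR t1692_pf 122760 6 (243 * 2 ^ 6) = true := by decide +kernel
theorem t1692_pchk_244 : allR t1692_pf 122760 6 (244 * 2 ^ 6) = true := by decide +kernel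
theorem t1692_pchk_245 : allR t1692_pf 122760 6 (245 * 2 ^ 6) = true := by decide +kernel
theorem t1692_pchk_246 : allR t1692_pf 122760 6 (246 * 2 ^ 6) = true := by decide +kernel
theorem t1692_pchk_247 : allR t1692_pf 122760 6 (247 * 2 ^ 6) = true := by decide +kernel
theorem t1692_pchk_248 : allR t1692_pf 122760 6 (248 * 2 ^ 6) = true := by decide +kernel
theorem t1692_pchk_249 : allR t1692_pf 122760 6 (249 * 2 ^ 6) = true := by decide +kernel
theorem t1692_pchk_250 : allR t1692_pf 122760 6 (250 * 2 ^ 6) = true := by decide +kernel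
theorem t1692_pchk_251 : allR t1692_pf 122760 6 (251 * 2 ^ 6) = true := by decide +kernel
theorem t1692_pchk_252 : allR t1692_pf 122760 6 (252 * 2 ^ 6) = true := by decide +kernel
theorem t1692_pchk_253 : allR t1692_pf 122760 6 (253 * 2 ^ 6) = true := by decide +kernel
theorem t1692_pchk_254 : allR t1692_pf 122760 6 (254 * 2 ^ 6) = true := by decide +kernel
theorem t1692_pchk_255 : allR t1692_pf 122760 6 (255 * 2 ^ 6) = true := by decide +kernel
theorem t1692_pchk_256 : allR t1692_pf 122760 6 (256 * 2 ^ 6) = true := by decide +kernel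
theorem t1692_pchk_257 : allR t1692_pf 122760 6 (257 * 2 ^ 6) = true := by decide +kernel
theorem t1692_pchk_258 : allR t1692_pf 122760 6 (258 * 2 ^ 6) = true := by decide +kernel
theorem t1692_pchk_259 : allR t1692_pf 122760 6 (259 * 2 ^ 6) = true := by decide +kernel
theorem t1692_pchk_260 : allR t1692_pf 122760 6 (260 * 2 ^ 6) = true := by decide +kernel
theorem t1692_pchk_261 : allR t1692_pf 122760 6 (261 * 2 ^ 6) = true := by decide +kernel
theorem t1692_pchk_262 : allR t1692_pf 122760 6 (262 * 2 ^ 6) = true := by decide +kernel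
theorem t1692_pchk_263 : allR t1692_pf 122760 6 (263 * 2 ^ 6) = true := by decide +kernel
theorem t1692_pchk_264 : allR t1692_pf 122760 6 (264 * 2 ^ 6) = true := by decide +kernel
theorem t1692_pchk_265 : allR t1692_pf 122760 6 (265 * 2 ^ 6) = true := by decide +kernel
theorem t1692_pchk_266 : allR t1692_pf 122760 6 (266 * 2 ^ 6) = true := by decide +kernel
theorem t1692_pchk_267 : allR t1692_pf 122760 6 (267 * 2 ^ 6) = true := by decide +kernel
theorem t1692_pchk_268 : allR t1692_pf 122760 6 (268 * 2 ^ 6) = true := by decide +kernel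
theorem t1692_pchk_269 : allR t1692_pf 122760 6 (269 * 2 ^ 6) = true := by decide +kernel
theorem t1692_pchk_270 : allR t1692_pf 122760 6 (270 * 2 ^ 6) = true := by decide +kernel
theorem t1692_pchk_271 : allR t1692_pf 122760 6 (271 * 2 ^ 6) = true := by decide +kernel
theorem t1692_pchk_272 : allR t1692_pf 122760 6 (272 * 2 ^ 6) = true := by decide +kernel
theorem t1692_pchk_273 : allR t1692_pf 122760 6 (273 * 2 ^ 6) = true := by decide +kernel
theorem t1692_pchk_274 : allR t1692_pf 122760 6 (274 * 2 ^ 6) = true := by decide +kernel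
theorem t1692_pchk_275 : allR t1692_pf 122760 6 (275 * 2 ^ 6) = true := by decide +kernel
theorem t1692_pchk_276 : allR t1692_pf 122760 6 (276 * 2 ^ 6) = true := by decide +kernel
theorem t1692_pchk_277 : allR t1692_pf 122760 6 (277 * 2 ^ 6) = true := by decide +kernel
theorem t1692_pchk_278 : allR t1692_pf 122760 6 (278 * 2 ^ 6) = true := by decide +kernel
theorem t1692_pchk_279 : allR t1692_pf 122760 6 (279 * 2 ^ 6) = true := by decide +kernel
theorem t1692_pchk_280 : allR t1692_pf 122760 6 (280 * 2 ^ 6) = true := by decide +kernel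
theorem t1692_pchk_281 : allR t1692_pf 122760 6 (281 * 2 ^ 6) = true := by decide +kernel
theorem t1692_pchk_282 : allR t1692_pf 122760 6 (282 * 2 ^ 6) = true := by decide +kernel
theorem t1692_pchk_283 : allR t1692_pf 122760 6 (283 * 2 ^ 6) = true := by decide +kernel
theorem t1692_pchk_284 : allR t1692_pf 122760 6 (284 * 2 ^ 6) = true := by decide +kernel
theorem t1692_pchk_285 : allR t1692_pf 122760 6 (285 * 2 ^ 6) = true := by decide +kernel
theorem t1692_pchk_286 : allR t1692_pf 122760 6 (286 * 2 ^ 6) = true := by decide +kernel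
theorem t1692_pchk_287 : allR t1692_pf 122760 6 (287 * 2 ^ 6) = true := by decide +kernel
theorem t1692_pchk_288 : allR t1692_pf 122760 6 (288 * 2 ^ 6) = true := by decide +kernel
theorem t1692_pchk_289 : allR t1692_pf 122760 6 (289 * 2 ^ 6) = true := by decide +kernel
theorem t1692_pchk_290 : allR t1692_pf 122760 6 (290 * 2 ^ 6) = true := by decide +kernel
theorem t1692_pchk_291 : allR t1692_pf 122760 6 (291 * 2 ^ 6) = true := by decide +kernel
theorem t1692_pchk_292 : allR t1692_pf 122760 6 (292 * 2 ^ 6) = true := by decide +kernel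
theorem t1692_pchk_293 : allR t1692_pf 122760 6 (293 * 2 ^ 6) = true := by decide +kernel
theorem t1692_pchk_294 : allR t1692_pf 122760 6 (294 * 2 ^ 6) = true := by decide +kernel
theorem t1692_pchk_295 : allR t1692_pf 122760 6 (295 * 2 ^ 6) = true := by decide +kernel
theorem t1692_pchk_296 : allR t1692_pf 122760 6 (296 * 2 ^ 6) = true := by decide +kernel
theorem t1692_pchk_297 : allR t1692_pf 122760 6 (297 * 2 ^ 6) = true := by decide +kernel
theorem t1692_pchk_298 : allR t1692_pf 122760 6 (298 * 2 ^ 6) = true := by decide +kernel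
theorem t1692_pchk_299 : allR t1692_pf 122760 6 (299 * 2 ^ 6) = true := by decide +kernel
theorem t1692_pchk_300 : allR t1692_pf 122760 6 (300 * 2 ^ 6) = true := by decide +kernel
theorem t1692_pchk_301 : allR t1692_pf 122760 6 (301 * 2 ^ 6) = true := by decide +kernel
theorem t1692_pchk_302 : allR t1692_pf 122760 6 (302 * 2 ^ 6) = true := by decide +kernel
theorem t1692_pchk_303 : allR t1692_pf 122760 6 (303 * 2 ^ 6) = true := by decide +kernel
theorem t1692_pchk_304 : allR t1692_pf 122760 6 (304 * 2 ^ 6) = true := by decide +kernel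
theorem t1692_pchk_305 : allR t1692_pf 122760 6 (305 * 2 ^ 6) = true := by decide +kernel
theorem t1692_pchk_306 : allR t1692_pf 122760 6 (306 * 2 ^ 6) = true := by decide +kernel
theorem t1692_pchk_307 : allR t1692_pf 122760 6 (307 * 2 ^ 6) = true := by decide +kernel
theorem t1692_pchk_308 : allR t1692_pf 122760 6 (308 * 2 ^ 6) = true := by decide +kernel
theorem t1692_pchk_309 : allR t1692_pf 122760 6 (309 * 2 ^ 6) = true := by decide +kernel
theorem t1692_pchk_310 : allR t1692_pf 122760 6 (310 * 2 ^ 6) = true := by decide +kernel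
theorem t1692_pchk_311 : allR t1692_pf 122760 6 (311 * 2 ^ 6) = true := by decide +kernel
theorem t1692_pchk_312 : allR t1692_pf 122760 6 (312 * 2 ^ 6) = true := by decide +kernel
theorem t1692_pchk_313 : allR t1692_pf 122760 6 (313 * 2 ^ 6) = true := by decide +kernel
theorem t1692_pchk_314 : allR t1692_pf 122760 6 (314 * 2 ^ 6) = true := by decide +kernel
theorem t1692_pchk_315 : allR t1692_pf 122760 6 (315 * 2 ^ 6) = true := by decide +kernel
theorem t1692_pchk_316 : allR t1692_pf 122760 6 (316 * 2 ^ 6) = true := by decide +kernel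
theorem t1692_pchk_317 : allR t1692_pf 122760 6 (317 * 2 ^ 6) = true := by decide +kernel
theorem t1692_pchk_318 : allR t1692_pf 122760 6 (318 * 2 ^ 6) = true := by decide +kernel
theorem t1692_pchk_319 : allR t1692_pf 122760 6 (319 * 2 ^ 6) = true := by decide +kernel
theorem t1692_pchk_320 : allR t1692_pf 122760 6 (320 * 2 ^ 6) = true := by decide +kernel
theorem t1692_pchk_321 : allR t1692_pf 122760 6 (321 * 2 ^ 6) = true := by decide +kernel
theorem t1692_pchk_322 : allR t1692_pf 122760 6 (322 * 2 ^ 6) = true := by decide +kernel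
theorem t1692_pchk_323 : allR t1692_pf 122760 6 (323 * 2 ^ 6) = true := by decide +kernel
theorem t1692_pchk_324 : allR t1692_pf 122760 6 (324 * 2 ^ 6) = true := by decide +kernel
theorem t1692_pchk_325 : allR t1692_pf 122760 6 (325 * 2 ^ 6) = true := by decide +kernel
theorem t1692_pchk_326 : allR t1692_pf 122760 6 (326 * 2 ^ 6) = true := by decide +kernel
theorem t1692_pchk_327 : allR t1692_pf 122760 6 (327 * 2 ^ 6) = true := by decide +kernel
theorem t1692_pchk_328 : allR t1692_pf 122760 6 (328 * 2 ^ 6) = true := by decide +kernel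
theorem t1692_pchk_329 : allR t1692_pf 122760 6 (329 * 2 ^ 6) = true := by decide +kernel
theorem t1692_pchk_330 : allR t1692_pf 122760 6 (330 * 2 ^ 6) = true := by decide +kernel
theorem t1692_pchk_331 : allR t1692_pf 122760 6 (331 * 2 ^ 6) = true := by decide +kernel
theorem t1692_pchk_332 : allR t1692_pf 122760 6 (332 * 2 ^ 6) = true := by decide +kernel
theorem t1692_pchk_333 : allR t1692_pf 122760 6 (333 * 2 ^ 6) = true := by decide +kernel
theorem t1692_pchk_334 : allR t1692_pf 122760 6 (334 * 2 ^ 6) = true := by decide +kernel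
theorem t1692_pchk_335 : allR t1692_pf 122760 6 (335 * 2 ^ 6) = true := by decide +kernel
theorem t1692_pchk_336 : allR t1692_pf 122760 6 (336 * 2 ^ 6) = true := by decide +kernel
theorem t1692_pchk_337 : allR t1692_pf 122760 6 (337 * 2 ^ 6) = true := by decide +kernel
theorem t1692_pchk_338 : allR t1692_pf 122760 6 (338 * 2 ^ 6) = true := by decide +kernel
theorem t1692_pchk_339 : allR t1692_pf 122760 6 (339 * 2 ^ 6) = true := by decide +kernel
theorem t1692_pchk_340 : allR t1692_pf 122760 6 (340 * 2 ^ 6) = true := by decide +kernel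
theorem t1692_pchk_341 : allR t1692_pf 122760 6 (341 * 2 ^ 6) = true := by decide +kernel
theorem t1692_pchk_342 : allR t1692_pf 122760 6 (342 * 2 ^ 6) = true := by decide +kernel
theorem t1692_pchk_343 : allR t1692_pf 122760 6 (343 * 2 ^ 6) = true := by decide +kernel
theorem t1692_pchk_344 : allR t1692_pf 122760 6 (344 * 2 ^ 6) = true := by decide +kernel
theorem t1692_pchk_345 : allR t1692_pf 122760 6 (345 * 2 ^ 6) = true := by decide +kernel
theorem t1692_pchk_346 : allR t1692_pf 122760 6 (346 * 2 ^ 6) = true := by decide +kernel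
theorem t1692_pchk_347 : allR t1692_pf 122760 6 (347 * 2 ^ 6) = true := by decide +kernel
theorem t1692_pchk_348 : allR t1692_pf 122760 6 (348 * 2 ^ 6) = true := by decide +kernel
theorem t1692_pchk_349 : allR t1692_pf 122760 6 (349 * 2 ^ 6) = true := by decide +kernel
theorem t1692_pchk_350 : allR t1692_pf 122760 6 (350 * 2 ^ 6) = true := by decide +kernel
theorem t1692_pchk_351 : allR t1692_pf 122760 6 (351 * 2 ^ 6) = true := by decide +kernel
theorem t1692_pchk_352 : allR t1692_pf 122760 6 (352 * 2 ^ 6) = true := by decide +kernel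
theorem t1692_pchk_353 : allR t1692_pf 122760 6 (353 * 2 ^ 6) = true := by decide +kernel
theorem t1692_pchk_354 : allR t1692_pf 122760 6 (354 * 2 ^ 6) = true := by decide +kernel
theorem t1692_pchk_355 : allR t1692_pf 122760 6 (355 * 2 ^ 6) = true := by decide +kernel
theorem t1692_pchk_356 : allR t1692_pf 122760 6 (356 * 2 ^ 6) = true := by decide +kernel
theorem t1692_pchk_357 : allR t1692_pf 122760 6 (357 * 2 ^ 6) = true := by decide +kernel
theorem t1692_pchk_358 : allR t1692_pf 122760 6 (358 * 2 ^ 6) = true := by decide +kernel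
theorem t1692_pchk_359 : allR t1692_pf 122760 6 (359 * 2 ^ 6) = true := by decide +kernel

theorem t1692_pfile_2 : ∀ k, k < 360 → 240 ≤ k → allR t1692_pf 122760 6 (k * 2 ^ 6) = true := by
  intro k h1 h2
  interval_cases k
  · exact t1692_pchk_240
  · exact t1692_pchk_241
  · exact t1692_pchk_242
  · exact t1692_pchk_243
  · exact t1692_pchk_244
  · exact t1692_pchk_245
  · exact t1692_pchk_246
  · exact t1692_pchk_247
  · exact t1692_pchk_248
  · exact t1692_pchk_249
  · exact t1692_pchk_250
  · exact t1692_pchk_251
  · exact t1692_pchk_252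
  · exact t1692_pchk_253
  · exact t1692_pchk_254
  · exact t1692_pchk_255
  · exact t1692_pchk_256
  · exact t1692_pchk_257
  · exact t1692_pchk_258
  · exact t1692_pchk_259
  · exact t1692_pchk_260
  · exact t1692_pchk_261
  · exact t1692_pchk_262
  · exact t1692_pchk_263
  · exact t1692_pchk_264
  · exact t1692_pchk_265
  · exact t1692_pchk_266
  · exact t1692_pchk_267
  · exact t1692_pchk_268
  · exact t1692_pchk_269
  · exact t1692_pchk_270
  · exact t1692_pchk_271
  · exact t1692_pchk_272
  · exact t1692_pchk_273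
  · exact t1692_pchk_274
  · exact t1692_pchk_275
  · exact t1692_pchk_276
  · exact t1692_pchk_277
  · exact t1692_pchk_278
  · exact t1692_pchk_279
  · exact t1692_pchk_280
  · exact t1692_pchk_281
  · exact t1692_pchk_282
  · exact t1692_pchk_283
  · exact t1692_pchk_284
  · exact t1692_pchk_285
  · exact t1692_pchk_286
  · exact t1692_pchk_287
  · exact t1692_pchk_288
  · exact t1692_pchk_289
  · exact t1692_pchk_290
  · exact t1692_pchk_291
  · exact t1692_pchk_292
  · exact t1692_pchk_293
  · exact t1692_pchk_294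
  · exact t1692_pchk_295
  · exact t1692_pchk_296
  · exact t1692_pchk_297
  · exact t1692_pchk_298
  · exact t1692_pchk_299
  · exact t1692_pchk_300
  · exact t1692_pchk_301
  · exact t1692_pchk_302
  · exact t1692_pchk_303
  · exact t1692_pchk_304
  · exact t1692_pchk_305
  · exact t1692_pchk_306
  · exact t1692_pchk_307
  · exact t1692_pchk_308
  · exact t1692_pchk_309
  · exact t1692_pchk_310
  · exact t1692_pchk_311
  · exact t1692_pchk_312
  · exact t1692_pchk_313
  · exact t1692_pchk_314
  · exact t1692_pchk_315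
  · exact t1692_pchk_316
  · exact t1692_pchk_317
  · exact t1692_pchk_318
  · exact t1692_pchk_319
  · exact t1692_pchk_320
  · exact t1692_pchk_321
  · exact t1692_pchk_322
  · exact t1692_pchk_323
  · exact t1692_pchk_324
  · exact t1692_pchk_325
  · exact t1692_pchk_326
  · exact t1692_pchk_327
  · exact t1692_pchk_328
  · exact t1692_pchk_329
  · exact t1692_pchk_330
  · exact t1692_pchk_331
  · exact t1692_pchk_332
  · exact t1692_pchk_333
  · exact t1692_pchk_334
  · exact t1692_pchk_335
  · exact t1692_pchk_336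
  · exact t1692_pchk_337
  · exact t1692_pchk_338
  · exact t1692_pchk_339
  · exact t1692_pchk_340
  · exact t1692_pchk_341
  · exact t1692_pchk_342
  · exact t1692_pchk_343
  · exact t1692_pchk_344
  · exact t1692_pchk_345
  · exact t1692_pchk_346
  · exact t1692_pchk_347
  · exact t1692_pchk_348
  · exact t1692_pchk_349
  · exact t1692_pchk_350
  · exact t1692_pchk_351
  · exact t1692_pchk_352
  · exact t1692_pchk_353
  · exact t1692_pchk_354
  · exact t1692_pchk_355
  · exact t1692_pchk_356
  · exact t1692_pchk_357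
  · exact t1692_pchk_358
  · exact t1692_pchk_359

end Cfsg.Agent.H35
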