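import Cfsg.Agent.H35.T1692.PTab

set_option autoImplicit false
set_option linter.all false
set_option Elab.async false

namespace Cfsg.Agent.H35

theorem t1692_pchk_360 : allR t1692_pf 122760 6 (360 * 2 ^ 6) = true := by decide +kernel
theorem t1692_pchk_361 : allR t1692_pf 122760 6 (361 * 2 ^ 6) = true := by decide +kernel
theorem t1692_pchk_362 : allR t1692_pf 122760 6 (362 * 2 ^ 6) = true := by decide +kernel
theorem t1692_pchk_363 : allR t1692_pf 122760 6 (363 * 2 ^ 6) = true := by decide +kernel
theorem t1692_pchk_364 : allR t1692_pf 122760 6 (364 * 2 ^ 6) = true := by decide +kernel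
theorem t1692_pchk_365 : allR t1692_pf 122760 6 (365 * 2 ^ 6) = true := by decide +kernel
theorem t1692_pchk_366 : allR t1692_pf 122760 6 (366 * 2 ^ 6) = true := by decide +kernel
theorem t1692_pchk_367 : allR t1692_pf 122760 6 (367 * 2 ^ 6) = true := by decide +kernel
theorem t1692_pchk_368 : allR t1692_pf 122760 6 (368 * 2 ^ 6) = true := by decide +kernel
theorem t1692_pchk_369 : allR t1692_pf 122760 6 (369 * 2 ^ 6) = true := by decide +kernel
theorem t1692_pchk_370 : allR t1692_pf 122760 6 (370 * 2 ^ 6) = true := by decide +kernel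
theorem t1692_pchk_371 : allR t1692_pf 122760 6 (371 * 2 ^ 6) = true := by decide +kernel
theorem t1692_pchk_372 : allR t1692_pf 122760 6 (372 * 2 ^ 6) = true := by decide +kernel
theorem t1692_pchk_373 : allR t1692_pf 122760 6 (373 * 2 ^ 6) = true := by decide +kernel
theorem t1692_pchk_374 : allR t1692_pf 122760 6 (374 * 2 ^ 6) = true := by decide +kernel
theorem t1692_pchk_375 : allR t1692_pf 122760 6 (375 * 2 ^ 6) = true := by decide +kernel
theorem t1692_pchk_376 : allR t1692_pf 122760 6 (376 * 2 ^ 6) = true := by decide +kernel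
theorem t1692_pchk_377 : allR t1692_pf 122760 6 (377 * 2 ^ 6) = true := by decide +kernel
theorem t1692_pchk_378 : allR t1692_pf 122760 6 (378 * 2 ^ 6) = true := by decide +kernel
theorem t1692_pchk_379 : allR t1692_pf 122760 6 (379 * 2 ^ 6) = true := by decide +kernel
theorem t1692_pchk_380 : allR t1692_pf 122760 6 (380 * 2 ^ 6) = true := by decide +kernel
theorem t1692_pchk_381 : allR t1692_pf 122760 6 (381 * 2 ^ 6) = true := by decide +kernel
theorem t1692_pchk_382 : allR t1692_pf 122760 6 (382 * 2 ^ 6) = true := by decide +kernel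
theorem t1692_pchk_383 : allR t1692_pf 122760 6 (383 * 2 ^ 6) = true := by decide +kernel
theorem t1692_pchk_384 : allR t1692_pf 122760 6 (384 * 2 ^ 6) = true := by decide +kernel
theorem t1692_pchk_385 : allR t1692_pf 122760 6 (385 * 2 ^ 6) = true := by decide +kernel
theorem t1692_pchk_386 : allR t1692_pf 122760 6 (386 * 2 ^ 6) = true := by decide +kernel
theorem t1692_pchk_387 : allR t1692_pf 122760 6 (387 * 2 ^ 6) = true := by decide +kernel
theorem t1692_pchk_388 : allR t1692_pf 122760 6 (388 * 2 ^ 6) = true := by decide +kernel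
theorem t1692_pchk_389 : allR t1692_pf 122760 6 (389 * 2 ^ 6) = true := by decide +kernel
theorem t1692_pchk_390 : allR t1692_pf 122760 6 (390 * 2 ^ 6) = true := by decide +kernel
theorem t1692_pchk_391 : allR t1692_pf 122760 6 (391 * 2 ^ 6) = true := by decide +kernel
theorem t1692_pchk_392 : allR t1692_pf 122760 6 (392 * 2 ^ 6) = true := by decide +kernel
theorem t1692_pchk_393 : allR t1692_pf 122760 6 (393 * 2 ^ 6) = true := by decide +kernel
theorem t1692_pchk_394 : allR t1692_pf 122760 6 (394 * 2 ^ 6) = true := by decide +kernel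
theorem t1692_pchk_395 : allR t1692_pf 122760 6 (395 * 2 ^ 6) = true := by decide +kernel
theorem t1692_pchk_396 : allR t1692_pf 122760 6 (396 * 2 ^ 6) = true := by decide +kernel
theorem t1692_pchk_397 : allR t1692_pf 122760 6 (397 * 2 ^ 6) = true := by decide +kernel
theorem t1692_pchk_398 : allR t1692_pf 122760 6 (398 * 2 ^ 6) = true := by decide +kernel
theorem t1692_pchk_399 : allR t1692_pf 122760 6 (399 * 2 ^ 6) = true := by decide +kernel
theorem t1692_pchk_400 : allR t1692_pf 122760 6 (400 * 2 ^ 6) = true := by decide +kernel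
theorem t1692_pchk_401 : allR t1692_pf 122760 6 (401 * 2 ^ 6) = true := by decide +kernel
theorem t1692_pchk_402 : allR t1692_pf 122760 6 (402 * 2 ^ 6) = true := by decide +kernel
theorem t1692_pchk_403 : allR t1692_pf 122760 6 (403 * 2 ^ 6) = true := by decide +kernel
theorem t1692_pchk_404 : allR t1692_pf 122760 6 (404 * 2 ^ 6) = true := by decide +kernel
theorem t1692_pchk_405 : allR t1692_pf 122760 6 (405 * 2 ^ 6) = true := by decide +kernel
theorem t1692_pchk_406 : allR t1692_pf 122760 6 (406 * 2 ^ 6) = true := by decide +kernel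
theorem t1692_pchk_407 : allR t1692_pf 122760 6 (407 * 2 ^ 6) = true := by decide +kernel
theorem t1692_pchk_408 : allR t1692_pf 122760 6 (408 * 2 ^ 6) = true := by decide +kernel
theorem t1692_pchk_409 : allR t1692_pf 122760 6 (409 * 2 ^ 6) = true := by decide +kernel
theorem t1692_pchk_410 : allR t1692_pf 122760 6 (410 * 2 ^ 6) = true := by decide +kernel
theorem t1692_pchk_411 : allR t1692_pf 122760 6 (411 * 2 ^ 6) = true := by decide +kernel
theorem t1692_pchk_412 : allR t1692_pf 122760 6 (412 * 2 ^ 6) = true := by decide +kernel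
theorem t1692_pchk_413 : allR t1692_pf 122760 6 (413 * 2 ^ 6) = true := by decide +kernel
theorem t1692_pchk_414 : allR t1692_pf 122760 6 (414 * 2 ^ 6) = true := by decide +kernel
theorem t1692_pchk_415 : allR t1692_pf 122760 6 (415 * 2 ^ 6) = true := by decide +kernel
theorem t1692_pchk_416 : allR t1692_pf 122760 6 (416 * 2 ^ 6) = true := by decide +kernel
theorem t1692_pchk_417 : allR t1692_pf 122760 6 (417 * 2 ^ 6) = true := by decide +kernel
theorem t1692_pchk_418 : allR t1692_pf 122760 6 (418 * 2 ^ 6) = true := by decide +kernel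
theorem t1692_pchk_419 : allR t1692_pf 122760 6 (419 * 2 ^ 6) = true := by decide +kernel
theorem t1692_pchk_420 : allR t1692_pf 122760 6 (420 * 2 ^ 6) = true := by decide +kernel
theorem t1692_pchk_421 : allR t1692_pf 122760 6 (421 * 2 ^ 6) = true := by decide +kernel
theorem t1692_pchk_422 : allR t1692_pf 122760 6 (422 * 2 ^ 6) = true := by decide +kernel
theorem t1692_pchk_423 : allR t1692_pf 122760 6 (423 * 2 ^ 6) = true := by decide +kernel
theorem t1692_pchk_424 : allR t1692_pf 122760 6 (424 * 2 ^ 6) = true := by decide +kernel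
theorem t1692_pchk_425 : allR t1692_pf 122760 6 (425 * 2 ^ 6) = true := by decide +kernel
theorem t1692_pchk_426 : allR t1692_pf 122760 6 (426 * 2 ^ 6) = true := by decide +kernel
theorem t1692_pchk_427 : allR t1692_pf 122760 6 (427 * 2 ^ 6) = true := by decide +kernel
theorem t1692_pchk_428 : allR t1692_pf 122760 6 (428 * 2 ^ 6) = true := by decide +kernel
theorem t1692_pchk_429 : allR t1692_pf 122760 6 (429 * 2 ^ 6) = true := by decide +kernel
theorem t1692_pchk_430 : allR t1692_pf 122760 6 (430 * 2 ^ 6) = true := by decide +kernel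
theorem t1692_pchk_431 : allR t1692_pf 122760 6 (431 * 2 ^ 6) = true := by decide +kernel
theorem t1692_pchk_432 : allR t1692_pf 122760 6 (432 * 2 ^ 6) = true := by decide +kernel
theorem t1692_pchk_433 : allR t1692_pf 122760 6 (433 * 2 ^ 6) = true := by decide +kernel
theorem t1692_pchk_434 : allR t1692_pf 122760 6 (434 * 2 ^ 6) = true := by decide +kernel
theorem t1692_pchk_435 : allR t1692_pf 122760 6 (435 * 2 ^ 6) = true := by decide +kernel
theorem t1692_pchk_436 : allR t1692_pf 122760 6 (436 * 2 ^ 6) = true := by decide +kernel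
theorem t1692_pchk_437 : allR t1692_pf 122760 6 (437 * 2 ^ 6) = true := by decide +kernel
theorem t1692_pchk_438 : allR t1692_pf 122760 6 (438 * 2 ^ 6) = true := by decide +kernel
theorem t1692_pchk_439 : allR t1692_pf 122760 6 (439 * 2 ^ 6) = true := by decide +kernel
theorem t1692_pchk_440 : allR t1692_pf 122760 6 (440 * 2 ^ 6) = true := by decide +kernel
theorem t1692_pchk_441 : allR t1692_pf 122760 6 (441 * 2 ^ 6) = true := by decide +kernel
theorem t1692_pchk_442 : allR t1692_pf 122760 6 (442 * 2 ^ 6) = true := by decide +kernel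
theorem t1692_pchk_443 : allR t1692_pf 122760 6 (443 * 2 ^ 6) = true := by decide +kernel
theorem t1692_pchk_444 : allR t1692_pf 122760 6 (444 * 2 ^ 6) = true := by decide +kernel
theorem t1692_pchk_445 : allR t1692_pf 122760 6 (445 * 2 ^ 6) = true := by decide +kernel
theorem t1692_pchk_446 : allR t1692_pf 122760 6 (446 * 2 ^ 6) = true := by decide +kernel
theorem t1692_pchk_447 : allR t1692_pf 122760 6 (447 * 2 ^ 6) = true := by decide +kernel
theorem t1692_pchk_448 : allR t1692_pf 122760 6 (448 * 2 ^ 6) = true := by decide +kernel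
theorem t1692_pchk_449 : allR t1692_pf 122760 6 (449 * 2 ^ 6) = true := by decide +kernel
theorem t1692_pchk_450 : allR t1692_pf 122760 6 (450 * 2 ^ 6) = true := by decide +kernel
theorem t1692_pchk_451 : allR t1692_pf 122760 6 (451 * 2 ^ 6) = true := by decide +kernel
theorem t1692_pchk_452 : allR t1692_pf 122760 6 (452 * 2 ^ 6) = true := by decide +kernel
theorem t1692_pchk_453 : allR t1692_pf 122760 6 (453 * 2 ^ 6) = true := by decide +kernel
theorem t1692_pchk_454 : allR t1692_pf 122760 6 (454 * 2 ^ 6) = true := by decide +kernel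
theorem t1692_pchk_455 : allR t1692_pf 122760 6 (455 * 2 ^ 6) = true := by decide +kernel
theorem t1692_pchk_456 : allR t1692_pf 122760 6 (456 * 2 ^ 6) = true := by decide +kernel
theorem t1692_pchk_457 : allR t1692_pf 122760 6 (457 * 2 ^ 6) = true := by decide +kernel
theorem t1692_pchk_458 : allR t1692_pf 122760 6 (458 * 2 ^ 6) = true := by decide +kernel
theorem t1692_pchk_459 : allR t1692_pf 122760 6 (459 * 2 ^ 6) = true := by decide +kernel
theorem t1692_pchk_460 : allR t1692_pf 122760 6 (460 * 2 ^ 6) = true := by decide +kernel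
theorem t1692_pchk_461 : allR t1692_pf 122760 6 (461 * 2 ^ 6) = true := by decide +kernel
theorem t1692_pchk_462 : allR t1692_pf 122760 6 (462 * 2 ^ 6) = true := by decide +kernel
theorem t1692_pchk_463 : allR t1692_pf 122760 6 (463 * 2 ^ 6) = true := by decide +kernel
theorem t1692_pchk_464 : allR t1692_pf 122760 6 (464 * 2 ^ 6) = true := by decide +kernel
theorem t1692_pchk_465 : allR t1692_pf 122760 6 (465 * 2 ^ 6) = true := by decide +kernel
theorem t1692_pchk_466 : allR t1692_pf 122760 6 (466 * 2 ^ 6) = true := by decide +kernel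
theorem t1692_pchk_467 : allR t1692_pf 122760 6 (467 * 2 ^ 6) = true := by decide +kernel
theorem t1692_pchk_468 : allR t1692_pf 122760 6 (468 * 2 ^ 6) = true := by decide +kernel
theorem t1692_pchk_469 : allR t1692_pf 122760 6 (469 * 2 ^ 6) = true := by decide +kernel
theorem t1692_pchk_470 : allR t1692_pf 122760 6 (470 * 2 ^ 6) = true := by decide +kernel
theorem t1692_pchk_471 : allR t1692_pf 122760 6 (471 * 2 ^ 6) = true := by decide +kernel
theorem t1692_pchk_472 : allR t1692_pf 122760 6 (472 * 2 ^ 6) = true := by decide +kernel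
theorem t1692_pchk_473 : allR t1692_pf 122760 6 (473 * 2 ^ 6) = true := by decide +kernel
theorem t1692_pchk_474 : allR t1692_pf 122760 6 (474 * 2 ^ 6) = true := by decide +kernel
theorem t1692_pchk_475 : allR t1692_pf 122760 6 (475 * 2 ^ 6) = true := by decide +kernel
theorem t1692_pchk_476 : allR t1692_pf 122760 6 (476 * 2 ^ 6) = true := by decide +kernel
theorem t1692_pchk_477 : allR t1692_pf 122760 6 (477 * 2 ^ 6) = true := by decide +kernel
theorem t1692_pchk_478 : allR t1692_pf 122760 6 (478 * 2 ^ 6) = true := by decide +kernel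
theorem t1692_pchk_479 : allR t1692_pf 122760 6 (479 * 2 ^ 6) = true := by decide +kernel

theorem t1692_pfile_3 : ∀ k, k < 480 → 360 ≤ k → allR t1692_pf 122760 6 (k * 2 ^ 6) = true := by
  intro k h1 h2
  interval_cases k
  · exact t1692_pchk_360
  · exact t1692_pchk_361
  · exact t1692_pchk_362
  · exact t1692_pchk_363
  · exact t1692_pchk_364
  · exact t1692_pchk_365
  · exact t1692_pchk_366
  · exact t1692_pchk_367
  · exact t1692_pchk_368
  · exact t1692_pchk_369
  · exact t1692_pchk_370
  · exact t1692_pchk_371
  · exact t1692_pchk_372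
  · exact t1692_pchk_373
  · exact t1692_pchk_374
  · exact t1692_pchk_375
  · exact t1692_pchk_376
  · exact t1692_pchk_377
  · exact t1692_pchk_378
  · exact t1692_pchk_379
  · exact t1692_pchk_380
  · exact t1692_pchk_381
  · exact t1692_pchk_382
  · exact t1692_pchk_383
  · exact t1692_pchk_384
  · exact t1692_pchk_385
  · exact t1692_pchk_386
  · exact t1692_pchk_387
  · exact t1692_pchk_388
  · exact t1692_pchk_389
  · exact t1692_pchk_390
  · exact t1692_pchk_391
  · exact t1692_pchk_392
  · exact t1692_pchk_393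
  · exact t1692_pchk_394
  · exact t1692_pchk_395
  · exact t1692_pchk_396
  · exact t1692_pchk_397
  · exact t1692_pchk_398
  · exact t1692_pchk_399
  · exact t1692_pchk_400
  · exact t1692_pchk_401
  · exact t1692_pchk_402
  · exact t1692_pchk_403
  · exact t1692_pchk_404
  · exact t1692_pchk_405
  · exact t1692_pchk_406
  · exact t1692_pchk_407
  · exact t1692_pchk_408
  · exact t1692_pchk_409
  · exact t1692_pchk_410
  · exact t1692_pchk_411
  · exact t1692_pchk_412
  · exact t1692_pchk_413
  · exact t1692_pchk_414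
  · exact t1692_pchk_415
  · exact t1692_pchk_416
  · exact t1692_pchk_417
  · exact t1692_pchk_418
  · exact t1692_pchk_419
  · exact t1692_pchk_420
  · exact t1692_pchk_421
  · exact t1692_pchk_422
  · exact t1692_pchk_423
  · exact t1692_pchk_424
  · exact t1692_pchk_425
  · exact t1692_pchk_426
  · exact t1692_pchk_427
  · exact t1692_pchk_428
  · exact t1692_pchk_429
  · exact t1692_pchk_430
  · exact t1692_pchk_431
  · exact t1692_pchk_432
  · exact t1692_pchk_433
  · exact t1692_pchk_434
  · exact t1692_pchk_435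
  · exact t1692_pchk_436
  · exact t1692_pchk_437
  · exact t1692_pchk_438
  · exact t1692_pchk_439
  · exact t1692_pchk_440
  · exact t1692_pchk_441
  · exact t1692_pchk_442
  · exact t1692_pchk_443
  · exact t1692_pchk_444
  · exact t1692_pchk_445
  · exact t1692_pchk_446
  · exact t1692_pchk_447
  · exact t1692_pchk_448
  · exact t1692_pchk_449
  · exact t1692_pchk_450
  · exact t1692_pchk_451
  · exact t1692_pchk_452
  · exact t1692_pchk_453
  · exact t1692_pchk_454
  · exact t1692_pchk_455
  · exact t1692_pchk_456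
  · exact t1692_pchk_457
  · exact t1692_pchk_458
  · exact t1692_pchk_459
  · exact t1692_pchk_460
  · exact t1692_pchk_461
  · exact t1692_pchk_462
  · exact t1692_pchk_463
  · exact t1692_pchk_464
  · exact t1692_pchk_465
  · exact t1692_pchk_466
  · exact t1692_pchk_467
  · exact t1692_pchk_468
  · exact t1692_pchk_469
  · exact t1692_pchk_470
  · exact t1692_pchk_471
  · exact t1692_pchk_472
  · exact t1692_pchk_473
  · exact t1692_pchk_474
  · exact t1692_pchk_475
  · exact t1692_pchk_476
  · exact t1692_pchk_477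
  · exact t1692_pchk_478
  · exact t1692_pchk_479

end Cfsg.Agent.H35
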