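import Cfsg.Agent.H35.T1692.PTab

set_option autoImplicit false
set_option linter.all false
set_option Elab.async false

namespace Cfsg.Agent.H35

theorem t1692_pchk_480 : allR t1692_pf 122760 6 (480 * 2 ^ 6) = true := by decide +kernel
theorem t1692_pchk_481 : allR t1692_pf 122760 6 (481 * 2 ^ 6) = true := by decide +kernel
theorem t1692_pchk_482 : allR t1692_pf 122760 6 (482 * 2 ^ 6) = true := by decide +kernel
theorem t1692_pchk_483 : allR t1692_pf 122760 6 (483 * 2 ^ 6) = true := by decide +kernel
theorem t1692_pchk_484 : allR t1692_pf 122760 6 (484 * 2 ^ 6) = true := by decide +kernel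
theorem t1692_pchk_485 : allR t1692_pf 122760 6 (485 * 2 ^ 6) = true := by decide +kernel
theorem t1692_pchk_486 : allR t1692_pf 122760 6 (486 * 2 ^ 6) = true := by decide +kernel
theorem t1692_pchk_487 : allR t1692_pf 122760 6 (487 * 2 ^ 6) = true := by decide +kernel
theorem t1692_pchk_488 : allR t1692_pf 122760 6 (488 * 2 ^ 6) = true := by decide +kernel
theorem t1692_pchk_489 : allR t1692_pf 122760 6 (489 * 2 ^ 6) = true := by decide +kernel
theorem t1692_pchk_490 : allR t1692_pf 122760 6 (490 * 2 ^ 6) = true := by decide +kernel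
theorem t1692_pchk_491 : allR t1692_pf 122760 6 (491 * 2 ^ 6) = true := by decide +kernel
theorem t1692_pchk_492 : allR t1692_pf 122760 6 (492 * 2 ^ 6) = true := by decide +kernel
theorem t1692_pchk_493 : allR t1692_pf 122760 6 (493 * 2 ^ 6) = true := by decide +kernel
theorem t1692_pchk_494 : allR t1692_pf 122760 6 (494 * 2 ^ 6) = true := by decide +kernel
theorem t1692_pchk_495 : allR t1692_pf 122760 6 (495 * 2 ^ 6) = true := by decide +kernel
theorem t1692_pchk_496 : allR t1692_pf 122760 6 (496 * 2 ^ 6) = true := by decide +kernel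
theorem t1692_pchk_497 : allR t1692_pf 122760 6 (497 * 2 ^ 6) = true := by decide +kernel
theorem t1692_pchk_498 : allR t1692_pf 122760 6 (498 * 2 ^ 6) = true := by decide +kernel
theorem t1692_pchk_499 : allR t1692_pf 122760 6 (499 * 2 ^ 6) = true := by decide +kernel
theorem t1692_pchk_500 : allR t1692_pf 122760 6 (500 * 2 ^ 6) = true := by decide +kernel
theorem t1692_pchk_501 : allR t1692_pf 122760 6 (501 * 2 ^ 6) = true := by decide +kernel
theorem t1692_pchk_502 : allR t1692_pf 122760 6 (502 * 2 ^ 6) = true := by decide +kernel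
theorem t1692_pchk_503 : allR t1692_pf 122760 6 (503 * 2 ^ 6) = true := by decide +kernel
theorem t1692_pchk_504 : allR t1692_pf 122760 6 (504 * 2 ^ 6) = true := by decide +kernel
theorem t1692_pchk_505 : allR t1692_pf 122760 6 (505 * 2 ^ 6) = true := by decide +kernel
theorem t1692_pchk_506 : allR t1692_pf 122760 6 (506 * 2 ^ 6) = true := by decide +kernel
theorem t1692_pchk_507 : allR t1692_pf 122760 6 (507 * 2 ^ 6) = true := by decide +kernel
theorem t1692_pchk_508 : allR t1692_pf 122760 6 (508 * 2 ^ 6) = true := by decide +kernel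
theorem t1692_pchk_509 : allR t1692_pf 122760 6 (509 * 2 ^ 6) = true := by decide +kernel
theorem t1692_pchk_510 : allR t1692_pf 122760 6 (510 * 2 ^ 6) = true := by decide +kernel
theorem t1692_pchk_511 : allR t1692_pf 122760 6 (511 * 2 ^ 6) = true := by decide +kernel
theorem t1692_pchk_512 : allR t1692_pf 122760 6 (512 * 2 ^ 6) = true := by decide +kernel
theorem t1692_pchk_513 : allR t1692_pf 122760 6 (513 * 2 ^ 6) = true := by decide +kernel
theorem t1692_pchk_514 : allR t1692_pf 122760 6 (514 * 2 ^ 6) = true := by decide +kernel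
theorem t1692_pchk_515 : allR t1692_pf 122760 6 (515 * 2 ^ 6) = true := by decide +kernel
theorem t1692_pchk_516 : allR t1692_pf 122760 6 (516 * 2 ^ 6) = true := by decide +kernel
theorem t1692_pchk_517 : allR t1692_pf 122760 6 (517 * 2 ^ 6) = true := by decide +kernel
theorem t1692_pchk_518 : allR t1692_pf 122760 6 (518 * 2 ^ 6) = true := by decide +kernel
theorem t1692_pchk_519 : allR t1692_pf 122760 6 (519 * 2 ^ 6) = true := by decide +kernel
theorem t1692_pchk_520 : allR t1692_pf 122760 6 (520 * 2 ^ 6) = true := by decide +kernel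
theorem t1692_pchk_521 : allR t1692_pf 122760 6 (521 * 2 ^ 6) = true := by decide +kernel
theorem t1692_pchk_522 : allR t1692_pf 122760 6 (522 * 2 ^ 6) = true := by decide +kernel
theorem t1692_pchk_523 : allR t1692_pf 122760 6 (523 * 2 ^ 6) = true := by decide +kernel
theorem t1692_pchk_524 : allR t1692_pf 122760 6 (524 * 2 ^ 6) = true := by decide +kernel
theorem t1692_pchk_525 : allR t1692_pf 122760 6 (525 * 2 ^ 6) = true := by decide +kernel
theorem t1692_pchk_526 : allR t1692_pf 122760 6 (526 * 2 ^ 6) = true := by decide +kernel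
theorem t1692_pchk_527 : allR t1692_pf 122760 6 (527 * 2 ^ 6) = true := by decide +kernel
theorem t1692_pchk_528 : allR t1692_pf 122760 6 (528 * 2 ^ 6) = true := by decide +kernel
theorem t1692_pchk_529 : allR t1692_pf 122760 6 (529 * 2 ^ 6) = true := by decide +kernel
theorem t1692_pchk_530 : allR t1692_pf 122760 6 (530 * 2 ^ 6) = true := by decide +kernel
theorem t1692_pchk_531 : allR t1692_pf 122760 6 (531 * 2 ^ 6) = true := by decide +kernel
theorem t1692_pchk_532 : allR t1692_pf 122760 6 (532 * 2 ^ 6) = true := by decide +kernel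
theorem t1692_pchk_533 : allR t1692_pf 122760 6 (533 * 2 ^ 6) = true := by decide +kernel
theorem t1692_pchk_534 : allR t1692_pf 122760 6 (534 * 2 ^ 6) = true := by decide +kernel
theorem t1692_pchk_535 : allR t1692_pf 122760 6 (535 * 2 ^ 6) = true := by decide +kernel
theorem t1692_pchk_536 : allR t1692_pf 122760 6 (536 * 2 ^ 6) = true := by decide +kernel
theorem t1692_pchk_537 : allR t1692_pf 122760 6 (537 * 2 ^ 6) = true := by decide +kernel
theorem t1692_pchk_538 : allR t1692_pf 122760 6 (538 * 2 ^ 6) = true := by decide +kernel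
theorem t1692_pchk_539 : allR t1692_pf 122760 6 (539 * 2 ^ 6) = true := by decide +kernel
theorem t1692_pchk_540 : allR t1692_pf 122760 6 (540 * 2 ^ 6) = true := by decide +kernel
theorem t1692_pchk_541 : allR t1692_pf 122760 6 (541 * 2 ^ 6) = true := by decide +kernel
theorem t1692_pchk_542 : allR t1692_pf 122760 6 (542 * 2 ^ 6) = true := by decide +kernel
theorem t1692_pchk_543 : allR t1692_pf 122760 6 (543 * 2 ^ 6) = true := by decide +kernel
theorem t1692_pchk_544 : allR t1692_pf 122760 6 (544 * 2 ^ 6) = true := by decide +kernel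
theorem t1692_pchk_545 : allR t1692_pf 122760 6 (545 * 2 ^ 6) = true := by decide +kernel
theorem t1692_pchk_546 : allR t1692_pf 122760 6 (546 * 2 ^ 6) = true := by decide +kernel
theorem t1692_pchk_547 : allR t1692_pf 122760 6 (547 * 2 ^ 6) = true := by decide +kernel
theorem t1692_pchk_548 : allR t1692_pf 122760 6 (548 * 2 ^ 6) = true := by decide +kernel
theorem t1692_pchk_549 : allR t1692_pf 122760 6 (549 * 2 ^ 6) = true := by decide +kernel
theorem t1692_pchk_550 : allR t1692_pf 122760 6 (550 * 2 ^ 6) = true := by decide +kernel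
theorem t1692_pchk_551 : allR t1692_pf 122760 6 (551 * 2 ^ 6) = true := by decide +kernel
theorem t1692_pchk_552 : allR t1692_pf 122760 6 (552 * 2 ^ 6) = true := by decide +kernel
theorem t1692_pchk_553 : allR t1692_pf 122760 6 (553 * 2 ^ 6) = true := by decide +kernel
theorem t1692_pchk_554 : allR t1692_pf 122760 6 (554 * 2 ^ 6) = true := by decide +kernel
theorem t1692_pchk_555 : allR t1692_pf 122760 6 (555 * 2 ^ 6) = true := by decide +kernel
theorem t1692_pchk_556 : allR t1692_pf 122760 6 (556 * 2 ^ 6) = true := by decide +kernel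
theorem t1692_pchk_557 : allR t1692_pf 122760 6 (557 * 2 ^ 6) = true := by decide +kernel
theorem t1692_pchk_558 : allR t1692_pf 122760 6 (558 * 2 ^ 6) = true := by decide +kernel
theorem t1692_pchk_559 : allR t1692_pf 122760 6 (559 * 2 ^ 6) = true := by decide +kernel
theorem t1692_pchk_560 : allR t1692_pf 122760 6 (560 * 2 ^ 6) = true := by decide +kernel
theorem t1692_pchk_561 : allR t1692_pf 122760 6 (561 * 2 ^ 6) = true := by decide +kernel
theorem t1692_pchk_562 : allR t1692_pf 122760 6 (562 * 2 ^ 6) = true := by decide +kernel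
theorem t1692_pchk_563 : allR t1692_pf 122760 6 (563 * 2 ^ 6) = true := by decide +kernel
theorem t1692_pchk_564 : allR t1692_pf 122760 6 (564 * 2 ^ 6) = true := by decide +kernel
theorem t1692_pchk_565 : allR t1692_pf 122760 6 (565 * 2 ^ 6) = true := by decide +kernel
theorem t1692_pchk_566 : allR t1692_pf 122760 6 (566 * 2 ^ 6) = true := by decide +kernel
theorem t1692_pchk_567 : allR t1692_pf 122760 6 (567 * 2 ^ 6) = true := by decide +kernel
theorem t1692_pchk_568 : allR t1692_pf 122760 6 (568 * 2 ^ 6) = true := by decide +kernel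
theorem t1692_pchk_569 : allR t1692_pf 122760 6 (569 * 2 ^ 6) = true := by decide +kernel
theorem t1692_pchk_570 : allR t1692_pf 122760 6 (570 * 2 ^ 6) = true := by decide +kernel
theorem t1692_pchk_571 : allR t1692_pf 122760 6 (571 * 2 ^ 6) = true := by decide +kernel
theorem t1692_pchk_572 : allR t1692_pf 122760 6 (572 * 2 ^ 6) = true := by decide +kernel
theorem t1692_pchk_573 : allR t1692_pf 122760 6 (573 * 2 ^ 6) = true := by decide +kernel
theorem t1692_pchk_574 : allR t1692_pf 122760 6 (574 * 2 ^ 6) = true := by decide +kernel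
theorem t1692_pchk_575 : allR t1692_pf 122760 6 (575 * 2 ^ 6) = true := by decide +kernel
theorem t1692_pchk_576 : allR t1692_pf 122760 6 (576 * 2 ^ 6) = true := by decide +kernel
theorem t1692_pchk_577 : allR t1692_pf 122760 6 (577 * 2 ^ 6) = true := by decide +kernel
theorem t1692_pchk_578 : allR t1692_pf 122760 6 (578 * 2 ^ 6) = true := by decide +kernel
theorem t1692_pchk_579 : allR t1692_pf 122760 6 (579 * 2 ^ 6) = true := by decide +kernel
theorem t1692_pchk_580 : allR t1692_pf 122760 6 (580 * 2 ^ 6) = true := by decide +kernel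
theorem t1692_pchk_581 : allR t1692_pf 122760 6 (581 * 2 ^ 6) = true := by decide +kernel
theorem t1692_pchk_582 : allR t1692_pf 122760 6 (582 * 2 ^ 6) = true := by decide +kernel
theorem t1692_pchk_583 : allR t1692_pf 122760 6 (583 * 2 ^ 6) = true := by decide +kernel
theorem t1692_pchk_584 : allR t1692_pf 122760 6 (584 * 2 ^ 6) = true := by decide +kernel
theorem t1692_pchk_585 : allR t1692_pf 122760 6 (585 * 2 ^ 6) = true := by decide +kernel
theorem t1692_pchk_586 : allR t1692_pf 122760 6 (586 * 2 ^ 6) = true := by decide +kernel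
theorem t1692_pchk_587 : allR t1692_pf 122760 6 (587 * 2 ^ 6) = true := by decide +kernel
theorem t1692_pchk_588 : allR t1692_pf 122760 6 (588 * 2 ^ 6) = true := by decide +kernel
theorem t1692_pchk_589 : allR t1692_pf 122760 6 (589 * 2 ^ 6) = true := by decide +kernel
theorem t1692_pchk_590 : allR t1692_pf 122760 6 (590 * 2 ^ 6) = true := by decide +kernel
theorem t1692_pchk_591 : allR t1692_pf 122760 6 (591 * 2 ^ 6) = true := by decide +kernel
theorem t1692_pchk_592 : allR t1692_pf 122760 6 (592 * 2 ^ 6) = true := by decide +kernel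
theorem t1692_pchk_593 : allR t1692_pf 122760 6 (593 * 2 ^ 6) = true := by decide +kernel
theorem t1692_pchk_594 : allR t1692_pf 122760 6 (594 * 2 ^ 6) = true := by decide +kernel
theorem t1692_pchk_595 : allR t1692_pf 122760 6 (595 * 2 ^ 6) = true := by decide +kernel
theorem t1692_pchk_596 : allR t1692_pf 122760 6 (596 * 2 ^ 6) = true := by decide +kernel
theorem t1692_pchk_597 : allR t1692_pf 122760 6 (597 * 2 ^ 6) = true := by decide +kernel
theorem t1692_pchk_598 : allR t1692_pf 122760 6 (598 * 2 ^ 6) = true := by decide +kernel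
theorem t1692_pchk_599 : allR t1692_pf 122760 6 (599 * 2 ^ 6) = true := by decide +kernel

theorem t1692_pfile_4 : ∀ k, k < 600 → 480 ≤ k → allR t1692_pf 122760 6 (k * 2 ^ 6) = true := by
  intro k h1 h2
  interval_cases k
  · exact t1692_pchk_480
  · exact t1692_pchk_481
  · exact t1692_pchk_482
  · exact t1692_pchk_483
  · exact t1692_pchk_484
  · exact t1692_pchk_485
  · exact t1692_pchk_486
  · exact t1692_pchk_487
  · exact t1692_pchk_488
  · exact t1692_pchk_489
  · exact t1692_pchk_490
  · exact t1692_pchk_491
  · exact t1692_pchk_492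
  · exact t1692_pchk_493
  · exact t1692_pchk_494
  · exact t1692_pchk_495
  · exact t1692_pchk_496
  · exact t1692_pchk_497
  · exact t1692_pchk_498
  · exact t1692_pchk_499
  · exact t1692_pchk_500
  · exact t1692_pchk_501
  · exact t1692_pchk_502
  · exact t1692_pchk_503
  · exact t1692_pchk_504
  · exact t1692_pchk_505
  · exact t1692_pchk_506
  · exact t1692_pchk_507
  · exact t1692_pchk_508
  · exact t1692_pchk_509
  · exact t1692_pchk_510
  · exact t1692_pchk_511
  · exact t1692_pchk_512
  · exact t1692_pchk_513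
  · exact t1692_pchk_514
  · exact t1692_pchk_515
  · exact t1692_pchk_516
  · exact t1692_pchk_517
  · exact t1692_pchk_518
  · exact t1692_pchk_519
  · exact t1692_pchk_520
  · exact t1692_pchk_521
  · exact t1692_pchk_522
  · exact t1692_pchk_523
  · exact t1692_pchk_524
  · exact t1692_pchk_525
  · exact t1692_pchk_526
  · exact t1692_pchk_527
  · exact t1692_pchk_528
  · exact t1692_pchk_529
  · exact t1692_pchk_530
  · exact t1692_pchk_531
  · exact t1692_pchk_532
  · exact t1692_pchk_533
  · exact t1692_pchk_534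
  · exact t1692_pchk_535
  · exact t1692_pchk_536
  · exact t1692_pchk_537
  · exact t1692_pchk_538
  · exact t1692_pchk_539
  · exact t1692_pchk_540
  · exact t1692_pchk_541
  · exact t1692_pchk_542
  · exact t1692_pchk_543
  · exact t1692_pchk_544
  · exact t1692_pchk_545
  · exact t1692_pchk_546
  · exact t1692_pchk_547
  · exact t1692_pchk_548
  · exact t1692_pchk_549
  · exact t1692_pchk_550
  · exact t1692_pchk_551
  · exact t1692_pchk_552
  · exact t1692_pchk_553
  · exact t1692_pchk_554
  · exact t1692_pchk_555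
  · exact t1692_pchk_556
  · exact t1692_pchk_557
  · exact t1692_pchk_558
  · exact t1692_pchk_559
  · exact t1692_pchk_560
  · exact t1692_pchk_561
  · exact t1692_pchk_562
  · exact t1692_pchk_563
  · exact t1692_pchk_564
  · exact t1692_pchk_565
  · exact t1692_pchk_566
  · exact t1692_pchk_567
  · exact t1692_pchk_568
  · exact t1692_pchk_569
  · exact t1692_pchk_570
  · exact t1692_pchk_571
  · exact t1692_pchk_572
  · exact t1692_pchk_573
  · exact t1692_pchk_574
  · exact t1692_pchk_575
  · exact t1692_pchk_576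
  · exact t1692_pchk_577
  · exact t1692_pchk_578
  · exact t1692_pchk_579
  · exact t1692_pchk_580
  · exact t1692_pchk_581
  · exact t1692_pchk_582
  · exact t1692_pchk_583
  · exact t1692_pchk_584
  · exact t1692_pchk_585
  · exact t1692_pchk_586
  · exact t1692_pchk_587
  · exact t1692_pchk_588
  · exact t1692_pchk_589
  · exact t1692_pchk_590
  · exact t1692_pchk_591
  · exact t1692_pchk_592
  · exact t1692_pchk_593
  · exact t1692_pchk_594
  · exact t1692_pchk_595
  · exact t1692_pchk_596
  · exact t1692_pchk_597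
  · exact t1692_pchk_598
  · exact t1692_pchk_599

end Cfsg.Agent.H35
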