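import Cfsg.Agent.H35.T1692.PTab

set_option autoImplicit false
set_option linter.all false
set_option Elab.async false

namespace Cfsg.Agent.H35

theorem t1692_pchk_600 : allR t1692_pf 122760 6 (600 * 2 ^ 6) = true := by decide +kernel
theorem t1692_pchk_601 : allR t1692_pf 122760 6 (601 * 2 ^ 6) = true := by decide +kernel
theorem t1692_pchk_602 : allR t1692_pf 122760 6 (602 * 2 ^ 6) = true := by decide +kernel
theorem t1692_pchk_603 : allR t1692_pf 122760 6 (603 * 2 ^ 6) = true := by decide +kernel
theorem t1692_pchk_604 : allR t1692_pf 122760 6 (604 * 2 ^ 6) = true := by decide +kernel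
theorem t1692_pchk_605 : allR t1692_pf 122760 6 (605 * 2 ^ 6) = true := by decide +kernel
theorem t1692_pchk_606 : allR t1692_pf 122760 6 (606 * 2 ^ 6) = true := by decide +kernel
theorem t1692_pchk_607 : allR t1692_pf 122760 6 (607 * 2 ^ 6) = true := by decide +kernel
theorem t1692_pchk_608 : allR t1692_pf 122760 6 (608 * 2 ^ 6) = true := by decide +kernel
theorem t1692_pchk_609 : allR t1692_pf 122760 6 (609 * 2 ^ 6) = true := by decide +kernel
theorem t1692_pchk_610 : allR t1692_pf 122760 6 (610 * 2 ^ 6) = true := by decide +kernel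
theorem t1692_pchk_611 : allR t1692_pf 122760 6 (611 * 2 ^ 6) = true := by decide +kernel
theorem t1692_pchk_612 : allR t1692_pf 122760 6 (612 * 2 ^ 6) = true := by decide +kernel
theorem t1692_pchk_613 : allR t1692_pf 122760 6 (613 * 2 ^ 6) = true := by decide +kernel
theorem t1692_pchk_614 : allR t1692_pf 122760 6 (614 * 2 ^ 6) = true := by decide +kernel
theorem t1692_pchk_615 : allR t1692_pf 122760 6 (615 * 2 ^ 6) = true := by decide +kernel
theorem t1692_pchk_616 : allR t1692_pf 122760 6 (616 * 2 ^ 6) = true := by decide +kernel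
theorem t1692_pchk_617 : allR t1692_pf 122760 6 (617 * 2 ^ 6) = true := by decide +kernel
theorem t1692_pchk_618 : allR t1692_pf 122760 6 (618 * 2 ^ 6) = true := by decide +kernel
theorem t1692_pchk_619 : allR t1692_pf 122760 6 (619 * 2 ^ 6) = true := by decide +kernel
theorem t1692_pchk_620 : allR t1692_pf 122760 6 (620 * 2 ^ 6) = true := by decide +kernel
theorem t1692_pchk_621 : allR t1692_pf 122760 6 (621 * 2 ^ 6) = true := by decide +kernel
theorem t1692_pchk_622 : allR t1692_pf 122760 6 (622 * 2 ^ 6) = true := by decide +kernel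
theorem t1692_pchk_623 : allR t1692_pf 122760 6 (623 * 2 ^ 6) = true := by decide +kernel
theorem t1692_pchk_624 : allR t1692_pf 122760 6 (624 * 2 ^ 6) = true := by decide +kernel
theorem t1692_pchk_625 : allR t1692_pf 122760 6 (625 * 2 ^ 6) = true := by decide +kernel
theorem t1692_pchk_626 : allR t1692_pf 122760 6 (626 * 2 ^ 6) = true := by decide +kernel
theorem t1692_pchk_627 : allR t1692_pf 122760 6 (627 * 2 ^ 6) = true := by decide +kernel
theorem t1692_pchk_628 : allR t1692_pf 122760 6 (628 * 2 ^ 6) = true := by decide +kernel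
theorem t1692_pchk_629 : allR t1692_pf 122760 6 (629 * 2 ^ 6) = true := by decide +kernel
theorem t1692_pchk_630 : allR t1692_pf 122760 6 (630 * 2 ^ 6) = true := by decide +kernel
theorem t1692_pchk_631 : allR t1692_pf 122760 6 (631 * 2 ^ 6) = true := by decide +kernel
theorem t1692_pchk_632 : allR t1692_pf 122760 6 (632 * 2 ^ 6) = true := by decide +kernel
theorem t1692_pchk_633 : allR t1692_pf 122760 6 (633 * 2 ^ 6) = true := by decide +kernel
theorem t1692_pchk_634 : allR t1692_pf 122760 6 (634 * 2 ^ 6) = true := by decide +kernel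
theorem t1692_pchk_635 : allR t1692_pf 122760 6 (635 * 2 ^ 6) = true := by decide +kernel
theorem t1692_pchk_636 : allR t1692_pf 122760 6 (636 * 2 ^ 6) = true := by decide +kernel
theorem t1692_pchk_637 : allR t1692_pf 122760 6 (637 * 2 ^ 6) = true := by decide +kernel
theorem t1692_pchk_638 : allR t1692_pf 122760 6 (638 * 2 ^ 6) = true := by decide +kernel
theorem t1692_pchk_639 : allR t1692_pf 122760 6 (639 * 2 ^ 6) = true := by decide +kernel
theorem t1692_pchk_640 : allR t1692_pf 122760 6 (640 * 2 ^ 6) = true := by decide +kernel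
theorem t1692_pchk_641 : allR t1692_pf 122760 6 (641 * 2 ^ 6) = true := by decide +kernel
theorem t1692_pchk_642 : allR t1692_pf 122760 6 (642 * 2 ^ 6) = true := by decide +kernel
theorem t1692_pchk_643 : allR t1692_pf 122760 6 (643 * 2 ^ 6) = true := by decide +kernel
theorem t1692_pchk_644 : allR t1692_pf 122760 6 (644 * 2 ^ 6) = true := by decide +kernel
theorem t1692_pchk_645 : allR t1692_pf 122760 6 (645 * 2 ^ 6) = true := by decide +kernel
theorem t1692_pchk_646 : allR t1692_pf 122760 6 (646 * 2 ^ 6) = true := by decide +kernel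
theorem t1692_pchk_647 : allR t1692_pf 122760 6 (647 * 2 ^ 6) = true := by decide +kernel
theorem t1692_pchk_648 : allR t1692_pf 122760 6 (648 * 2 ^ 6) = true := by decide +kernel
theorem t1692_pchk_649 : allR t1692_pf 122760 6 (649 * 2 ^ 6) = true := by decide +kernel
theorem t1692_pchk_650 : allR t1692_pf 122760 6 (650 * 2 ^ 6) = true := by decide +kernel
theorem t1692_pchk_651 : allR t1692_pf 122760 6 (651 * 2 ^ 6) = true := by decide +kernel
theorem t1692_pchk_652 : allR t1692_pf 122760 6 (652 * 2 ^ 6) = true := by decide +kernel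
theorem t1692_pchk_653 : allR t1692_pf 122760 6 (653 * 2 ^ 6) = true := by decide +kernel
theorem t1692_pchk_654 : allR t1692_pf 122760 6 (654 * 2 ^ 6) = true := by decide +kernel
theorem t1692_pchk_655 : allR t1692_pf 122760 6 (655 * 2 ^ 6) = true := by decide +kernel
theorem t1692_pchk_656 : allR t1692_pf 122760 6 (656 * 2 ^ 6) = true := by decide +kernel
theorem t1692_pchk_657 : allR t1692_pf 122760 6 (657 * 2 ^ 6) = true := by decide +kernel
theorem t1692_pchk_658 : allR t1692_pf 122760 6 (658 * 2 ^ 6) = true := by decide +kernel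
theorem t1692_pchk_659 : allR t1692_pf 122760 6 (659 * 2 ^ 6) = true := by decide +kernel
theorem t1692_pchk_660 : allR t1692_pf 122760 6 (660 * 2 ^ 6) = true := by decide +kernel
theorem t1692_pchk_661 : allR t1692_pf 122760 6 (661 * 2 ^ 6) = true := by decide +kernel
theorem t1692_pchk_662 : allR t1692_pf 122760 6 (662 * 2 ^ 6) = true := by decide +kernel
theorem t1692_pchk_663 : allR t1692_pf 122760 6 (663 * 2 ^ 6) = true := by decide +kernel
theorem t1692_pchk_664 : allR t1692_pf 122760 6 (664 * 2 ^ 6) = true := by decide +kernel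
theorem t1692_pchk_665 : allR t1692_pf 122760 6 (665 * 2 ^ 6) = true := by decide +kernel
theorem t1692_pchk_666 : allR t1692_pf 122760 6 (666 * 2 ^ 6) = true := by decide +kernel
theorem t1692_pchk_667 : allR t1692_pf 122760 6 (667 * 2 ^ 6) = true := by decide +kernel
theorem t1692_pchk_668 : allR t1692_pf 122760 6 (668 * 2 ^ 6) = true := by decide +kernel
theorem t1692_pchk_669 : allR t1692_pf 122760 6 (669 * 2 ^ 6) = true := by decide +kernel
theorem t1692_pchk_670 : allR t1692_pf 122760 6 (670 * 2 ^ 6) = true := by decide +kernel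
theorem t1692_pchk_671 : allR t1692_pf 122760 6 (671 * 2 ^ 6) = true := by decide +kernel
theorem t1692_pchk_672 : allR t1692_pf 122760 6 (672 * 2 ^ 6) = true := by decide +kernel
theorem t1692_pchk_673 : allR t1692_pf 122760 6 (673 * 2 ^ 6) = true := by decide +kernel
theorem t1692_pchk_674 : allR t1692_pf 122760 6 (674 * 2 ^ 6) = true := by decide +kernel
theorem t1692_pchk_675 : allR t1692_pf 122760 6 (675 * 2 ^ 6) = true := by decide +kernel
theorem t1692_pchk_676 : allR t1692_pf 122760 6 (676 * 2 ^ 6) = true := by decide +kernel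
theorem t1692_pchk_677 : allR t1692_pf 122760 6 (677 * 2 ^ 6) = true := by decide +kernel
theorem t1692_pchk_678 : allR t1692_pf 122760 6 (678 * 2 ^ 6) = true := by decide +kernel
theorem t1692_pchk_679 : allR t1692_pf 122760 6 (679 * 2 ^ 6) = true := by decide +kernel
theorem t1692_pchk_680 : allR t1692_pf 122760 6 (680 * 2 ^ 6) = true := by decide +kernel
theorem t1692_pchk_681 : allR t1692_pf 122760 6 (681 * 2 ^ 6) = true := by decide +kernel
theorem t1692_pchk_682 : allR t1692_pf 122760 6 (682 * 2 ^ 6) = true := by decide +kernel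
theorem t1692_pchk_683 : allR t1692_pf 122760 6 (683 * 2 ^ 6) = true := by decide +kernel
theorem t1692_pchk_684 : allR t1692_pf 122760 6 (684 * 2 ^ 6) = true := by decide +kernel
theorem t1692_pchk_685 : allR t1692_pf 122760 6 (685 * 2 ^ 6) = true := by decide +kernel
theorem t1692_pchk_686 : allR t1692_pf 122760 6 (686 * 2 ^ 6) = true := by decide +kernel
theorem t1692_pchk_687 : allR t1692_pf 122760 6 (687 * 2 ^ 6) = true := by decide +kernel
theorem t1692_pchk_688 : allR t1692_pf 122760 6 (688 * 2 ^ 6) = true := by decide +kernel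
theorem t1692_pchk_689 : allR t1692_pf 122760 6 (689 * 2 ^ 6) = true := by decide +kernel
theorem t1692_pchk_690 : allR t1692_pf 122760 6 (690 * 2 ^ 6) = true := by decide +kernel
theorem t1692_pchk_691 : allR t1692_pf 122760 6 (691 * 2 ^ 6) = true := by decide +kernel
theorem t1692_pchk_692 : allR t1692_pf 122760 6 (692 * 2 ^ 6) = true := by decide +kernel
theorem t1692_pchk_693 : allR t1692_pf 122760 6 (693 * 2 ^ 6) = true := by decide +kernel
theorem t1692_pchk_694 : allR t1692_pf 122760 6 (694 * 2 ^ 6) = true := by decide +kernel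
theorem t1692_pchk_695 : allR t1692_pf 122760 6 (695 * 2 ^ 6) = true := by decide +kernel
theorem t1692_pchk_696 : allR t1692_pf 122760 6 (696 * 2 ^ 6) = true := by decide +kernel
theorem t1692_pchk_697 : allR t1692_pf 122760 6 (697 * 2 ^ 6) = true := by decide +kernel
theorem t1692_pchk_698 : allR t1692_pf 122760 6 (698 * 2 ^ 6) = true := by decide +kernel
theorem t1692_pchk_699 : allR t1692_pf 122760 6 (699 * 2 ^ 6) = true := by decide +kernel
theorem t1692_pchk_700 : allR t1692_pf 122760 6 (700 * 2 ^ 6) = true := by decide +kernel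
theorem t1692_pchk_701 : allR t1692_pf 122760 6 (701 * 2 ^ 6) = true := by decide +kernel
theorem t1692_pchk_702 : allR t1692_pf 122760 6 (702 * 2 ^ 6) = true := by decide +kernel
theorem t1692_pchk_703 : allR t1692_pf 122760 6 (703 * 2 ^ 6) = true := by decide +kernel
theorem t1692_pchk_704 : allR t1692_pf 122760 6 (704 * 2 ^ 6) = true := by decide +kernel
theorem t1692_pchk_705 : allR t1692_pf 122760 6 (705 * 2 ^ 6) = true := by decide +kernel
theorem t1692_pchk_706 : allR t1692_pf 122760 6 (706 * 2 ^ 6) = true := by decide +kernel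
theorem t1692_pchk_707 : allR t1692_pf 122760 6 (707 * 2 ^ 6) = true := by decide +kernel
theorem t1692_pchk_708 : allR t1692_pf 122760 6 (708 * 2 ^ 6) = true := by decide +kernel
theorem t1692_pchk_709 : allR t1692_pf 122760 6 (709 * 2 ^ 6) = true := by decide +kernel
theorem t1692_pchk_710 : allR t1692_pf 122760 6 (710 * 2 ^ 6) = true := by decide +kernel
theorem t1692_pchk_711 : allR t1692_pf 122760 6 (711 * 2 ^ 6) = true := by decide +kernel
theorem t1692_pchk_712 : allR t1692_pf 122760 6 (712 * 2 ^ 6) = true := by decide +kernel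
theorem t1692_pchk_713 : allR t1692_pf 122760 6 (713 * 2 ^ 6) = true := by decide +kernel
theorem t1692_pchk_714 : allR t1692_pf 122760 6 (714 * 2 ^ 6) = true := by decide +kernel
theorem t1692_pchk_715 : allR t1692_pf 122760 6 (715 * 2 ^ 6) = true := by decide +kernel
theorem t1692_pchk_716 : allR t1692_pf 122760 6 (716 * 2 ^ 6) = true := by decide +kernel
theorem t1692_pchk_717 : allR t1692_pf 122760 6 (717 * 2 ^ 6) = true := by decide +kernel
theorem t1692_pchk_718 : allR t1692_pf 122760 6 (718 * 2 ^ 6) = true := by decide +kernel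
theorem t1692_pchk_719 : allR t1692_pf 122760 6 (719 * 2 ^ 6) = true := by decide +kernel

theorem t1692_pfile_5 : ∀ k, k < 720 → 600 ≤ k → allR t1692_pf 122760 6 (k * 2 ^ 6) = true := by
  intro k h1 h2
  interval_cases k
  · exact t1692_pchk_600
  · exact t1692_pchk_601
  · exact t1692_pchk_602
  · exact t1692_pchk_603
  · exact t1692_pchk_604
  · exact t1692_pchk_605
  · exact t1692_pchk_606
  · exact t1692_pchk_607
  · exact t1692_pchk_608
  · exact t1692_pchk_609
  · exact t1692_pchk_610
  · exact t1692_pchk_611
  · exact t1692_pchk_612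
  · exact t1692_pchk_613
  · exact t1692_pchk_614
  · exact t1692_pchk_615
  · exact t1692_pchk_616
  · exact t1692_pchk_617
  · exact t1692_pchk_618
  · exact t1692_pchk_619
  · exact t1692_pchk_620
  · exact t1692_pchk_621
  · exact t1692_pchk_622
  · exact t1692_pchk_623
  · exact t1692_pchk_624
  · exact t1692_pchk_625
  · exact t1692_pchk_626
  · exact t1692_pchk_627
  · exact t1692_pchk_628
  · exact t1692_pchk_629
  · exact t1692_pchk_630
  · exact t1692_pchk_631
  · exact t1692_pchk_632
  · exact t1692_pchk_633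
  · exact t1692_pchk_634
  · exact t1692_pchk_635
  · exact t1692_pchk_636
  · exact t1692_pchk_637
  · exact t1692_pchk_638
  · exact t1692_pchk_639
  · exact t1692_pchk_640
  · exact t1692_pchk_641
  · exact t1692_pchk_642
  · exact t1692_pchk_643
  · exact t1692_pchk_644
  · exact t1692_pchk_645
  · exact t1692_pchk_646
  · exact t1692_pchk_647
  · exact t1692_pchk_648
  · exact t1692_pchk_649
  · exact t1692_pchk_650
  · exact t1692_pchk_651
  · exact t1692_pchk_652
  · exact t1692_pchk_653
  · exact t1692_pchk_654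
  · exact t1692_pchk_655
  · exact t1692_pchk_656
  · exact t1692_pchk_657
  · exact t1692_pchk_658
  · exact t1692_pchk_659
  · exact t1692_pchk_660
  · exact t1692_pchk_661
  · exact t1692_pchk_662
  · exact t1692_pchk_663
  · exact t1692_pchk_664
  · exact t1692_pchk_665
  · exact t1692_pchk_666
  · exact t1692_pchk_667
  · exact t1692_pchk_668
  · exact t1692_pchk_669
  · exact t1692_pchk_670
  · exact t1692_pchk_671
  · exact t1692_pchk_672
  · exact t1692_pchk_673
  · exact t1692_pchk_674
  · exact t1692_pchk_675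
  · exact t1692_pchk_676
  · exact t1692_pchk_677
  · exact t1692_pchk_678
  · exact t1692_pchk_679
  · exact t1692_pchk_680
  · exact t1692_pchk_681
  · exact t1692_pchk_682
  · exact t1692_pchk_683
  · exact t1692_pchk_684
  · exact t1692_pchk_685
  · exact t1692_pchk_686
  · exact t1692_pchk_687
  · exact t1692_pchk_688
  · exact t1692_pchk_689
  · exact t1692_pchk_690
  · exact t1692_pchk_691
  · exact t1692_pchk_692
  · exact t1692_pchk_693
  · exact t1692_pchk_694
  · exact t1692_pchk_695
  · exact t1692_pchk_696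
  · exact t1692_pchk_697
  · exact t1692_pchk_698
  · exact t1692_pchk_699
  · exact t1692_pchk_700
  · exact t1692_pchk_701
  · exact t1692_pchk_702
  · exact t1692_pchk_703
  · exact t1692_pchk_704
  · exact t1692_pchk_705
  · exact t1692_pchk_706
  · exact t1692_pchk_707
  · exact t1692_pchk_708
  · exact t1692_pchk_709
  · exact t1692_pchk_710
  · exact t1692_pchk_711
  · exact t1692_pchk_712
  · exact t1692_pchk_713
  · exact t1692_pchk_714
  · exact t1692_pchk_715
  · exact t1692_pchk_716
  · exact t1692_pchk_717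
  · exact t1692_pchk_718
  · exact t1692_pchk_719

end Cfsg.Agent.H35
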