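import Cfsg.Agent.H35.T1692.PTab

set_option autoImplicit false
set_option linter.all false
set_option Elab.async false

namespace Cfsg.Agent.H35

theorem t1692_pchk_840 : allR t1692_pf 122760 6 (840 * 2 ^ 6) = true := by decide +kernel
theorem t1692_pchk_841 : allR t1692_pf 122760 6 (841 * 2 ^ 6) = true := by decide +kernel
theorem t1692_pchk_842 : allR t1692_pf 122760 6 (842 * 2 ^ 6) = true := by decide +kernel
theorem t1692_pchk_843 : allR t1692_pf 122760 6 (843 * 2 ^ 6) = true := by decide +kernel
theorem t1692_pchk_844 : allR t1692_pf 122760 6 (844 * 2 ^ 6) = true := by decide +kernel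
theorem t1692_pchk_845 : allR t1692_pf 122760 6 (845 * 2 ^ 6) = true := by decide +kernel
theorem t1692_pchk_846 : allR t1692_pf 122760 6 (846 * 2 ^ 6) = true := by decide +kernel
theorem t1692_pchk_847 : allR t1692_pf 122760 6 (847 * 2 ^ 6) = true := by decide +kernel
theorem t1692_pchk_848 : allR t1692_pf 122760 6 (848 * 2 ^ 6) = true := by decide +kernel
theorem t1692_pchk_849 : allR t1692_pf 122760 6 (849 * 2 ^ 6) = true := by decide +kernel
theorem t1692_pchk_850 : allR t1692_pf 122760 6 (850 * 2 ^ 6) = true := by decide +kernel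
theorem t1692_pchk_851 : allR t1692_pf 122760 6 (851 * 2 ^ 6) = true := by decide +kernel
theorem t1692_pchk_852 : allR t1692_pf 122760 6 (852 * 2 ^ 6) = true := by decide +kernel
theorem t1692_pchk_853 : allR t1692_pf 122760 6 (853 * 2 ^ 6) = true := by decide +kernel
theorem t1692_pchk_854 : allR t1692_pf 122760 6 (854 * 2 ^ 6) = true := by decide +kernel
theorem t1692_pchk_855 : allR t1692_pf 122760 6 (855 * 2 ^ 6) = true := by decide +kernel
theorem t1692_pchk_856 : allR t1692_pf 122760 6 (856 * 2 ^ 6) = true := by decide +kernel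
theorem t1692_pchk_857 : allR t1692_pf 122760 6 (857 * 2 ^ 6) = true := by decide +kernel
theorem t1692_pchk_858 : allR t1692_pf 122760 6 (858 * 2 ^ 6) = true := by decide +kernel
theorem t1692_pchk_859 : allR t1692_pf 122760 6 (859 * 2 ^ 6) = true := by decide +kernel
theorem t1692_pchk_860 : allR t1692_pf 122760 6 (860 * 2 ^ 6) = true := by decide +kernel
theorem t1692_pchk_861 : allR t1692_pf 122760 6 (861 * 2 ^ 6) = true := by decide +kernel
theorem t1692_pchk_862 : allR t1692_pf 122760 6 (862 * 2 ^ 6) = true := by decide +kernel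
theorem t1692_pchk_863 : allR t1692_pf 122760 6 (863 * 2 ^ 6) = true := by decide +kernel
theorem t1692_pchk_864 : allR t1692_pf 122760 6 (864 * 2 ^ 6) = true := by decide +kernel
theorem t1692_pchk_865 : allR t1692_pf 122760 6 (865 * 2 ^ 6) = true := by decide +kernel
theorem t1692_pchk_866 : allR t1692_pf 122760 6 (866 * 2 ^ 6) = true := by decide +kernel
theorem t1692_pchk_867 : allR t1692_pf 122760 6 (867 * 2 ^ 6) = true := by decide +kernel
theorem t1692_pchk_868 : allR t1692_pf 122760 6 (868 * 2 ^ 6) = true := by decide +kernel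
theorem t1692_pchk_869 : allR t1692_pf 122760 6 (869 * 2 ^ 6) = true := by decide +kernel
theorem t1692_pchk_870 : allR t1692_pf 122760 6 (870 * 2 ^ 6) = true := by decide +kernel
theorem t1692_pchk_871 : allR t1692_pf 122760 6 (871 * 2 ^ 6) = true := by decide +kernel
theorem t1692_pchk_872 : allR t1692_pf 122760 6 (872 * 2 ^ 6) = true := by decide +kernel
theorem t1692_pchk_873 : allR t1692_pf 122760 6 (873 * 2 ^ 6) = true := by decide +kernel
theorem t1692_pchk_874 : allR t1692_pf 122760 6 (874 * 2 ^ 6) = true := by decide +kernel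
theorem t1692_pchk_875 : allR t1692_pf 122760 6 (875 * 2 ^ 6) = true := by decide +kernel
theorem t1692_pchk_876 : allR t1692_pf 122760 6 (876 * 2 ^ 6) = true := by decide +kernel
theorem t1692_pchk_877 : allR t1692_pf 122760 6 (877 * 2 ^ 6) = true := by decide +kernel
theorem t1692_pchk_878 : allR t1692_pf 122760 6 (878 * 2 ^ 6) = true := by decide +kernel
theorem t1692_pchk_879 : allR t1692_pf 122760 6 (879 * 2 ^ 6) = true := by decide +kernel
theorem t1692_pchk_880 : allR t1692_pf 122760 6 (880 * 2 ^ 6) = true := by decide +kernel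
theorem t1692_pchk_881 : allR t1692_pf 122760 6 (881 * 2 ^ 6) = true := by decide +kernel
theorem t1692_pchk_882 : allR t1692_pf 122760 6 (882 * 2 ^ 6) = true := by decide +kernel
theorem t1692_pchk_883 : allR t1692_pf 122760 6 (883 * 2 ^ 6) = true := by decide +kernel
theorem t1692_pchk_884 : allR t1692_pf 122760 6 (884 * 2 ^ 6) = true := by decide +kernel
theorem t1692_pchk_885 : allR t1692_pf 122760 6 (885 * 2 ^ 6) = true := by decide +kernel
theorem t1692_pchk_886 : allR t1692_pf 122760 6 (886 * 2 ^ 6) = true := by decide +kernel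
theorem t1692_pchk_887 : allR t1692_pf 122760 6 (887 * 2 ^ 6) = true := by decide +kernel
theorem t1692_pchk_888 : allR t1692_pf 122760 6 (888 * 2 ^ 6) = true := by decide +kernel
theorem t1692_pchk_889 : allR t1692_pf 122760 6 (889 * 2 ^ 6) = true := by decide +kernel
theorem t1692_pchk_890 : allR t1692_pf 122760 6 (890 * 2 ^ 6) = true := by decide +kernel
theorem t1692_pchk_891 : allR t1692_pf 122760 6 (891 * 2 ^ 6) = true := by decide +kernel
theorem t1692_pchk_892 : allR t1692_pf 122760 6 (892 * 2 ^ 6) = true := by decide +kernel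
theorem t1692_pchk_893 : allR t1692_pf 122760 6 (893 * 2 ^ 6) = true := by decide +kernel
theorem t1692_pchk_894 : allR t1692_pf 122760 6 (894 * 2 ^ 6) = true := by decide +kernel
theorem t1692_pchk_895 : allR t1692_pf 122760 6 (895 * 2 ^ 6) = true := by decide +kernel
theorem t1692_pchk_896 : allR t1692_pf 122760 6 (896 * 2 ^ 6) = true := by decide +kernel
theorem t1692_pchk_897 : allR t1692_pf 122760 6 (897 * 2 ^ 6) = true := by decide +kernel
theorem t1692_pchk_898 : allR t1692_pf 122760 6 (898 * 2 ^ 6) = true := by decide +kernel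
theorem t1692_pchk_899 : allR t1692_pf 122760 6 (899 * 2 ^ 6) = true := by decide +kernel
theorem t1692_pchk_900 : allR t1692_pf 122760 6 (900 * 2 ^ 6) = true := by decide +kernel
theorem t1692_pchk_901 : allR t1692_pf 122760 6 (901 * 2 ^ 6) = true := by decide +kernel
theorem t1692_pchk_902 : allR t1692_pf 122760 6 (902 * 2 ^ 6) = true := by decide +kernel
theorem t1692_pchk_903 : allR t1692_pf 122760 6 (903 * 2 ^ 6) = true := by decide +kernel
theorem t1692_pchk_904 : allR t1692_pf 122760 6 (904 * 2 ^ 6) = true := by decide +kernel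
theorem t1692_pchk_905 : allR t1692_pf 122760 6 (905 * 2 ^ 6) = true := by decide +kernel
theorem t1692_pchk_906 : allR t1692_pf 122760 6 (906 * 2 ^ 6) = true := by decide +kernel
theorem t1692_pchk_907 : allR t1692_pf 122760 6 (907 * 2 ^ 6) = true := by decide +kernel
theorem t1692_pchk_908 : allR t1692_pf 122760 6 (908 * 2 ^ 6) = true := by decide +kernel
theorem t1692_pchk_909 : allR t1692_pf 122760 6 (909 * 2 ^ 6) = true := by decide +kernel
theorem t1692_pchk_910 : allR t1692_pf 122760 6 (910 * 2 ^ 6) = true := by decide +kernel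
theorem t1692_pchk_911 : allR t1692_pf 122760 6 (911 * 2 ^ 6) = true := by decide +kernel
theorem t1692_pchk_912 : allR t1692_pf 122760 6 (912 * 2 ^ 6) = true := by decide +kernel
theorem t1692_pchk_913 : allR t1692_pf 122760 6 (913 * 2 ^ 6) = true := by decide +kernel
theorem t1692_pchk_914 : allR t1692_pf 122760 6 (914 * 2 ^ 6) = true := by decide +kernel
theorem t1692_pchk_915 : allR t1692_pf 122760 6 (915 * 2 ^ 6) = true := by decide +kernel
theorem t1692_pchk_916 : allR t1692_pf 122760 6 (916 * 2 ^ 6) = true := by decide +kernel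
theorem t1692_pchk_917 : allR t1692_pf 122760 6 (917 * 2 ^ 6) = true := by decide +kernel
theorem t1692_pchk_918 : allR t1692_pf 122760 6 (918 * 2 ^ 6) = true := by decide +kernel
theorem t1692_pchk_919 : allR t1692_pf 122760 6 (919 * 2 ^ 6) = true := by decide +kernel
theorem t1692_pchk_920 : allR t1692_pf 122760 6 (920 * 2 ^ 6) = true := by decide +kernel
theorem t1692_pchk_921 : allR t1692_pf 122760 6 (921 * 2 ^ 6) = true := by decide +kernel
theorem t1692_pchk_922 : allR t1692_pf 122760 6 (922 * 2 ^ 6) = true := by decide +kernel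
theorem t1692_pchk_923 : allR t1692_pf 122760 6 (923 * 2 ^ 6) = true := by decide +kernel
theorem t1692_pchk_924 : allR t1692_pf 122760 6 (924 * 2 ^ 6) = true := by decide +kernel
theorem t1692_pchk_925 : allR t1692_pf 122760 6 (925 * 2 ^ 6) = true := by decide +kernel
theorem t1692_pchk_926 : allR t1692_pf 122760 6 (926 * 2 ^ 6) = true := by decide +kernel
theorem t1692_pchk_927 : allR t1692_pf 122760 6 (927 * 2 ^ 6) = true := by decide +kernel
theorem t1692_pchk_928 : allR t1692_pf 122760 6 (928 * 2 ^ 6) = true := by decide +kernel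
theorem t1692_pchk_929 : allR t1692_pf 122760 6 (929 * 2 ^ 6) = true := by decide +kernel
theorem t1692_pchk_930 : allR t1692_pf 122760 6 (930 * 2 ^ 6) = true := by decide +kernel
theorem t1692_pchk_931 : allR t1692_pf 122760 6 (931 * 2 ^ 6) = true := by decide +kernel
theorem t1692_pchk_932 : allR t1692_pf 122760 6 (932 * 2 ^ 6) = true := by decide +kernel
theorem t1692_pchk_933 : allR t1692_pf 122760 6 (933 * 2 ^ 6) = true := by decide +kernel
theorem t1692_pchk_934 : allR t1692_pf 122760 6 (934 * 2 ^ 6) = true := by decide +kernel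
theorem t1692_pchk_935 : allR t1692_pf 122760 6 (935 * 2 ^ 6) = true := by decide +kernel
theorem t1692_pchk_936 : allR t1692_pf 122760 6 (936 * 2 ^ 6) = true := by decide +kernel
theorem t1692_pchk_937 : allR t1692_pf 122760 6 (937 * 2 ^ 6) = true := by decide +kernel
theorem t1692_pchk_938 : allR t1692_pf 122760 6 (938 * 2 ^ 6) = true := by decide +kernel
theorem t1692_pchk_939 : allR t1692_pf 122760 6 (939 * 2 ^ 6) = true := by decide +kernel
theorem t1692_pchk_940 : allR t1692_pf 122760 6 (940 * 2 ^ 6) = true := by decide +kernel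
theorem t1692_pchk_941 : allR t1692_pf 122760 6 (941 * 2 ^ 6) = true := by decide +kernel
theorem t1692_pchk_942 : allR t1692_pf 122760 6 (942 * 2 ^ 6) = true := by decide +kernel
theorem t1692_pchk_943 : allR t1692_pf 122760 6 (943 * 2 ^ 6) = true := by decide +kernel
theorem t1692_pchk_944 : allR t1692_pf 122760 6 (944 * 2 ^ 6) = true := by decide +kernel
theorem t1692_pchk_945 : allR t1692_pf 122760 6 (945 * 2 ^ 6) = true := by decide +kernel
theorem t1692_pchk_946 : allR t1692_pf 122760 6 (946 * 2 ^ 6) = true := by decide +kernel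
theorem t1692_pchk_947 : allR t1692_pf 122760 6 (947 * 2 ^ 6) = true := by decide +kernel
theorem t1692_pchk_948 : allR t1692_pf 122760 6 (948 * 2 ^ 6) = true := by decide +kernel
theorem t1692_pchk_949 : allR t1692_pf 122760 6 (949 * 2 ^ 6) = true := by decide +kernel
theorem t1692_pchk_950 : allR t1692_pf 122760 6 (950 * 2 ^ 6) = true := by decide +kernel
theorem t1692_pchk_951 : allR t1692_pf 122760 6 (951 * 2 ^ 6) = true := by decide +kernel
theorem t1692_pchk_952 : allR t1692_pf 122760 6 (952 * 2 ^ 6) = true := by decide +kernel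
theorem t1692_pchk_953 : allR t1692_pf 122760 6 (953 * 2 ^ 6) = true := by decide +kernel
theorem t1692_pchk_954 : allR t1692_pf 122760 6 (954 * 2 ^ 6) = true := by decide +kernel
theorem t1692_pchk_955 : allR t1692_pf 122760 6 (955 * 2 ^ 6) = true := by decide +kernel
theorem t1692_pchk_956 : allR t1692_pf 122760 6 (956 * 2 ^ 6) = true := by decide +kernel
theorem t1692_pchk_957 : allR t1692_pf 122760 6 (957 * 2 ^ 6) = true := by decide +kernel
theorem t1692_pchk_958 : allR t1692_pf 122760 6 (958 * 2 ^ 6) = true := by decide +kernel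
theorem t1692_pchk_959 : allR t1692_pf 122760 6 (959 * 2 ^ 6) = true := by decide +kernel

theorem t1692_pfile_7 : ∀ k, k < 960 → 840 ≤ k → allR t1692_pf 122760 6 (k * 2 ^ 6) = true := by
  intro k h1 h2
  interval_cases k
  · exact t1692_pchk_840
  · exact t1692_pchk_841
  · exact t1692_pchk_842
  · exact t1692_pchk_843
  · exact t1692_pchk_844
  · exact t1692_pchk_845
  · exact t1692_pchk_846
  · exact t1692_pchk_847
  · exact t1692_pchk_848
  · exact t1692_pchk_849
  · exact t1692_pchk_850
  · exact t1692_pchk_851
  · exact t1692_pchk_852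
  · exact t1692_pchk_853
  · exact t1692_pchk_854
  · exact t1692_pchk_855
  · exact t1692_pchk_856
  · exact t1692_pchk_857
  · exact t1692_pchk_858
  · exact t1692_pchk_859
  · exact t1692_pchk_860
  · exact t1692_pchk_861
  · exact t1692_pchk_862
  · exact t1692_pchk_863
  · exact t1692_pchk_864
  · exact t1692_pchk_865
  · exact t1692_pchk_866
  · exact t1692_pchk_867
  · exact t1692_pchk_868
  · exact t1692_pchk_869
  · exact t1692_pchk_870
  · exact t1692_pchk_871
  · exact t1692_pchk_872
  · exact t1692_pchk_873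
  · exact t1692_pchk_874
  · exact t1692_pchk_875
  · exact t1692_pchk_876
  · exact t1692_pchk_877
  · exact t1692_pchk_878
  · exact t1692_pchk_879
  · exact t1692_pchk_880
  · exact t1692_pchk_881
  · exact t1692_pchk_882
  · exact t1692_pchk_883
  · exact t1692_pchk_884
  · exact t1692_pchk_885
  · exact t1692_pchk_886
  · exact t1692_pchk_887
  · exact t1692_pchk_888
  · exact t1692_pchk_889
  · exact t1692_pchk_890
  · exact t1692_pchk_891
  · exact t1692_pchk_892
  · exact t1692_pchk_893
  · exact t1692_pchk_894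
  · exact t1692_pchk_895
  · exact t1692_pchk_896
  · exact t1692_pchk_897
  · exact t1692_pchk_898
  · exact t1692_pchk_899
  · exact t1692_pchk_900
  · exact t1692_pchk_901
  · exact t1692_pchk_902
  · exact t1692_pchk_903
  · exact t1692_pchk_904
  · exact t1692_pchk_905
  · exact t1692_pchk_906
  · exact t1692_pchk_907
  · exact t1692_pchk_908
  · exact t1692_pchk_909
  · exact t1692_pchk_910
  · exact t1692_pchk_911
  · exact t1692_pchk_912
  · exact t1692_pchk_913
  · exact t1692_pchk_914
  · exact t1692_pchk_915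
  · exact t1692_pchk_916
  · exact t1692_pchk_917
  · exact t1692_pchk_918
  · exact t1692_pchk_919
  · exact t1692_pchk_920
  · exact t1692_pchk_921
  · exact t1692_pchk_922
  · exact t1692_pchk_923
  · exact t1692_pchk_924
  · exact t1692_pchk_925
  · exact t1692_pchk_926
  · exact t1692_pchk_927
  · exact t1692_pchk_928
  · exact t1692_pchk_929
  · exact t1692_pchk_930
  · exact t1692_pchk_931
  · exact t1692_pchk_932
  · exact t1692_pchk_933
  · exact t1692_pchk_934
  · exact t1692_pchk_935
  · exact t1692_pchk_936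
  · exact t1692_pchk_937
  · exact t1692_pchk_938
  · exact t1692_pchk_939
  · exact t1692_pchk_940
  · exact t1692_pchk_941
  · exact t1692_pchk_942
  · exact t1692_pchk_943
  · exact t1692_pchk_944
  · exact t1692_pchk_945
  · exact t1692_pchk_946
  · exact t1692_pchk_947
  · exact t1692_pchk_948
  · exact t1692_pchk_949
  · exact t1692_pchk_950
  · exact t1692_pchk_951
  · exact t1692_pchk_952
  · exact t1692_pchk_953
  · exact t1692_pchk_954
  · exact t1692_pchk_955
  · exact t1692_pchk_956
  · exact t1692_pchk_957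
  · exact t1692_pchk_958
  · exact t1692_pchk_959

end Cfsg.Agent.H35
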