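import Cfsg.Agent.H35.T1692.RTab

set_option autoImplicit false
set_option linter.all false
set_option Elab.async false

namespace Cfsg.Agent.H35

theorem t1692_rchk_800 : allR t1692_rf 197670 6 (800 * 2 ^ 6) = true := by decide +kernel
theorem t1692_rchk_801 : allR t1692_rf 197670 6 (801 * 2 ^ 6) = true := by decide +kernel
theorem t1692_rchk_802 : allR t1692_rf 197670 6 (802 * 2 ^ 6) = true := by decide +kernel
theorem t1692_rchk_803 : allR t1692_rf 197670 6 (803 * 2 ^ 6) = true := by decide +kernel
theorem t1692_rchk_804 : allR t1692_rf 197670 6 (804 * 2 ^ 6) = true := by decide +kernel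
theorem t1692_rchk_805 : allR t1692_rf 197670 6 (805 * 2 ^ 6) = true := by decide +kernel
theorem t1692_rchk_806 : allR t1692_rf 197670 6 (806 * 2 ^ 6) = true := by decide +kernel
theorem t1692_rchk_807 : allR t1692_rf 197670 6 (807 * 2 ^ 6) = true := by decide +kernel
theorem t1692_rchk_808 : allR t1692_rf 197670 6 (808 * 2 ^ 6) = true := by decide +kernel
theorem t1692_rchk_809 : allR t1692_rf 197670 6 (809 * 2 ^ 6) = true := by decide +kernel
theorem t1692_rchk_810 : allR t1692_rf 197670 6 (810 * 2 ^ 6) = true := by decide +kernel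
theorem t1692_rchk_811 : allR t1692_rf 197670 6 (811 * 2 ^ 6) = true := by decide +kernel
theorem t1692_rchk_812 : allR t1692_rf 197670 6 (812 * 2 ^ 6) = true := by decide +kernel
theorem t1692_rchk_813 : allR t1692_rf 197670 6 (813 * 2 ^ 6) = true := by decide +kernel
theorem t1692_rchk_814 : allR t1692_rf 197670 6 (814 * 2 ^ 6) = true := by decide +kernel
theorem t1692_rchk_815 : allR t1692_rf 197670 6 (815 * 2 ^ 6) = true := by decide +kernel
theorem t1692_rchk_816 : allR t1692_rf 197670 6 (816 * 2 ^ 6) = true := by decide +kernel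
theorem t1692_rchk_817 : allR t1692_rf 197670 6 (817 * 2 ^ 6) = true := by decide +kernel
theorem t1692_rchk_818 : allR t1692_rf 197670 6 (818 * 2 ^ 6) = true := by decide +kernel
theorem t1692_rchk_819 : allR t1692_rf 197670 6 (819 * 2 ^ 6) = true := by decide +kernel
theorem t1692_rchk_820 : allR t1692_rf 197670 6 (820 * 2 ^ 6) = true := by decide +kernel
theorem t1692_rchk_821 : allR t1692_rf 197670 6 (821 * 2 ^ 6) = true := by decide +kernel
theorem t1692_rchk_822 : allR t1692_rf 197670 6 (822 * 2 ^ 6) = true := by decide +kernel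
theorem t1692_rchk_823 : allR t1692_rf 197670 6 (823 * 2 ^ 6) = true := by decide +kernel
theorem t1692_rchk_824 : allR t1692_rf 197670 6 (824 * 2 ^ 6) = true := by decide +kernel
theorem t1692_rchk_825 : allR t1692_rf 197670 6 (825 * 2 ^ 6) = true := by decide +kernel
theorem t1692_rchk_826 : allR t1692_rf 197670 6 (826 * 2 ^ 6) = true := by decide +kernel
theorem t1692_rchk_827 : allR t1692_rf 197670 6 (827 * 2 ^ 6) = true := by decide +kernel
theorem t1692_rchk_828 : allR t1692_rf 197670 6 (828 * 2 ^ 6) = true := by decide +kernel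
theorem t1692_rchk_829 : allR t1692_rf 197670 6 (829 * 2 ^ 6) = true := by decide +kernel
theorem t1692_rchk_830 : allR t1692_rf 197670 6 (830 * 2 ^ 6) = true := by decide +kernel
theorem t1692_rchk_831 : allR t1692_rf 197670 6 (831 * 2 ^ 6) = true := by decide +kernel
theorem t1692_rchk_832 : allR t1692_rf 197670 6 (832 * 2 ^ 6) = true := by decide +kernel
theorem t1692_rchk_833 : allR t1692_rf 197670 6 (833 * 2 ^ 6) = true := by decide +kernel
theorem t1692_rchk_834 : allR t1692_rf 197670 6 (834 * 2 ^ 6) = true := by decide +kernel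
theorem t1692_rchk_835 : allR t1692_rf 197670 6 (835 * 2 ^ 6) = true := by decide +kernel
theorem t1692_rchk_836 : allR t1692_rf 197670 6 (836 * 2 ^ 6) = true := by decide +kernel
theorem t1692_rchk_837 : allR t1692_rf 197670 6 (837 * 2 ^ 6) = true := by decide +kernel
theorem t1692_rchk_838 : allR t1692_rf 197670 6 (838 * 2 ^ 6) = true := by decide +kernel
theorem t1692_rchk_839 : allR t1692_rf 197670 6 (839 * 2 ^ 6) = true := by decide +kernel
theorem t1692_rchk_840 : allR t1692_rf 197670 6 (840 * 2 ^ 6) = true := by decide +kernel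
theorem t1692_rchk_841 : allR t1692_rf 197670 6 (841 * 2 ^ 6) = true := by decide +kernel
theorem t1692_rchk_842 : allR t1692_rf 197670 6 (842 * 2 ^ 6) = true := by decide +kernel
theorem t1692_rchk_843 : allR t1692_rf 197670 6 (843 * 2 ^ 6) = true := by decide +kernel
theorem t1692_rchk_844 : allR t1692_rf 197670 6 (844 * 2 ^ 6) = true := by decide +kernel
theorem t1692_rchk_845 : allR t1692_rf 197670 6 (845 * 2 ^ 6) = true := by decide +kernel
theorem t1692_rchk_846 : allR t1692_rf 197670 6 (846 * 2 ^ 6) = true := by decide +kernel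
theorem t1692_rchk_847 : allR t1692_rf 197670 6 (847 * 2 ^ 6) = true := by decide +kernel
theorem t1692_rchk_848 : allR t1692_rf 197670 6 (848 * 2 ^ 6) = true := by decide +kernel
theorem t1692_rchk_849 : allR t1692_rf 197670 6 (849 * 2 ^ 6) = true := by decide +kernel
theorem t1692_rchk_850 : allR t1692_rf 197670 6 (850 * 2 ^ 6) = true := by decide +kernel
theorem t1692_rchk_851 : allR t1692_rf 197670 6 (851 * 2 ^ 6) = true := by decide +kernel
theorem t1692_rchk_852 : allR t1692_rf 197670 6 (852 * 2 ^ 6) = true := by decide +kernel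
theorem t1692_rchk_853 : allR t1692_rf 197670 6 (853 * 2 ^ 6) = true := by decide +kernel
theorem t1692_rchk_854 : allR t1692_rf 197670 6 (854 * 2 ^ 6) = true := by decide +kernel
theorem t1692_rchk_855 : allR t1692_rf 197670 6 (855 * 2 ^ 6) = true := by decide +kernel
theorem t1692_rchk_856 : allR t1692_rf 197670 6 (856 * 2 ^ 6) = true := by decide +kernel
theorem t1692_rchk_857 : allR t1692_rf 197670 6 (857 * 2 ^ 6) = true := by decide +kernel
theorem t1692_rchk_858 : allR t1692_rf 197670 6 (858 * 2 ^ 6) = true := by decide +kernel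
theorem t1692_rchk_859 : allR t1692_rf 197670 6 (859 * 2 ^ 6) = true := by decide +kernel
theorem t1692_rchk_860 : allR t1692_rf 197670 6 (860 * 2 ^ 6) = true := by decide +kernel
theorem t1692_rchk_861 : allR t1692_rf 197670 6 (861 * 2 ^ 6) = true := by decide +kernel
theorem t1692_rchk_862 : allR t1692_rf 197670 6 (862 * 2 ^ 6) = true := by decide +kernel
theorem t1692_rchk_863 : allR t1692_rf 197670 6 (863 * 2 ^ 6) = true := by decide +kernel
theorem t1692_rchk_864 : allR t1692_rf 197670 6 (864 * 2 ^ 6) = true := by decide +kernel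
theorem t1692_rchk_865 : allR t1692_rf 197670 6 (865 * 2 ^ 6) = true := by decide +kernel
theorem t1692_rchk_866 : allR t1692_rf 197670 6 (866 * 2 ^ 6) = true := by decide +kernel
theorem t1692_rchk_867 : allR t1692_rf 197670 6 (867 * 2 ^ 6) = true := by decide +kernel
theorem t1692_rchk_868 : allR t1692_rf 197670 6 (868 * 2 ^ 6) = true := by decide +kernel
theorem t1692_rchk_869 : allR t1692_rf 197670 6 (869 * 2 ^ 6) = true := by decide +kernel
theorem t1692_rchk_870 : allR t1692_rf 197670 6 (870 * 2 ^ 6) = true := by decide +kernel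
theorem t1692_rchk_871 : allR t1692_rf 197670 6 (871 * 2 ^ 6) = true := by decide +kernel
theorem t1692_rchk_872 : allR t1692_rf 197670 6 (872 * 2 ^ 6) = true := by decide +kernel
theorem t1692_rchk_873 : allR t1692_rf 197670 6 (873 * 2 ^ 6) = true := by decide +kernel
theorem t1692_rchk_874 : allR t1692_rf 197670 6 (874 * 2 ^ 6) = true := by decide +kernel
theorem t1692_rchk_875 : allR t1692_rf 197670 6 (875 * 2 ^ 6) = true := by decide +kernel
theorem t1692_rchk_876 : allR t1692_rf 197670 6 (876 * 2 ^ 6) = true := by decide +kernel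
theorem t1692_rchk_877 : allR t1692_rf 197670 6 (877 * 2 ^ 6) = true := by decide +kernel
theorem t1692_rchk_878 : allR t1692_rf 197670 6 (878 * 2 ^ 6) = true := by decide +kernel
theorem t1692_rchk_879 : allR t1692_rf 197670 6 (879 * 2 ^ 6) = true := by decide +kernel

theorem t1692_rfile_10 : ∀ k, k < 880 → 800 ≤ k → allR t1692_rf 197670 6 (k * 2 ^ 6) = true := by
  intro k h1 h2
  interval_cases k
  · exact t1692_rchk_800
  · exact t1692_rchk_801
  · exact t1692_rchk_802
  · exact t1692_rchk_803
  · exact t1692_rchk_804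
  · exact t1692_rchk_805
  · exact t1692_rchk_806
  · exact t1692_rchk_807
  · exact t1692_rchk_808
  · exact t1692_rchk_809
  · exact t1692_rchk_810
  · exact t1692_rchk_811
  · exact t1692_rchk_812
  · exact t1692_rchk_813
  · exact t1692_rchk_814
  · exact t1692_rchk_815
  · exact t1692_rchk_816
  · exact t1692_rchk_817
  · exact t1692_rchk_818
  · exact t1692_rchk_819
  · exact t1692_rchk_820
  · exact t1692_rchk_821
  · exact t1692_rchk_822
  · exact t1692_rchk_823
  · exact t1692_rchk_824
  · exact t1692_rchk_825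
  · exact t1692_rchk_826
  · exact t1692_rchk_827
  · exact t1692_rchk_828
  · exact t1692_rchk_829
  · exact t1692_rchk_830
  · exact t1692_rchk_831
  · exact t1692_rchk_832
  · exact t1692_rchk_833
  · exact t1692_rchk_834
  · exact t1692_rchk_835
  · exact t1692_rchk_836
  · exact t1692_rchk_837
  · exact t1692_rchk_838
  · exact t1692_rchk_839
  · exact t1692_rchk_840
  · exact t1692_rchk_841
  · exact t1692_rchk_842
  · exact t1692_rchk_843
  · exact t1692_rchk_844
  · exact t1692_rchk_845
  · exact t1692_rchk_846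
  · exact t1692_rchk_847
  · exact t1692_rchk_848
  · exact t1692_rchk_849
  · exact t1692_rchk_850
  · exact t1692_rchk_851
  · exact t1692_rchk_852
  · exact t1692_rchk_853
  · exact t1692_rchk_854
  · exact t1692_rchk_855
  · exact t1692_rchk_856
  · exact t1692_rchk_857
  · exact t1692_rchk_858
  · exact t1692_rchk_859
  · exact t1692_rchk_860
  · exact t1692_rchk_861
  · exact t1692_rchk_862
  · exact t1692_rchk_863
  · exact t1692_rchk_864
  · exact t1692_rchk_865
  · exact t1692_rchk_866
  · exact t1692_rchk_867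
  · exact t1692_rchk_868
  · exact t1692_rchk_869
  · exact t1692_rchk_870
  · exact t1692_rchk_871
  · exact t1692_rchk_872
  · exact t1692_rchk_873
  · exact t1692_rchk_874
  · exact t1692_rchk_875
  · exact t1692_rchk_876
  · exact t1692_rchk_877
  · exact t1692_rchk_878
  · exact t1692_rchk_879

end Cfsg.Agent.H35
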