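import Cfsg.Agent.H35.T1692.RTab

set_option autoImplicit false
set_option linter.all false
set_option Elab.async false

namespace Cfsg.Agent.H35

theorem t1692_rchk_880 : allR t1692_rf 197670 6 (880 * 2 ^ 6) = true := by decide +kernel
theorem t1692_rchk_881 : allR t1692_rf 197670 6 (881 * 2 ^ 6) = true := by decide +kernel
theorem t1692_rchk_882 : allR t1692_rf 197670 6 (882 * 2 ^ 6) = true := by decide +kernel
theorem t1692_rchk_883 : allR t1692_rf 197670 6 (883 * 2 ^ 6) = true := by decide +kernel
theorem t1692_rchk_884 : allR t1692_rf 197670 6 (884 * 2 ^ 6) = true := by decide +kernel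
theorem t1692_rchk_885 : allR t1692_rf 197670 6 (885 * 2 ^ 6) = true := by decide +kernel
theorem t1692_rchk_886 : allR t1692_rf 197670 6 (886 * 2 ^ 6) = true := by decide +kernel
theorem t1692_rchk_887 : allR t1692_rf 197670 6 (887 * 2 ^ 6) = true := by decide +kernel
theorem t1692_rchk_888 : allR t1692_rf 197670 6 (888 * 2 ^ 6) = true := by decide +kernel
theorem t1692_rchk_889 : allR t1692_rf 197670 6 (889 * 2 ^ 6) = true := by decide +kernel
theorem t1692_rchk_890 : allR t1692_rf 197670 6 (890 * 2 ^ 6) = true := by decide +kernel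
theorem t1692_rchk_891 : allR t1692_rf 197670 6 (891 * 2 ^ 6) = true := by decide +kernel
theorem t1692_rchk_892 : allR t1692_rf 197670 6 (892 * 2 ^ 6) = true := by decide +kernel
theorem t1692_rchk_893 : allR t1692_rf 197670 6 (893 * 2 ^ 6) = true := by decide +kernel
theorem t1692_rchk_894 : allR t1692_rf 197670 6 (894 * 2 ^ 6) = true := by decide +kernel
theorem t1692_rchk_895 : allR t1692_rf 197670 6 (895 * 2 ^ 6) = true := by decide +kernel
theorem t1692_rchk_896 : allR t1692_rf 197670 6 (896 * 2 ^ 6) = true := by decide +kernel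
theorem t1692_rchk_897 : allR t1692_rf 197670 6 (897 * 2 ^ 6) = true := by decide +kernel
theorem t1692_rchk_898 : allR t1692_rf 197670 6 (898 * 2 ^ 6) = true := by decide +kernel
theorem t1692_rchk_899 : allR t1692_rf 197670 6 (899 * 2 ^ 6) = true := by decide +kernel
theorem t1692_rchk_900 : allR t1692_rf 197670 6 (900 * 2 ^ 6) = true := by decide +kernel
theorem t1692_rchk_901 : allR t1692_rf 197670 6 (901 * 2 ^ 6) = true := by decide +kernel
theorem t1692_rchk_902 : allR t1692_rf 197670 6 (902 * 2 ^ 6) = true := by decide +kernel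
theorem t1692_rchk_903 : allR t1692_rf 197670 6 (903 * 2 ^ 6) = true := by decide +kernel
theorem t1692_rchk_904 : allR t1692_rf 197670 6 (904 * 2 ^ 6) = true := by decide +kernel
theorem t1692_rchk_905 : allR t1692_rf 197670 6 (905 * 2 ^ 6) = true := by decide +kernel
theorem t1692_rchk_906 : allR t1692_rf 197670 6 (906 * 2 ^ 6) = true := by decide +kernel
theorem t1692_rchk_907 : allR t1692_rf 197670 6 (907 * 2 ^ 6) = true := by decide +kernel
theorem t1692_rchk_908 : allR t1692_rf 197670 6 (908 * 2 ^ 6) = true := by decide +kernel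
theorem t1692_rchk_909 : allR t1692_rf 197670 6 (909 * 2 ^ 6) = true := by decide +kernel
theorem t1692_rchk_910 : allR t1692_rf 197670 6 (910 * 2 ^ 6) = true := by decide +kernel
theorem t1692_rchk_911 : allR t1692_rf 197670 6 (911 * 2 ^ 6) = true := by decide +kernel
theorem t1692_rchk_912 : allR t1692_rf 197670 6 (912 * 2 ^ 6) = true := by decide +kernel
theorem t1692_rchk_913 : allR t1692_rf 197670 6 (913 * 2 ^ 6) = true := by decide +kernel
theorem t1692_rchk_914 : allR t1692_rf 197670 6 (914 * 2 ^ 6) = true := by decide +kernel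
theorem t1692_rchk_915 : allR t1692_rf 197670 6 (915 * 2 ^ 6) = true := by decide +kernel
theorem t1692_rchk_916 : allR t1692_rf 197670 6 (916 * 2 ^ 6) = true := by decide +kernel
theorem t1692_rchk_917 : allR t1692_rf 197670 6 (917 * 2 ^ 6) = true := by decide +kernel
theorem t1692_rchk_918 : allR t1692_rf 197670 6 (918 * 2 ^ 6) = true := by decide +kernel
theorem t1692_rchk_919 : allR t1692_rf 197670 6 (919 * 2 ^ 6) = true := by decide +kernel
theorem t1692_rchk_920 : allR t1692_rf 197670 6 (920 * 2 ^ 6) = true := by decide +kernel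
theorem t1692_rchk_921 : allR t1692_rf 197670 6 (921 * 2 ^ 6) = true := by decide +kernel
theorem t1692_rchk_922 : allR t1692_rf 197670 6 (922 * 2 ^ 6) = true := by decide +kernel
theorem t1692_rchk_923 : allR t1692_rf 197670 6 (923 * 2 ^ 6) = true := by decide +kernel
theorem t1692_rchk_924 : allR t1692_rf 197670 6 (924 * 2 ^ 6) = true := by decide +kernel
theorem t1692_rchk_925 : allR t1692_rf 197670 6 (925 * 2 ^ 6) = true := by decide +kernel
theorem t1692_rchk_926 : allR t1692_rf 197670 6 (926 * 2 ^ 6) = true := by decide +kernel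
theorem t1692_rchk_927 : allR t1692_rf 197670 6 (927 * 2 ^ 6) = true := by decide +kernel
theorem t1692_rchk_928 : allR t1692_rf 197670 6 (928 * 2 ^ 6) = true := by decide +kernel
theorem t1692_rchk_929 : allR t1692_rf 197670 6 (929 * 2 ^ 6) = true := by decide +kernel
theorem t1692_rchk_930 : allR t1692_rf 197670 6 (930 * 2 ^ 6) = true := by decide +kernel
theorem t1692_rchk_931 : allR t1692_rf 197670 6 (931 * 2 ^ 6) = true := by decide +kernel
theorem t1692_rchk_932 : allR t1692_rf 197670 6 (932 * 2 ^ 6) = true := by decide +kernel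
theorem t1692_rchk_933 : allR t1692_rf 197670 6 (933 * 2 ^ 6) = true := by decide +kernel
theorem t1692_rchk_934 : allR t1692_rf 197670 6 (934 * 2 ^ 6) = true := by decide +kernel
theorem t1692_rchk_935 : allR t1692_rf 197670 6 (935 * 2 ^ 6) = true := by decide +kernel
theorem t1692_rchk_936 : allR t1692_rf 197670 6 (936 * 2 ^ 6) = true := by decide +kernel
theorem t1692_rchk_937 : allR t1692_rf 197670 6 (937 * 2 ^ 6) = true := by decide +kernel
theorem t1692_rchk_938 : allR t1692_rf 197670 6 (938 * 2 ^ 6) = true := by decide +kernel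
theorem t1692_rchk_939 : allR t1692_rf 197670 6 (939 * 2 ^ 6) = true := by decide +kernel
theorem t1692_rchk_940 : allR t1692_rf 197670 6 (940 * 2 ^ 6) = true := by decide +kernel
theorem t1692_rchk_941 : allR t1692_rf 197670 6 (941 * 2 ^ 6) = true := by decide +kernel
theorem t1692_rchk_942 : allR t1692_rf 197670 6 (942 * 2 ^ 6) = true := by decide +kernel
theorem t1692_rchk_943 : allR t1692_rf 197670 6 (943 * 2 ^ 6) = true := by decide +kernel
theorem t1692_rchk_944 : allR t1692_rf 197670 6 (944 * 2 ^ 6) = true := by decide +kernel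
theorem t1692_rchk_945 : allR t1692_rf 197670 6 (945 * 2 ^ 6) = true := by decide +kernel
theorem t1692_rchk_946 : allR t1692_rf 197670 6 (946 * 2 ^ 6) = true := by decide +kernel
theorem t1692_rchk_947 : allR t1692_rf 197670 6 (947 * 2 ^ 6) = true := by decide +kernel
theorem t1692_rchk_948 : allR t1692_rf 197670 6 (948 * 2 ^ 6) = true := by decide +kernel
theorem t1692_rchk_949 : allR t1692_rf 197670 6 (949 * 2 ^ 6) = true := by decide +kernel
theorem t1692_rchk_950 : allR t1692_rf 197670 6 (950 * 2 ^ 6) = true := by decide +kernel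
theorem t1692_rchk_951 : allR t1692_rf 197670 6 (951 * 2 ^ 6) = true := by decide +kernel
theorem t1692_rchk_952 : allR t1692_rf 197670 6 (952 * 2 ^ 6) = true := by decide +kernel
theorem t1692_rchk_953 : allR t1692_rf 197670 6 (953 * 2 ^ 6) = true := by decide +kernel
theorem t1692_rchk_954 : allR t1692_rf 197670 6 (954 * 2 ^ 6) = true := by decide +kernel
theorem t1692_rchk_955 : allR t1692_rf 197670 6 (955 * 2 ^ 6) = true := by decide +kernel
theorem t1692_rchk_956 : allR t1692_rf 197670 6 (956 * 2 ^ 6) = true := by decide +kernel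
theorem t1692_rchk_957 : allR t1692_rf 197670 6 (957 * 2 ^ 6) = true := by decide +kernel
theorem t1692_rchk_958 : allR t1692_rf 197670 6 (958 * 2 ^ 6) = true := by decide +kernel
theorem t1692_rchk_959 : allR t1692_rf 197670 6 (959 * 2 ^ 6) = true := by decide +kernel

theorem t1692_rfile_11 : ∀ k, k < 960 → 880 ≤ k → allR t1692_rf 197670 6 (k * 2 ^ 6) = true := by
  intro k h1 h2
  interval_cases k
  · exact t1692_rchk_880
  · exact t1692_rchk_881
  · exact t1692_rchk_882
  · exact t1692_rchk_883
  · exact t1692_rchk_884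
  · exact t1692_rchk_885
  · exact t1692_rchk_886
  · exact t1692_rchk_887
  · exact t1692_rchk_888
  · exact t1692_rchk_889
  · exact t1692_rchk_890
  · exact t1692_rchk_891
  · exact t1692_rchk_892
  · exact t1692_rchk_893
  · exact t1692_rchk_894
  · exact t1692_rchk_895
  · exact t1692_rchk_896
  · exact t1692_rchk_897
  · exact t1692_rchk_898
  · exact t1692_rchk_899
  · exact t1692_rchk_900
  · exact t1692_rchk_901
  · exact t1692_rchk_902
  · exact t1692_rchk_903
  · exact t1692_rchk_904
  · exact t1692_rchk_905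
  · exact t1692_rchk_906
  · exact t1692_rchk_907
  · exact t1692_rchk_908
  · exact t1692_rchk_909
  · exact t1692_rchk_910
  · exact t1692_rchk_911
  · exact t1692_rchk_912
  · exact t1692_rchk_913
  · exact t1692_rchk_914
  · exact t1692_rchk_915
  · exact t1692_rchk_916
  · exact t1692_rchk_917
  · exact t1692_rchk_918
  · exact t1692_rchk_919
  · exact t1692_rchk_920
  · exact t1692_rchk_921
  · exact t1692_rchk_922
  · exact t1692_rchk_923
  · exact t1692_rchk_924
  · exact t1692_rchk_925
  · exact t1692_rchk_926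
  · exact t1692_rchk_927
  · exact t1692_rchk_928
  · exact t1692_rchk_929
  · exact t1692_rchk_930
  · exact t1692_rchk_931
  · exact t1692_rchk_932
  · exact t1692_rchk_933
  · exact t1692_rchk_934
  · exact t1692_rchk_935
  · exact t1692_rchk_936
  · exact t1692_rchk_937
  · exact t1692_rchk_938
  · exact t1692_rchk_939
  · exact t1692_rchk_940
  · exact t1692_rchk_941
  · exact t1692_rchk_942
  · exact t1692_rchk_943
  · exact t1692_rchk_944
  · exact t1692_rchk_945
  · exact t1692_rchk_946
  · exact t1692_rchk_947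
  · exact t1692_rchk_948
  · exact t1692_rchk_949
  · exact t1692_rchk_950
  · exact t1692_rchk_951
  · exact t1692_rchk_952
  · exact t1692_rchk_953
  · exact t1692_rchk_954
  · exact t1692_rchk_955
  · exact t1692_rchk_956
  · exact t1692_rchk_957
  · exact t1692_rchk_958
  · exact t1692_rchk_959

end Cfsg.Agent.H35
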