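import Cfsg.Agent.H35.T1692.RTab

set_option autoImplicit false
set_option linter.all false
set_option Elab.async false

namespace Cfsg.Agent.H35

theorem t1692_rchk_1040 : allR t1692_rf 197670 6 (1040 * 2 ^ 6) = true := by decide +kernel
theorem t1692_rchk_1041 : allR t1692_rf 197670 6 (1041 * 2 ^ 6) = true := by decide +kernel
theorem t1692_rchk_1042 : allR t1692_rf 197670 6 (1042 * 2 ^ 6) = true := by decide +kernel
theorem t1692_rchk_1043 : allR t1692_rf 197670 6 (1043 * 2 ^ 6) = true := by decide +kernel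
theorem t1692_rchk_1044 : allR t1692_rf 197670 6 (1044 * 2 ^ 6) = true := by decide +kernel
theorem t1692_rchk_1045 : allR t1692_rf 197670 6 (1045 * 2 ^ 6) = true := by decide +kernel
theorem t1692_rchk_1046 : allR t1692_rf 197670 6 (1046 * 2 ^ 6) = true := by decide +kernel
theorem t1692_rchk_1047 : allR t1692_rf 197670 6 (1047 * 2 ^ 6) = true := by decide +kernel
theorem t1692_rchk_1048 : allR t1692_rf 197670 6 (1048 * 2 ^ 6) = true := by decide +kernel
theorem t1692_rchk_1049 : allR t1692_rf 197670 6 (1049 * 2 ^ 6) = true := by decide +kernel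
theorem t1692_rchk_1050 : allR t1692_rf 197670 6 (1050 * 2 ^ 6) = true := by decide +kernel
theorem t1692_rchk_1051 : allR t1692_rf 197670 6 (1051 * 2 ^ 6) = true := by decide +kernel
theorem t1692_rchk_1052 : allR t1692_rf 197670 6 (1052 * 2 ^ 6) = true := by decide +kernel
theorem t1692_rchk_1053 : allR t1692_rf 197670 6 (1053 * 2 ^ 6) = true := by decide +kernel
theorem t1692_rchk_1054 : allR t1692_rf 197670 6 (1054 * 2 ^ 6) = true := by decide +kernel
theorem t1692_rchk_1055 : allR t1692_rf 197670 6 (1055 * 2 ^ 6) = true := by decide +kernel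
theorem t1692_rchk_1056 : allR t1692_rf 197670 6 (1056 * 2 ^ 6) = true := by decide +kernel
theorem t1692_rchk_1057 : allR t1692_rf 197670 6 (1057 * 2 ^ 6) = true := by decide +kernel
theorem t1692_rchk_1058 : allR t1692_rf 197670 6 (1058 * 2 ^ 6) = true := by decide +kernel
theorem t1692_rchk_1059 : allR t1692_rf 197670 6 (1059 * 2 ^ 6) = true := by decide +kernel
theorem t1692_rchk_1060 : allR t1692_rf 197670 6 (1060 * 2 ^ 6) = true := by decide +kernel
theorem t1692_rchk_1061 : allR t1692_rf 197670 6 (1061 * 2 ^ 6) = true := by decide +kernel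
theorem t1692_rchk_1062 : allR t1692_rf 197670 6 (1062 * 2 ^ 6) = true := by decide +kernel
theorem t1692_rchk_1063 : allR t1692_rf 197670 6 (1063 * 2 ^ 6) = true := by decide +kernel
theorem t1692_rchk_1064 : allR t1692_rf 197670 6 (1064 * 2 ^ 6) = true := by decide +kernel
theorem t1692_rchk_1065 : allR t1692_rf 197670 6 (1065 * 2 ^ 6) = true := by decide +kernel
theorem t1692_rchk_1066 : allR t1692_rf 197670 6 (1066 * 2 ^ 6) = true := by decide +kernel
theorem t1692_rchk_1067 : allR t1692_rf 197670 6 (1067 * 2 ^ 6) = true := by decide +kernel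
theorem t1692_rchk_1068 : allR t1692_rf 197670 6 (1068 * 2 ^ 6) = true := by decide +kernel
theorem t1692_rchk_1069 : allR t1692_rf 197670 6 (1069 * 2 ^ 6) = true := by decide +kernel
theorem t1692_rchk_1070 : allR t1692_rf 197670 6 (1070 * 2 ^ 6) = true := by decide +kernel
theorem t1692_rchk_1071 : allR t1692_rf 197670 6 (1071 * 2 ^ 6) = true := by decide +kernel
theorem t1692_rchk_1072 : allR t1692_rf 197670 6 (1072 * 2 ^ 6) = true := by decide +kernel
theorem t1692_rchk_1073 : allR t1692_rf 197670 6 (1073 * 2 ^ 6) = true := by decide +kernel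
theorem t1692_rchk_1074 : allR t1692_rf 197670 6 (1074 * 2 ^ 6) = true := by decide +kernel
theorem t1692_rchk_1075 : allR t1692_rf 197670 6 (1075 * 2 ^ 6) = true := by decide +kernel
theorem t1692_rchk_1076 : allR t1692_rf 197670 6 (1076 * 2 ^ 6) = true := by decide +kernel
theorem t1692_rchk_1077 : allR t1692_rf 197670 6 (1077 * 2 ^ 6) = true := by decide +kernel
theorem t1692_rchk_1078 : allR t1692_rf 197670 6 (1078 * 2 ^ 6) = true := by decide +kernel
theorem t1692_rchk_1079 : allR t1692_rf 197670 6 (1079 * 2 ^ 6) = true := by decide +kernel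
theorem t1692_rchk_1080 : allR t1692_rf 197670 6 (1080 * 2 ^ 6) = true := by decide +kernel
theorem t1692_rchk_1081 : allR t1692_rf 197670 6 (1081 * 2 ^ 6) = true := by decide +kernel
theorem t1692_rchk_1082 : allR t1692_rf 197670 6 (1082 * 2 ^ 6) = true := by decide +kernel
theorem t1692_rchk_1083 : allR t1692_rf 197670 6 (1083 * 2 ^ 6) = true := by decide +kernel
theorem t1692_rchk_1084 : allR t1692_rf 197670 6 (1084 * 2 ^ 6) = true := by decide +kernel
theorem t1692_rchk_1085 : allR t1692_rf 197670 6 (1085 * 2 ^ 6) = true := by decide +kernel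
theorem t1692_rchk_1086 : allR t1692_rf 197670 6 (1086 * 2 ^ 6) = true := by decide +kernel
theorem t1692_rchk_1087 : allR t1692_rf 197670 6 (1087 * 2 ^ 6) = true := by decide +kernel
theorem t1692_rchk_1088 : allR t1692_rf 197670 6 (1088 * 2 ^ 6) = true := by decide +kernel
theorem t1692_rchk_1089 : allR t1692_rf 197670 6 (1089 * 2 ^ 6) = true := by decide +kernel
theorem t1692_rchk_1090 : allR t1692_rf 197670 6 (1090 * 2 ^ 6) = true := by decide +kernel
theorem t1692_rchk_1091 : allR t1692_rf 197670 6 (1091 * 2 ^ 6) = true := by decide +kernel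
theorem t1692_rchk_1092 : allR t1692_rf 197670 6 (1092 * 2 ^ 6) = true := by decide +kernel
theorem t1692_rchk_1093 : allR t1692_rf 197670 6 (1093 * 2 ^ 6) = true := by decide +kernel
theorem t1692_rchk_1094 : allR t1692_rf 197670 6 (1094 * 2 ^ 6) = true := by decide +kernel
theorem t1692_rchk_1095 : allR t1692_rf 197670 6 (1095 * 2 ^ 6) = true := by decide +kernel
theorem t1692_rchk_1096 : allR t1692_rf 197670 6 (1096 * 2 ^ 6) = true := by decide +kernel
theorem t1692_rchk_1097 : allR t1692_rf 197670 6 (1097 * 2 ^ 6) = true := by decide +kernel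
theorem t1692_rchk_1098 : allR t1692_rf 197670 6 (1098 * 2 ^ 6) = true := by decide +kernel
theorem t1692_rchk_1099 : allR t1692_rf 197670 6 (1099 * 2 ^ 6) = true := by decide +kernel
theorem t1692_rchk_1100 : allR t1692_rf 197670 6 (1100 * 2 ^ 6) = true := by decide +kernel
theorem t1692_rchk_1101 : allR t1692_rf 197670 6 (1101 * 2 ^ 6) = true := by decide +kernel
theorem t1692_rchk_1102 : allR t1692_rf 197670 6 (1102 * 2 ^ 6) = true := by decide +kernel
theorem t1692_rchk_1103 : allR t1692_rf 197670 6 (1103 * 2 ^ 6) = true := by decide +kernel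
theorem t1692_rchk_1104 : allR t1692_rf 197670 6 (1104 * 2 ^ 6) = true := by decide +kernel
theorem t1692_rchk_1105 : allR t1692_rf 197670 6 (1105 * 2 ^ 6) = true := by decide +kernel
theorem t1692_rchk_1106 : allR t1692_rf 197670 6 (1106 * 2 ^ 6) = true := by decide +kernel
theorem t1692_rchk_1107 : allR t1692_rf 197670 6 (1107 * 2 ^ 6) = true := by decide +kernel
theorem t1692_rchk_1108 : allR t1692_rf 197670 6 (1108 * 2 ^ 6) = true := by decide +kernel
theorem t1692_rchk_1109 : allR t1692_rf 197670 6 (1109 * 2 ^ 6) = true := by decide +kernel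
theorem t1692_rchk_1110 : allR t1692_rf 197670 6 (1110 * 2 ^ 6) = true := by decide +kernel
theorem t1692_rchk_1111 : allR t1692_rf 197670 6 (1111 * 2 ^ 6) = true := by decide +kernel
theorem t1692_rchk_1112 : allR t1692_rf 197670 6 (1112 * 2 ^ 6) = true := by decide +kernel
theorem t1692_rchk_1113 : allR t1692_rf 197670 6 (1113 * 2 ^ 6) = true := by decide +kernel
theorem t1692_rchk_1114 : allR t1692_rf 197670 6 (1114 * 2 ^ 6) = true := by decide +kernel
theorem t1692_rchk_1115 : allR t1692_rf 197670 6 (1115 * 2 ^ 6) = true := by decide +kernel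
theorem t1692_rchk_1116 : allR t1692_rf 197670 6 (1116 * 2 ^ 6) = true := by decide +kernel
theorem t1692_rchk_1117 : allR t1692_rf 197670 6 (1117 * 2 ^ 6) = true := by decide +kernel
theorem t1692_rchk_1118 : allR t1692_rf 197670 6 (1118 * 2 ^ 6) = true := by decide +kernel
theorem t1692_rchk_1119 : allR t1692_rf 197670 6 (1119 * 2 ^ 6) = true := by decide +kernel

theorem t1692_rfile_13 : ∀ k, k < 1120 → 1040 ≤ k → allR t1692_rf 197670 6 (k * 2 ^ 6) = true := by
  intro k h1 h2
  interval_cases k
  · exact t1692_rchk_1040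
  · exact t1692_rchk_1041
  · exact t1692_rchk_1042
  · exact t1692_rchk_1043
  · exact t1692_rchk_1044
  · exact t1692_rchk_1045
  · exact t1692_rchk_1046
  · exact t1692_rchk_1047
  · exact t1692_rchk_1048
  · exact t1692_rchk_1049
  · exact t1692_rchk_1050
  · exact t1692_rchk_1051
  · exact t1692_rchk_1052
  · exact t1692_rchk_1053
  · exact t1692_rchk_1054
  · exact t1692_rchk_1055
  · exact t1692_rchk_1056
  · exact t1692_rchk_1057
  · exact t1692_rchk_1058
  · exact t1692_rchk_1059
  · exact t1692_rchk_1060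
  · exact t1692_rchk_1061
  · exact t1692_rchk_1062
  · exact t1692_rchk_1063
  · exact t1692_rchk_1064
  · exact t1692_rchk_1065
  · exact t1692_rchk_1066
  · exact t1692_rchk_1067
  · exact t1692_rchk_1068
  · exact t1692_rchk_1069
  · exact t1692_rchk_1070
  · exact t1692_rchk_1071
  · exact t1692_rchk_1072
  · exact t1692_rchk_1073
  · exact t1692_rchk_1074
  · exact t1692_rchk_1075
  · exact t1692_rchk_1076
  · exact t1692_rchk_1077
  · exact t1692_rchk_1078
  · exact t1692_rchk_1079
  · exact t1692_rchk_1080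
  · exact t1692_rchk_1081
  · exact t1692_rchk_1082
  · exact t1692_rchk_1083
  · exact t1692_rchk_1084
  · exact t1692_rchk_1085
  · exact t1692_rchk_1086
  · exact t1692_rchk_1087
  · exact t1692_rchk_1088
  · exact t1692_rchk_1089
  · exact t1692_rchk_1090
  · exact t1692_rchk_1091
  · exact t1692_rchk_1092
  · exact t1692_rchk_1093
  · exact t1692_rchk_1094
  · exact t1692_rchk_1095
  · exact t1692_rchk_1096
  · exact t1692_rchk_1097
  · exact t1692_rchk_1098
  · exact t1692_rchk_1099
  · exact t1692_rchk_1100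
  · exact t1692_rchk_1101
  · exact t1692_rchk_1102
  · exact t1692_rchk_1103
  · exact t1692_rchk_1104
  · exact t1692_rchk_1105
  · exact t1692_rchk_1106
  · exact t1692_rchk_1107
  · exact t1692_rchk_1108
  · exact t1692_rchk_1109
  · exact t1692_rchk_1110
  · exact t1692_rchk_1111
  · exact t1692_rchk_1112
  · exact t1692_rchk_1113
  · exact t1692_rchk_1114
  · exact t1692_rchk_1115
  · exact t1692_rchk_1116
  · exact t1692_rchk_1117
  · exact t1692_rchk_1118
  · exact t1692_rchk_1119

end Cfsg.Agent.H35
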