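import Cfsg.Agent.H35.T1692.RTab

set_option autoImplicit false
set_option linter.all false
set_option Elab.async false

namespace Cfsg.Agent.H35

theorem t1692_rchk_1200 : allR t1692_rf 197670 6 (1200 * 2 ^ 6) = true := by decide +kernel
theorem t1692_rchk_1201 : allR t1692_rf 197670 6 (1201 * 2 ^ 6) = true := by decide +kernel
theorem t1692_rchk_1202 : allR t1692_rf 197670 6 (1202 * 2 ^ 6) = true := by decide +kernel
theorem t1692_rchk_1203 : allR t1692_rf 197670 6 (1203 * 2 ^ 6) = true := by decide +kernel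
theorem t1692_rchk_1204 : allR t1692_rf 197670 6 (1204 * 2 ^ 6) = true := by decide +kernel
theorem t1692_rchk_1205 : allR t1692_rf 197670 6 (1205 * 2 ^ 6) = true := by decide +kernel
theorem t1692_rchk_1206 : allR t1692_rf 197670 6 (1206 * 2 ^ 6) = true := by decide +kernel
theorem t1692_rchk_1207 : allR t1692_rf 197670 6 (1207 * 2 ^ 6) = true := by decide +kernel
theorem t1692_rchk_1208 : allR t1692_rf 197670 6 (1208 * 2 ^ 6) = true := by decide +kernel
theorem t1692_rchk_1209 : allR t1692_rf 197670 6 (1209 * 2 ^ 6) = true := by decide +kernel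
theorem t1692_rchk_1210 : allR t1692_rf 197670 6 (1210 * 2 ^ 6) = true := by decide +kernel
theorem t1692_rchk_1211 : allR t1692_rf 197670 6 (1211 * 2 ^ 6) = true := by decide +kernel
theorem t1692_rchk_1212 : allR t1692_rf 197670 6 (1212 * 2 ^ 6) = true := by decide +kernel
theorem t1692_rchk_1213 : allR t1692_rf 197670 6 (1213 * 2 ^ 6) = true := by decide +kernel
theorem t1692_rchk_1214 : allR t1692_rf 197670 6 (1214 * 2 ^ 6) = true := by decide +kernel
theorem t1692_rchk_1215 : allR t1692_rf 197670 6 (1215 * 2 ^ 6) = true := by decide +kernel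
theorem t1692_rchk_1216 : allR t1692_rf 197670 6 (1216 * 2 ^ 6) = true := by decide +kernel
theorem t1692_rchk_1217 : allR t1692_rf 197670 6 (1217 * 2 ^ 6) = true := by decide +kernel
theorem t1692_rchk_1218 : allR t1692_rf 197670 6 (1218 * 2 ^ 6) = true := by decide +kernel
theorem t1692_rchk_1219 : allR t1692_rf 197670 6 (1219 * 2 ^ 6) = true := by decide +kernel
theorem t1692_rchk_1220 : allR t1692_rf 197670 6 (1220 * 2 ^ 6) = true := by decide +kernel
theorem t1692_rchk_1221 : allR t1692_rf 197670 6 (1221 * 2 ^ 6) = true := by decide +kernel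
theorem t1692_rchk_1222 : allR t1692_rf 197670 6 (1222 * 2 ^ 6) = true := by decide +kernel
theorem t1692_rchk_1223 : allR t1692_rf 197670 6 (1223 * 2 ^ 6) = true := by decide +kernel
theorem t1692_rchk_1224 : allR t1692_rf 197670 6 (1224 * 2 ^ 6) = true := by decide +kernel
theorem t1692_rchk_1225 : allR t1692_rf 197670 6 (1225 * 2 ^ 6) = true := by decide +kernel
theorem t1692_rchk_1226 : allR t1692_rf 197670 6 (1226 * 2 ^ 6) = true := by decide +kernel
theorem t1692_rchk_1227 : allR t1692_rf 197670 6 (1227 * 2 ^ 6) = true := by decide +kernel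
theorem t1692_rchk_1228 : allR t1692_rf 197670 6 (1228 * 2 ^ 6) = true := by decide +kernel
theorem t1692_rchk_1229 : allR t1692_rf 197670 6 (1229 * 2 ^ 6) = true := by decide +kernel
theorem t1692_rchk_1230 : allR t1692_rf 197670 6 (1230 * 2 ^ 6) = true := by decide +kernel
theorem t1692_rchk_1231 : allR t1692_rf 197670 6 (1231 * 2 ^ 6) = true := by decide +kernel
theorem t1692_rchk_1232 : allR t1692_rf 197670 6 (1232 * 2 ^ 6) = true := by decide +kernel
theorem t1692_rchk_1233 : allR t1692_rf 197670 6 (1233 * 2 ^ 6) = true := by decide +kernel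
theorem t1692_rchk_1234 : allR t1692_rf 197670 6 (1234 * 2 ^ 6) = true := by decide +kernel
theorem t1692_rchk_1235 : allR t1692_rf 197670 6 (1235 * 2 ^ 6) = true := by decide +kernel
theorem t1692_rchk_1236 : allR t1692_rf 197670 6 (1236 * 2 ^ 6) = true := by decide +kernel
theorem t1692_rchk_1237 : allR t1692_rf 197670 6 (1237 * 2 ^ 6) = true := by decide +kernel
theorem t1692_rchk_1238 : allR t1692_rf 197670 6 (1238 * 2 ^ 6) = true := by decide +kernel
theorem t1692_rchk_1239 : allR t1692_rf 197670 6 (1239 * 2 ^ 6) = true := by decide +kernel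
theorem t1692_rchk_1240 : allR t1692_rf 197670 6 (1240 * 2 ^ 6) = true := by decide +kernel
theorem t1692_rchk_1241 : allR t1692_rf 197670 6 (1241 * 2 ^ 6) = true := by decide +kernel
theorem t1692_rchk_1242 : allR t1692_rf 197670 6 (1242 * 2 ^ 6) = true := by decide +kernel
theorem t1692_rchk_1243 : allR t1692_rf 197670 6 (1243 * 2 ^ 6) = true := by decide +kernel
theorem t1692_rchk_1244 : allR t1692_rf 197670 6 (1244 * 2 ^ 6) = true := by decide +kernel
theorem t1692_rchk_1245 : allR t1692_rf 197670 6 (1245 * 2 ^ 6) = true := by decide +kernel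
theorem t1692_rchk_1246 : allR t1692_rf 197670 6 (1246 * 2 ^ 6) = true := by decide +kernel
theorem t1692_rchk_1247 : allR t1692_rf 197670 6 (1247 * 2 ^ 6) = true := by decide +kernel
theorem t1692_rchk_1248 : allR t1692_rf 197670 6 (1248 * 2 ^ 6) = true := by decide +kernel
theorem t1692_rchk_1249 : allR t1692_rf 197670 6 (1249 * 2 ^ 6) = true := by decide +kernel
theorem t1692_rchk_1250 : allR t1692_rf 197670 6 (1250 * 2 ^ 6) = true := by decide +kernel
theorem t1692_rchk_1251 : allR t1692_rf 197670 6 (1251 * 2 ^ 6) = true := by decide +kernel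
theorem t1692_rchk_1252 : allR t1692_rf 197670 6 (1252 * 2 ^ 6) = true := by decide +kernel
theorem t1692_rchk_1253 : allR t1692_rf 197670 6 (1253 * 2 ^ 6) = true := by decide +kernel
theorem t1692_rchk_1254 : allR t1692_rf 197670 6 (1254 * 2 ^ 6) = true := by decide +kernel
theorem t1692_rchk_1255 : allR t1692_rf 197670 6 (1255 * 2 ^ 6) = true := by decide +kernel
theorem t1692_rchk_1256 : allR t1692_rf 197670 6 (1256 * 2 ^ 6) = true := by decide +kernel
theorem t1692_rchk_1257 : allR t1692_rf 197670 6 (1257 * 2 ^ 6) = true := by decide +kernel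
theorem t1692_rchk_1258 : allR t1692_rf 197670 6 (1258 * 2 ^ 6) = true := by decide +kernel
theorem t1692_rchk_1259 : allR t1692_rf 197670 6 (1259 * 2 ^ 6) = true := by decide +kernel
theorem t1692_rchk_1260 : allR t1692_rf 197670 6 (1260 * 2 ^ 6) = true := by decide +kernel
theorem t1692_rchk_1261 : allR t1692_rf 197670 6 (1261 * 2 ^ 6) = true := by decide +kernel
theorem t1692_rchk_1262 : allR t1692_rf 197670 6 (1262 * 2 ^ 6) = true := by decide +kernel
theorem t1692_rchk_1263 : allR t1692_rf 197670 6 (1263 * 2 ^ 6) = true := by decide +kernel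
theorem t1692_rchk_1264 : allR t1692_rf 197670 6 (1264 * 2 ^ 6) = true := by decide +kernel
theorem t1692_rchk_1265 : allR t1692_rf 197670 6 (1265 * 2 ^ 6) = true := by decide +kernel
theorem t1692_rchk_1266 : allR t1692_rf 197670 6 (1266 * 2 ^ 6) = true := by decide +kernel
theorem t1692_rchk_1267 : allR t1692_rf 197670 6 (1267 * 2 ^ 6) = true := by decide +kernel
theorem t1692_rchk_1268 : allR t1692_rf 197670 6 (1268 * 2 ^ 6) = true := by decide +kernel
theorem t1692_rchk_1269 : allR t1692_rf 197670 6 (1269 * 2 ^ 6) = true := by decide +kernel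
theorem t1692_rchk_1270 : allR t1692_rf 197670 6 (1270 * 2 ^ 6) = true := by decide +kernel
theorem t1692_rchk_1271 : allR t1692_rf 197670 6 (1271 * 2 ^ 6) = true := by decide +kernel
theorem t1692_rchk_1272 : allR t1692_rf 197670 6 (1272 * 2 ^ 6) = true := by decide +kernel
theorem t1692_rchk_1273 : allR t1692_rf 197670 6 (1273 * 2 ^ 6) = true := by decide +kernel
theorem t1692_rchk_1274 : allR t1692_rf 197670 6 (1274 * 2 ^ 6) = true := by decide +kernel
theorem t1692_rchk_1275 : allR t1692_rf 197670 6 (1275 * 2 ^ 6) = true := by decide +kernel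
theorem t1692_rchk_1276 : allR t1692_rf 197670 6 (1276 * 2 ^ 6) = true := by decide +kernel
theorem t1692_rchk_1277 : allR t1692_rf 197670 6 (1277 * 2 ^ 6) = true := by decide +kernel
theorem t1692_rchk_1278 : allR t1692_rf 197670 6 (1278 * 2 ^ 6) = true := by decide +kernel
theorem t1692_rchk_1279 : allR t1692_rf 197670 6 (1279 * 2 ^ 6) = true := by decide +kernel

theorem t1692_rfile_15 : ∀ k, k < 1280 → 1200 ≤ k → allR t1692_rf 197670 6 (k * 2 ^ 6) = true := by
  intro k h1 h2
  interval_cases k
  · exact t1692_rchk_1200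
  · exact t1692_rchk_1201
  · exact t1692_rchk_1202
  · exact t1692_rchk_1203
  · exact t1692_rchk_1204
  · exact t1692_rchk_1205
  · exact t1692_rchk_1206
  · exact t1692_rchk_1207
  · exact t1692_rchk_1208
  · exact t1692_rchk_1209
  · exact t1692_rchk_1210
  · exact t1692_rchk_1211
  · exact t1692_rchk_1212
  · exact t1692_rchk_1213
  · exact t1692_rchk_1214
  · exact t1692_rchk_1215
  · exact t1692_rchk_1216
  · exact t1692_rchk_1217
  · exact t1692_rchk_1218
  · exact t1692_rchk_1219
  · exact t1692_rchk_1220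
  · exact t1692_rchk_1221
  · exact t1692_rchk_1222
  · exact t1692_rchk_1223
  · exact t1692_rchk_1224
  · exact t1692_rchk_1225
  · exact t1692_rchk_1226
  · exact t1692_rchk_1227
  · exact t1692_rchk_1228
  · exact t1692_rchk_1229
  · exact t1692_rchk_1230
  · exact t1692_rchk_1231
  · exact t1692_rchk_1232
  · exact t1692_rchk_1233
  · exact t1692_rchk_1234
  · exact t1692_rchk_1235
  · exact t1692_rchk_1236
  · exact t1692_rchk_1237
  · exact t1692_rchk_1238
  · exact t1692_rchk_1239
  · exact t1692_rchk_1240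
  · exact t1692_rchk_1241
  · exact t1692_rchk_1242
  · exact t1692_rchk_1243
  · exact t1692_rchk_1244
  · exact t1692_rchk_1245
  · exact t1692_rchk_1246
  · exact t1692_rchk_1247
  · exact t1692_rchk_1248
  · exact t1692_rchk_1249
  · exact t1692_rchk_1250
  · exact t1692_rchk_1251
  · exact t1692_rchk_1252
  · exact t1692_rchk_1253
  · exact t1692_rchk_1254
  · exact t1692_rchk_1255
  · exact t1692_rchk_1256
  · exact t1692_rchk_1257
  · exact t1692_rchk_1258
  · exact t1692_rchk_1259
  · exact t1692_rchk_1260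
  · exact t1692_rchk_1261
  · exact t1692_rchk_1262
  · exact t1692_rchk_1263
  · exact t1692_rchk_1264
  · exact t1692_rchk_1265
  · exact t1692_rchk_1266
  · exact t1692_rchk_1267
  · exact t1692_rchk_1268
  · exact t1692_rchk_1269
  · exact t1692_rchk_1270
  · exact t1692_rchk_1271
  · exact t1692_rchk_1272
  · exact t1692_rchk_1273
  · exact t1692_rchk_1274
  · exact t1692_rchk_1275
  · exact t1692_rchk_1276
  · exact t1692_rchk_1277
  · exact t1692_rchk_1278
  · exact t1692_rchk_1279

end Cfsg.Agent.H35
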