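import Cfsg.Agent.H35.T1692.RTab

set_option autoImplicit false
set_option linter.all false
set_option Elab.async false

namespace Cfsg.Agent.H35

theorem t1692_rchk_1280 : allR t1692_rf 197670 6 (1280 * 2 ^ 6) = true := by decide +kernel
theorem t1692_rchk_1281 : allR t1692_rf 197670 6 (1281 * 2 ^ 6) = true := by decide +kernel
theorem t1692_rchk_1282 : allR t1692_rf 197670 6 (1282 * 2 ^ 6) = true := by decide +kernel
theorem t1692_rchk_1283 : allR t1692_rf 197670 6 (1283 * 2 ^ 6) = true := by decide +kernel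
theorem t1692_rchk_1284 : allR t1692_rf 197670 6 (1284 * 2 ^ 6) = true := by decide +kernel
theorem t1692_rchk_1285 : allR t1692_rf 197670 6 (1285 * 2 ^ 6) = true := by decide +kernel
theorem t1692_rchk_1286 : allR t1692_rf 197670 6 (1286 * 2 ^ 6) = true := by decide +kernel
theorem t1692_rchk_1287 : allR t1692_rf 197670 6 (1287 * 2 ^ 6) = true := by decide +kernel
theorem t1692_rchk_1288 : allR t1692_rf 197670 6 (1288 * 2 ^ 6) = true := by decide +kernel
theorem t1692_rchk_1289 : allR t1692_rf 197670 6 (1289 * 2 ^ 6) = true := by decide +kernel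
theorem t1692_rchk_1290 : allR t1692_rf 197670 6 (1290 * 2 ^ 6) = true := by decide +kernel
theorem t1692_rchk_1291 : allR t1692_rf 197670 6 (1291 * 2 ^ 6) = true := by decide +kernel
theorem t1692_rchk_1292 : allR t1692_rf 197670 6 (1292 * 2 ^ 6) = true := by decide +kernel
theorem t1692_rchk_1293 : allR t1692_rf 197670 6 (1293 * 2 ^ 6) = true := by decide +kernel
theorem t1692_rchk_1294 : allR t1692_rf 197670 6 (1294 * 2 ^ 6) = true := by decide +kernel
theorem t1692_rchk_1295 : allR t1692_rf 197670 6 (1295 * 2 ^ 6) = true := by decide +kernel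
theorem t1692_rchk_1296 : allR t1692_rf 197670 6 (1296 * 2 ^ 6) = true := by decide +kernel
theorem t1692_rchk_1297 : allR t1692_rf 197670 6 (1297 * 2 ^ 6) = true := by decide +kernel
theorem t1692_rchk_1298 : allR t1692_rf 197670 6 (1298 * 2 ^ 6) = true := by decide +kernel
theorem t1692_rchk_1299 : allR t1692_rf 197670 6 (1299 * 2 ^ 6) = true := by decide +kernel
theorem t1692_rchk_1300 : allR t1692_rf 197670 6 (1300 * 2 ^ 6) = true := by decide +kernel
theorem t1692_rchk_1301 : allR t1692_rf 197670 6 (1301 * 2 ^ 6) = true := by decide +kernel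
theorem t1692_rchk_1302 : allR t1692_rf 197670 6 (1302 * 2 ^ 6) = true := by decide +kernel
theorem t1692_rchk_1303 : allR t1692_rf 197670 6 (1303 * 2 ^ 6) = true := by decide +kernel
theorem t1692_rchk_1304 : allR t1692_rf 197670 6 (1304 * 2 ^ 6) = true := by decide +kernel
theorem t1692_rchk_1305 : allR t1692_rf 197670 6 (1305 * 2 ^ 6) = true := by decide +kernel
theorem t1692_rchk_1306 : allR t1692_rf 197670 6 (1306 * 2 ^ 6) = true := by decide +kernel
theorem t1692_rchk_1307 : allR t1692_rf 197670 6 (1307 * 2 ^ 6) = true := by decide +kernel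
theorem t1692_rchk_1308 : allR t1692_rf 197670 6 (1308 * 2 ^ 6) = true := by decide +kernel
theorem t1692_rchk_1309 : allR t1692_rf 197670 6 (1309 * 2 ^ 6) = true := by decide +kernel
theorem t1692_rchk_1310 : allR t1692_rf 197670 6 (1310 * 2 ^ 6) = true := by decide +kernel
theorem t1692_rchk_1311 : allR t1692_rf 197670 6 (1311 * 2 ^ 6) = true := by decide +kernel
theorem t1692_rchk_1312 : allR t1692_rf 197670 6 (1312 * 2 ^ 6) = true := by decide +kernel
theorem t1692_rchk_1313 : allR t1692_rf 197670 6 (1313 * 2 ^ 6) = true := by decide +kernel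
theorem t1692_rchk_1314 : allR t1692_rf 197670 6 (1314 * 2 ^ 6) = true := by decide +kernel
theorem t1692_rchk_1315 : allR t1692_rf 197670 6 (1315 * 2 ^ 6) = true := by decide +kernel
theorem t1692_rchk_1316 : allR t1692_rf 197670 6 (1316 * 2 ^ 6) = true := by decide +kernel
theorem t1692_rchk_1317 : allR t1692_rf 197670 6 (1317 * 2 ^ 6) = true := by decide +kernel
theorem t1692_rchk_1318 : allR t1692_rf 197670 6 (1318 * 2 ^ 6) = true := by decide +kernel
theorem t1692_rchk_1319 : allR t1692_rf 197670 6 (1319 * 2 ^ 6) = true := by decide +kernel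
theorem t1692_rchk_1320 : allR t1692_rf 197670 6 (1320 * 2 ^ 6) = true := by decide +kernel
theorem t1692_rchk_1321 : allR t1692_rf 197670 6 (1321 * 2 ^ 6) = true := by decide +kernel
theorem t1692_rchk_1322 : allR t1692_rf 197670 6 (1322 * 2 ^ 6) = true := by decide +kernel
theorem t1692_rchk_1323 : allR t1692_rf 197670 6 (1323 * 2 ^ 6) = true := by decide +kernel
theorem t1692_rchk_1324 : allR t1692_rf 197670 6 (1324 * 2 ^ 6) = true := by decide +kernel
theorem t1692_rchk_1325 : allR t1692_rf 197670 6 (1325 * 2 ^ 6) = true := by decide +kernel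
theorem t1692_rchk_1326 : allR t1692_rf 197670 6 (1326 * 2 ^ 6) = true := by decide +kernel
theorem t1692_rchk_1327 : allR t1692_rf 197670 6 (1327 * 2 ^ 6) = true := by decide +kernel
theorem t1692_rchk_1328 : allR t1692_rf 197670 6 (1328 * 2 ^ 6) = true := by decide +kernel
theorem t1692_rchk_1329 : allR t1692_rf 197670 6 (1329 * 2 ^ 6) = true := by decide +kernel
theorem t1692_rchk_1330 : allR t1692_rf 197670 6 (1330 * 2 ^ 6) = true := by decide +kernel
theorem t1692_rchk_1331 : allR t1692_rf 197670 6 (1331 * 2 ^ 6) = true := by decide +kernel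
theorem t1692_rchk_1332 : allR t1692_rf 197670 6 (1332 * 2 ^ 6) = true := by decide +kernel
theorem t1692_rchk_1333 : allR t1692_rf 197670 6 (1333 * 2 ^ 6) = true := by decide +kernel
theorem t1692_rchk_1334 : allR t1692_rf 197670 6 (1334 * 2 ^ 6) = true := by decide +kernel
theorem t1692_rchk_1335 : allR t1692_rf 197670 6 (1335 * 2 ^ 6) = true := by decide +kernel
theorem t1692_rchk_1336 : allR t1692_rf 197670 6 (1336 * 2 ^ 6) = true := by decide +kernel
theorem t1692_rchk_1337 : allR t1692_rf 197670 6 (1337 * 2 ^ 6) = true := by decide +kernel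
theorem t1692_rchk_1338 : allR t1692_rf 197670 6 (1338 * 2 ^ 6) = true := by decide +kernel
theorem t1692_rchk_1339 : allR t1692_rf 197670 6 (1339 * 2 ^ 6) = true := by decide +kernel
theorem t1692_rchk_1340 : allR t1692_rf 197670 6 (1340 * 2 ^ 6) = true := by decide +kernel
theorem t1692_rchk_1341 : allR t1692_rf 197670 6 (1341 * 2 ^ 6) = true := by decide +kernel
theorem t1692_rchk_1342 : allR t1692_rf 197670 6 (1342 * 2 ^ 6) = true := by decide +kernel
theorem t1692_rchk_1343 : allR t1692_rf 197670 6 (1343 * 2 ^ 6) = true := by decide +kernel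
theorem t1692_rchk_1344 : allR t1692_rf 197670 6 (1344 * 2 ^ 6) = true := by decide +kernel
theorem t1692_rchk_1345 : allR t1692_rf 197670 6 (1345 * 2 ^ 6) = true := by decide +kernel
theorem t1692_rchk_1346 : allR t1692_rf 197670 6 (1346 * 2 ^ 6) = true := by decide +kernel
theorem t1692_rchk_1347 : allR t1692_rf 197670 6 (1347 * 2 ^ 6) = true := by decide +kernel
theorem t1692_rchk_1348 : allR t1692_rf 197670 6 (1348 * 2 ^ 6) = true := by decide +kernel
theorem t1692_rchk_1349 : allR t1692_rf 197670 6 (1349 * 2 ^ 6) = true := by decide +kernel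
theorem t1692_rchk_1350 : allR t1692_rf 197670 6 (1350 * 2 ^ 6) = true := by decide +kernel
theorem t1692_rchk_1351 : allR t1692_rf 197670 6 (1351 * 2 ^ 6) = true := by decide +kernel
theorem t1692_rchk_1352 : allR t1692_rf 197670 6 (1352 * 2 ^ 6) = true := by decide +kernel
theorem t1692_rchk_1353 : allR t1692_rf 197670 6 (1353 * 2 ^ 6) = true := by decide +kernel
theorem t1692_rchk_1354 : allR t1692_rf 197670 6 (1354 * 2 ^ 6) = true := by decide +kernel
theorem t1692_rchk_1355 : allR t1692_rf 197670 6 (1355 * 2 ^ 6) = true := by decide +kernel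
theorem t1692_rchk_1356 : allR t1692_rf 197670 6 (1356 * 2 ^ 6) = true := by decide +kernel
theorem t1692_rchk_1357 : allR t1692_rf 197670 6 (1357 * 2 ^ 6) = true := by decide +kernel
theorem t1692_rchk_1358 : allR t1692_rf 197670 6 (1358 * 2 ^ 6) = true := by decide +kernel
theorem t1692_rchk_1359 : allR t1692_rf 197670 6 (1359 * 2 ^ 6) = true := by decide +kernel

theorem t1692_rfile_16 : ∀ k, k < 1360 → 1280 ≤ k → allR t1692_rf 197670 6 (k * 2 ^ 6) = true := by
  intro k h1 h2
  interval_cases k
  · exact t1692_rchk_1280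
  · exact t1692_rchk_1281
  · exact t1692_rchk_1282
  · exact t1692_rchk_1283
  · exact t1692_rchk_1284
  · exact t1692_rchk_1285
  · exact t1692_rchk_1286
  · exact t1692_rchk_1287
  · exact t1692_rchk_1288
  · exact t1692_rchk_1289
  · exact t1692_rchk_1290
  · exact t1692_rchk_1291
  · exact t1692_rchk_1292
  · exact t1692_rchk_1293
  · exact t1692_rchk_1294
  · exact t1692_rchk_1295
  · exact t1692_rchk_1296
  · exact t1692_rchk_1297
  · exact t1692_rchk_1298
  · exact t1692_rchk_1299
  · exact t1692_rchk_1300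
  · exact t1692_rchk_1301
  · exact t1692_rchk_1302
  · exact t1692_rchk_1303
  · exact t1692_rchk_1304
  · exact t1692_rchk_1305
  · exact t1692_rchk_1306
  · exact t1692_rchk_1307
  · exact t1692_rchk_1308
  · exact t1692_rchk_1309
  · exact t1692_rchk_1310
  · exact t1692_rchk_1311
  · exact t1692_rchk_1312
  · exact t1692_rchk_1313
  · exact t1692_rchk_1314
  · exact t1692_rchk_1315
  · exact t1692_rchk_1316
  · exact t1692_rchk_1317
  · exact t1692_rchk_1318
  · exact t1692_rchk_1319
  · exact t1692_rchk_1320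
  · exact t1692_rchk_1321
  · exact t1692_rchk_1322
  · exact t1692_rchk_1323
  · exact t1692_rchk_1324
  · exact t1692_rchk_1325
  · exact t1692_rchk_1326
  · exact t1692_rchk_1327
  · exact t1692_rchk_1328
  · exact t1692_rchk_1329
  · exact t1692_rchk_1330
  · exact t1692_rchk_1331
  · exact t1692_rchk_1332
  · exact t1692_rchk_1333
  · exact t1692_rchk_1334
  · exact t1692_rchk_1335
  · exact t1692_rchk_1336
  · exact t1692_rchk_1337
  · exact t1692_rchk_1338
  · exact t1692_rchk_1339
  · exact t1692_rchk_1340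
  · exact t1692_rchk_1341
  · exact t1692_rchk_1342
  · exact t1692_rchk_1343
  · exact t1692_rchk_1344
  · exact t1692_rchk_1345
  · exact t1692_rchk_1346
  · exact t1692_rchk_1347
  · exact t1692_rchk_1348
  · exact t1692_rchk_1349
  · exact t1692_rchk_1350
  · exact t1692_rchk_1351
  · exact t1692_rchk_1352
  · exact t1692_rchk_1353
  · exact t1692_rchk_1354
  · exact t1692_rchk_1355
  · exact t1692_rchk_1356
  · exact t1692_rchk_1357
  · exact t1692_rchk_1358
  · exact t1692_rchk_1359

end Cfsg.Agent.H35
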