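import Cfsg.Agent.H35.T1692.RTab

set_option autoImplicit false
set_option linter.all false
set_option Elab.async false

namespace Cfsg.Agent.H35

theorem t1692_rchk_1360 : allR t1692_rf 197670 6 (1360 * 2 ^ 6) = true := by decide +kernel
theorem t1692_rchk_1361 : allR t1692_rf 197670 6 (1361 * 2 ^ 6) = true := by decide +kernel
theorem t1692_rchk_1362 : allR t1692_rf 197670 6 (1362 * 2 ^ 6) = true := by decide +kernel
theorem t1692_rchk_1363 : allR t1692_rf 197670 6 (1363 * 2 ^ 6) = true := by decide +kernel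
theorem t1692_rchk_1364 : allR t1692_rf 197670 6 (1364 * 2 ^ 6) = true := by decide +kernel
theorem t1692_rchk_1365 : allR t1692_rf 197670 6 (1365 * 2 ^ 6) = true := by decide +kernel
theorem t1692_rchk_1366 : allR t1692_rf 197670 6 (1366 * 2 ^ 6) = true := by decide +kernel
theorem t1692_rchk_1367 : allR t1692_rf 197670 6 (1367 * 2 ^ 6) = true := by decide +kernel
theorem t1692_rchk_1368 : allR t1692_rf 197670 6 (1368 * 2 ^ 6) = true := by decide +kernel
theorem t1692_rchk_1369 : allR t1692_rf 197670 6 (1369 * 2 ^ 6) = true := by decide +kernel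
theorem t1692_rchk_1370 : allR t1692_rf 197670 6 (1370 * 2 ^ 6) = true := by decide +kernel
theorem t1692_rchk_1371 : allR t1692_rf 197670 6 (1371 * 2 ^ 6) = true := by decide +kernel
theorem t1692_rchk_1372 : allR t1692_rf 197670 6 (1372 * 2 ^ 6) = true := by decide +kernel
theorem t1692_rchk_1373 : allR t1692_rf 197670 6 (1373 * 2 ^ 6) = true := by decide +kernel
theorem t1692_rchk_1374 : allR t1692_rf 197670 6 (1374 * 2 ^ 6) = true := by decide +kernel
theorem t1692_rchk_1375 : allR t1692_rf 197670 6 (1375 * 2 ^ 6) = true := by decide +kernel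
theorem t1692_rchk_1376 : allR t1692_rf 197670 6 (1376 * 2 ^ 6) = true := by decide +kernel
theorem t1692_rchk_1377 : allR t1692_rf 197670 6 (1377 * 2 ^ 6) = true := by decide +kernel
theorem t1692_rchk_1378 : allR t1692_rf 197670 6 (1378 * 2 ^ 6) = true := by decide +kernel
theorem t1692_rchk_1379 : allR t1692_rf 197670 6 (1379 * 2 ^ 6) = true := by decide +kernel
theorem t1692_rchk_1380 : allR t1692_rf 197670 6 (1380 * 2 ^ 6) = true := by decide +kernel
theorem t1692_rchk_1381 : allR t1692_rf 197670 6 (1381 * 2 ^ 6) = true := by decide +kernel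
theorem t1692_rchk_1382 : allR t1692_rf 197670 6 (1382 * 2 ^ 6) = true := by decide +kernel
theorem t1692_rchk_1383 : allR t1692_rf 197670 6 (1383 * 2 ^ 6) = true := by decide +kernel
theorem t1692_rchk_1384 : allR t1692_rf 197670 6 (1384 * 2 ^ 6) = true := by decide +kernel
theorem t1692_rchk_1385 : allR t1692_rf 197670 6 (1385 * 2 ^ 6) = true := by decide +kernel
theorem t1692_rchk_1386 : allR t1692_rf 197670 6 (1386 * 2 ^ 6) = true := by decide +kernel
theorem t1692_rchk_1387 : allR t1692_rf 197670 6 (1387 * 2 ^ 6) = true := by decide +kernel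
theorem t1692_rchk_1388 : allR t1692_rf 197670 6 (1388 * 2 ^ 6) = true := by decide +kernel
theorem t1692_rchk_1389 : allR t1692_rf 197670 6 (1389 * 2 ^ 6) = true := by decide +kernel
theorem t1692_rchk_1390 : allR t1692_rf 197670 6 (1390 * 2 ^ 6) = true := by decide +kernel
theorem t1692_rchk_1391 : allR t1692_rf 197670 6 (1391 * 2 ^ 6) = true := by decide +kernel
theorem t1692_rchk_1392 : allR t1692_rf 197670 6 (1392 * 2 ^ 6) = true := by decide +kernel
theorem t1692_rchk_1393 : allR t1692_rf 197670 6 (1393 * 2 ^ 6) = true := by decide +kernel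
theorem t1692_rchk_1394 : allR t1692_rf 197670 6 (1394 * 2 ^ 6) = true := by decide +kernel
theorem t1692_rchk_1395 : allR t1692_rf 197670 6 (1395 * 2 ^ 6) = true := by decide +kernel
theorem t1692_rchk_1396 : allR t1692_rf 197670 6 (1396 * 2 ^ 6) = true := by decide +kernel
theorem t1692_rchk_1397 : allR t1692_rf 197670 6 (1397 * 2 ^ 6) = true := by decide +kernel
theorem t1692_rchk_1398 : allR t1692_rf 197670 6 (1398 * 2 ^ 6) = true := by decide +kernel
theorem t1692_rchk_1399 : allR t1692_rf 197670 6 (1399 * 2 ^ 6) = true := by decide +kernel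
theorem t1692_rchk_1400 : allR t1692_rf 197670 6 (1400 * 2 ^ 6) = true := by decide +kernel
theorem t1692_rchk_1401 : allR t1692_rf 197670 6 (1401 * 2 ^ 6) = true := by decide +kernel
theorem t1692_rchk_1402 : allR t1692_rf 197670 6 (1402 * 2 ^ 6) = true := by decide +kernel
theorem t1692_rchk_1403 : allR t1692_rf 197670 6 (1403 * 2 ^ 6) = true := by decide +kernel
theorem t1692_rchk_1404 : allR t1692_rf 197670 6 (1404 * 2 ^ 6) = true := by decide +kernel
theorem t1692_rchk_1405 : allR t1692_rf 197670 6 (1405 * 2 ^ 6) = true := by decide +kernel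
theorem t1692_rchk_1406 : allR t1692_rf 197670 6 (1406 * 2 ^ 6) = true := by decide +kernel
theorem t1692_rchk_1407 : allR t1692_rf 197670 6 (1407 * 2 ^ 6) = true := by decide +kernel
theorem t1692_rchk_1408 : allR t1692_rf 197670 6 (1408 * 2 ^ 6) = true := by decide +kernel
theorem t1692_rchk_1409 : allR t1692_rf 197670 6 (1409 * 2 ^ 6) = true := by decide +kernel
theorem t1692_rchk_1410 : allR t1692_rf 197670 6 (1410 * 2 ^ 6) = true := by decide +kernel
theorem t1692_rchk_1411 : allR t1692_rf 197670 6 (1411 * 2 ^ 6) = true := by decide +kernel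
theorem t1692_rchk_1412 : allR t1692_rf 197670 6 (1412 * 2 ^ 6) = true := by decide +kernel
theorem t1692_rchk_1413 : allR t1692_rf 197670 6 (1413 * 2 ^ 6) = true := by decide +kernel
theorem t1692_rchk_1414 : allR t1692_rf 197670 6 (1414 * 2 ^ 6) = true := by decide +kernel
theorem t1692_rchk_1415 : allR t1692_rf 197670 6 (1415 * 2 ^ 6) = true := by decide +kernel
theorem t1692_rchk_1416 : allR t1692_rf 197670 6 (1416 * 2 ^ 6) = true := by decide +kernel
theorem t1692_rchk_1417 : allR t1692_rf 197670 6 (1417 * 2 ^ 6) = true := by decide +kernel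
theorem t1692_rchk_1418 : allR t1692_rf 197670 6 (1418 * 2 ^ 6) = true := by decide +kernel
theorem t1692_rchk_1419 : allR t1692_rf 197670 6 (1419 * 2 ^ 6) = true := by decide +kernel
theorem t1692_rchk_1420 : allR t1692_rf 197670 6 (1420 * 2 ^ 6) = true := by decide +kernel
theorem t1692_rchk_1421 : allR t1692_rf 197670 6 (1421 * 2 ^ 6) = true := by decide +kernel
theorem t1692_rchk_1422 : allR t1692_rf 197670 6 (1422 * 2 ^ 6) = true := by decide +kernel
theorem t1692_rchk_1423 : allR t1692_rf 197670 6 (1423 * 2 ^ 6) = true := by decide +kernel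
theorem t1692_rchk_1424 : allR t1692_rf 197670 6 (1424 * 2 ^ 6) = true := by decide +kernel
theorem t1692_rchk_1425 : allR t1692_rf 197670 6 (1425 * 2 ^ 6) = true := by decide +kernel
theorem t1692_rchk_1426 : allR t1692_rf 197670 6 (1426 * 2 ^ 6) = true := by decide +kernel
theorem t1692_rchk_1427 : allR t1692_rf 197670 6 (1427 * 2 ^ 6) = true := by decide +kernel
theorem t1692_rchk_1428 : allR t1692_rf 197670 6 (1428 * 2 ^ 6) = true := by decide +kernel
theorem t1692_rchk_1429 : allR t1692_rf 197670 6 (1429 * 2 ^ 6) = true := by decide +kernel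
theorem t1692_rchk_1430 : allR t1692_rf 197670 6 (1430 * 2 ^ 6) = true := by decide +kernel
theorem t1692_rchk_1431 : allR t1692_rf 197670 6 (1431 * 2 ^ 6) = true := by decide +kernel
theorem t1692_rchk_1432 : allR t1692_rf 197670 6 (1432 * 2 ^ 6) = true := by decide +kernel
theorem t1692_rchk_1433 : allR t1692_rf 197670 6 (1433 * 2 ^ 6) = true := by decide +kernel
theorem t1692_rchk_1434 : allR t1692_rf 197670 6 (1434 * 2 ^ 6) = true := by decide +kernel
theorem t1692_rchk_1435 : allR t1692_rf 197670 6 (1435 * 2 ^ 6) = true := by decide +kernel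
theorem t1692_rchk_1436 : allR t1692_rf 197670 6 (1436 * 2 ^ 6) = true := by decide +kernel
theorem t1692_rchk_1437 : allR t1692_rf 197670 6 (1437 * 2 ^ 6) = true := by decide +kernel
theorem t1692_rchk_1438 : allR t1692_rf 197670 6 (1438 * 2 ^ 6) = true := by decide +kernel
theorem t1692_rchk_1439 : allR t1692_rf 197670 6 (1439 * 2 ^ 6) = true := by decide +kernel

theorem t1692_rfile_17 : ∀ k, k < 1440 → 1360 ≤ k → allR t1692_rf 197670 6 (k * 2 ^ 6) = true := by
  intro k h1 h2
  interval_cases k
  · exact t1692_rchk_1360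
  · exact t1692_rchk_1361
  · exact t1692_rchk_1362
  · exact t1692_rchk_1363
  · exact t1692_rchk_1364
  · exact t1692_rchk_1365
  · exact t1692_rchk_1366
  · exact t1692_rchk_1367
  · exact t1692_rchk_1368
  · exact t1692_rchk_1369
  · exact t1692_rchk_1370
  · exact t1692_rchk_1371
  · exact t1692_rchk_1372
  · exact t1692_rchk_1373
  · exact t1692_rchk_1374
  · exact t1692_rchk_1375
  · exact t1692_rchk_1376
  · exact t1692_rchk_1377
  · exact t1692_rchk_1378
  · exact t1692_rchk_1379
  · exact t1692_rchk_1380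
  · exact t1692_rchk_1381
  · exact t1692_rchk_1382
  · exact t1692_rchk_1383
  · exact t1692_rchk_1384
  · exact t1692_rchk_1385
  · exact t1692_rchk_1386
  · exact t1692_rchk_1387
  · exact t1692_rchk_1388
  · exact t1692_rchk_1389
  · exact t1692_rchk_1390
  · exact t1692_rchk_1391
  · exact t1692_rchk_1392
  · exact t1692_rchk_1393
  · exact t1692_rchk_1394
  · exact t1692_rchk_1395
  · exact t1692_rchk_1396
  · exact t1692_rchk_1397
  · exact t1692_rchk_1398
  · exact t1692_rchk_1399
  · exact t1692_rchk_1400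
  · exact t1692_rchk_1401
  · exact t1692_rchk_1402
  · exact t1692_rchk_1403
  · exact t1692_rchk_1404
  · exact t1692_rchk_1405
  · exact t1692_rchk_1406
  · exact t1692_rchk_1407
  · exact t1692_rchk_1408
  · exact t1692_rchk_1409
  · exact t1692_rchk_1410
  · exact t1692_rchk_1411
  · exact t1692_rchk_1412
  · exact t1692_rchk_1413
  · exact t1692_rchk_1414
  · exact t1692_rchk_1415
  · exact t1692_rchk_1416
  · exact t1692_rchk_1417
  · exact t1692_rchk_1418
  · exact t1692_rchk_1419
  · exact t1692_rchk_1420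
  · exact t1692_rchk_1421
  · exact t1692_rchk_1422
  · exact t1692_rchk_1423
  · exact t1692_rchk_1424
  · exact t1692_rchk_1425
  · exact t1692_rchk_1426
  · exact t1692_rchk_1427
  · exact t1692_rchk_1428
  · exact t1692_rchk_1429
  · exact t1692_rchk_1430
  · exact t1692_rchk_1431
  · exact t1692_rchk_1432
  · exact t1692_rchk_1433
  · exact t1692_rchk_1434
  · exact t1692_rchk_1435
  · exact t1692_rchk_1436
  · exact t1692_rchk_1437
  · exact t1692_rchk_1438
  · exact t1692_rchk_1439

end Cfsg.Agent.H35
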