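import Cfsg.Agent.H35.T1692.RTab

set_option autoImplicit false
set_option linter.all false
set_option Elab.async false

namespace Cfsg.Agent.H35

theorem t1692_rchk_1440 : allR t1692_rf 197670 6 (1440 * 2 ^ 6) = true := by decide +kernel
theorem t1692_rchk_1441 : allR t1692_rf 197670 6 (1441 * 2 ^ 6) = true := by decide +kernel
theorem t1692_rchk_1442 : allR t1692_rf 197670 6 (1442 * 2 ^ 6) = true := by decide +kernel
theorem t1692_rchk_1443 : allR t1692_rf 197670 6 (1443 * 2 ^ 6) = true := by decide +kernel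
theorem t1692_rchk_1444 : allR t1692_rf 197670 6 (1444 * 2 ^ 6) = true := by decide +kernel
theorem t1692_rchk_1445 : allR t1692_rf 197670 6 (1445 * 2 ^ 6) = true := by decide +kernel
theorem t1692_rchk_1446 : allR t1692_rf 197670 6 (1446 * 2 ^ 6) = true := by decide +kernel
theorem t1692_rchk_1447 : allR t1692_rf 197670 6 (1447 * 2 ^ 6) = true := by decide +kernel
theorem t1692_rchk_1448 : allR t1692_rf 197670 6 (1448 * 2 ^ 6) = true := by decide +kernel
theorem t1692_rchk_1449 : allR t1692_rf 197670 6 (1449 * 2 ^ 6) = true := by decide +kernel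
theorem t1692_rchk_1450 : allR t1692_rf 197670 6 (1450 * 2 ^ 6) = true := by decide +kernel
theorem t1692_rchk_1451 : allR t1692_rf 197670 6 (1451 * 2 ^ 6) = true := by decide +kernel
theorem t1692_rchk_1452 : allR t1692_rf 197670 6 (1452 * 2 ^ 6) = true := by decide +kernel
theorem t1692_rchk_1453 : allR t1692_rf 197670 6 (1453 * 2 ^ 6) = true := by decide +kernel
theorem t1692_rchk_1454 : allR t1692_rf 197670 6 (1454 * 2 ^ 6) = true := by decide +kernel
theorem t1692_rchk_1455 : allR t1692_rf 197670 6 (1455 * 2 ^ 6) = true := by decide +kernel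
theorem t1692_rchk_1456 : allR t1692_rf 197670 6 (1456 * 2 ^ 6) = true := by decide +kernel
theorem t1692_rchk_1457 : allR t1692_rf 197670 6 (1457 * 2 ^ 6) = true := by decide +kernel
theorem t1692_rchk_1458 : allR t1692_rf 197670 6 (1458 * 2 ^ 6) = true := by decide +kernel
theorem t1692_rchk_1459 : allR t1692_rf 197670 6 (1459 * 2 ^ 6) = true := by decide +kernel
theorem t1692_rchk_1460 : allR t1692_rf 197670 6 (1460 * 2 ^ 6) = true := by decide +kernel
theorem t1692_rchk_1461 : allR t1692_rf 197670 6 (1461 * 2 ^ 6) = true := by decide +kernel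
theorem t1692_rchk_1462 : allR t1692_rf 197670 6 (1462 * 2 ^ 6) = true := by decide +kernel
theorem t1692_rchk_1463 : allR t1692_rf 197670 6 (1463 * 2 ^ 6) = true := by decide +kernel
theorem t1692_rchk_1464 : allR t1692_rf 197670 6 (1464 * 2 ^ 6) = true := by decide +kernel
theorem t1692_rchk_1465 : allR t1692_rf 197670 6 (1465 * 2 ^ 6) = true := by decide +kernel
theorem t1692_rchk_1466 : allR t1692_rf 197670 6 (1466 * 2 ^ 6) = true := by decide +kernel
theorem t1692_rchk_1467 : allR t1692_rf 197670 6 (1467 * 2 ^ 6) = true := by decide +kernel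
theorem t1692_rchk_1468 : allR t1692_rf 197670 6 (1468 * 2 ^ 6) = true := by decide +kernel
theorem t1692_rchk_1469 : allR t1692_rf 197670 6 (1469 * 2 ^ 6) = true := by decide +kernel
theorem t1692_rchk_1470 : allR t1692_rf 197670 6 (1470 * 2 ^ 6) = true := by decide +kernel
theorem t1692_rchk_1471 : allR t1692_rf 197670 6 (1471 * 2 ^ 6) = true := by decide +kernel
theorem t1692_rchk_1472 : allR t1692_rf 197670 6 (1472 * 2 ^ 6) = true := by decide +kernel
theorem t1692_rchk_1473 : allR t1692_rf 197670 6 (1473 * 2 ^ 6) = true := by decide +kernel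
theorem t1692_rchk_1474 : allR t1692_rf 197670 6 (1474 * 2 ^ 6) = true := by decide +kernel
theorem t1692_rchk_1475 : allR t1692_rf 197670 6 (1475 * 2 ^ 6) = true := by decide +kernel
theorem t1692_rchk_1476 : allR t1692_rf 197670 6 (1476 * 2 ^ 6) = true := by decide +kernel
theorem t1692_rchk_1477 : allR t1692_rf 197670 6 (1477 * 2 ^ 6) = true := by decide +kernel
theorem t1692_rchk_1478 : allR t1692_rf 197670 6 (1478 * 2 ^ 6) = true := by decide +kernel
theorem t1692_rchk_1479 : allR t1692_rf 197670 6 (1479 * 2 ^ 6) = true := by decide +kernel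
theorem t1692_rchk_1480 : allR t1692_rf 197670 6 (1480 * 2 ^ 6) = true := by decide +kernel
theorem t1692_rchk_1481 : allR t1692_rf 197670 6 (1481 * 2 ^ 6) = true := by decide +kernel
theorem t1692_rchk_1482 : allR t1692_rf 197670 6 (1482 * 2 ^ 6) = true := by decide +kernel
theorem t1692_rchk_1483 : allR t1692_rf 197670 6 (1483 * 2 ^ 6) = true := by decide +kernel
theorem t1692_rchk_1484 : allR t1692_rf 197670 6 (1484 * 2 ^ 6) = true := by decide +kernel
theorem t1692_rchk_1485 : allR t1692_rf 197670 6 (1485 * 2 ^ 6) = true := by decide +kernel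
theorem t1692_rchk_1486 : allR t1692_rf 197670 6 (1486 * 2 ^ 6) = true := by decide +kernel
theorem t1692_rchk_1487 : allR t1692_rf 197670 6 (1487 * 2 ^ 6) = true := by decide +kernel
theorem t1692_rchk_1488 : allR t1692_rf 197670 6 (1488 * 2 ^ 6) = true := by decide +kernel
theorem t1692_rchk_1489 : allR t1692_rf 197670 6 (1489 * 2 ^ 6) = true := by decide +kernel
theorem t1692_rchk_1490 : allR t1692_rf 197670 6 (1490 * 2 ^ 6) = true := by decide +kernel
theorem t1692_rchk_1491 : allR t1692_rf 197670 6 (1491 * 2 ^ 6) = true := by decide +kernel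
theorem t1692_rchk_1492 : allR t1692_rf 197670 6 (1492 * 2 ^ 6) = true := by decide +kernel
theorem t1692_rchk_1493 : allR t1692_rf 197670 6 (1493 * 2 ^ 6) = true := by decide +kernel
theorem t1692_rchk_1494 : allR t1692_rf 197670 6 (1494 * 2 ^ 6) = true := by decide +kernel
theorem t1692_rchk_1495 : allR t1692_rf 197670 6 (1495 * 2 ^ 6) = true := by decide +kernel
theorem t1692_rchk_1496 : allR t1692_rf 197670 6 (1496 * 2 ^ 6) = true := by decide +kernel
theorem t1692_rchk_1497 : allR t1692_rf 197670 6 (1497 * 2 ^ 6) = true := by decide +kernel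
theorem t1692_rchk_1498 : allR t1692_rf 197670 6 (1498 * 2 ^ 6) = true := by decide +kernel
theorem t1692_rchk_1499 : allR t1692_rf 197670 6 (1499 * 2 ^ 6) = true := by decide +kernel
theorem t1692_rchk_1500 : allR t1692_rf 197670 6 (1500 * 2 ^ 6) = true := by decide +kernel
theorem t1692_rchk_1501 : allR t1692_rf 197670 6 (1501 * 2 ^ 6) = true := by decide +kernel
theorem t1692_rchk_1502 : allR t1692_rf 197670 6 (1502 * 2 ^ 6) = true := by decide +kernel
theorem t1692_rchk_1503 : allR t1692_rf 197670 6 (1503 * 2 ^ 6) = true := by decide +kernel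
theorem t1692_rchk_1504 : allR t1692_rf 197670 6 (1504 * 2 ^ 6) = true := by decide +kernel
theorem t1692_rchk_1505 : allR t1692_rf 197670 6 (1505 * 2 ^ 6) = true := by decide +kernel
theorem t1692_rchk_1506 : allR t1692_rf 197670 6 (1506 * 2 ^ 6) = true := by decide +kernel
theorem t1692_rchk_1507 : allR t1692_rf 197670 6 (1507 * 2 ^ 6) = true := by decide +kernel
theorem t1692_rchk_1508 : allR t1692_rf 197670 6 (1508 * 2 ^ 6) = true := by decide +kernel
theorem t1692_rchk_1509 : allR t1692_rf 197670 6 (1509 * 2 ^ 6) = true := by decide +kernel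
theorem t1692_rchk_1510 : allR t1692_rf 197670 6 (1510 * 2 ^ 6) = true := by decide +kernel
theorem t1692_rchk_1511 : allR t1692_rf 197670 6 (1511 * 2 ^ 6) = true := by decide +kernel
theorem t1692_rchk_1512 : allR t1692_rf 197670 6 (1512 * 2 ^ 6) = true := by decide +kernel
theorem t1692_rchk_1513 : allR t1692_rf 197670 6 (1513 * 2 ^ 6) = true := by decide +kernel
theorem t1692_rchk_1514 : allR t1692_rf 197670 6 (1514 * 2 ^ 6) = true := by decide +kernel
theorem t1692_rchk_1515 : allR t1692_rf 197670 6 (1515 * 2 ^ 6) = true := by decide +kernel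
theorem t1692_rchk_1516 : allR t1692_rf 197670 6 (1516 * 2 ^ 6) = true := by decide +kernel
theorem t1692_rchk_1517 : allR t1692_rf 197670 6 (1517 * 2 ^ 6) = true := by decide +kernel
theorem t1692_rchk_1518 : allR t1692_rf 197670 6 (1518 * 2 ^ 6) = true := by decide +kernel
theorem t1692_rchk_1519 : allR t1692_rf 197670 6 (1519 * 2 ^ 6) = true := by decide +kernel

theorem t1692_rfile_18 : ∀ k, k < 1520 → 1440 ≤ k → allR t1692_rf 197670 6 (k * 2 ^ 6) = true := by
  intro k h1 h2
  interval_cases k
  · exact t1692_rchk_1440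
  · exact t1692_rchk_1441
  · exact t1692_rchk_1442
  · exact t1692_rchk_1443
  · exact t1692_rchk_1444
  · exact t1692_rchk_1445
  · exact t1692_rchk_1446
  · exact t1692_rchk_1447
  · exact t1692_rchk_1448
  · exact t1692_rchk_1449
  · exact t1692_rchk_1450
  · exact t1692_rchk_1451
  · exact t1692_rchk_1452
  · exact t1692_rchk_1453
  · exact t1692_rchk_1454
  · exact t1692_rchk_1455
  · exact t1692_rchk_1456
  · exact t1692_rchk_1457
  · exact t1692_rchk_1458
  · exact t1692_rchk_1459
  · exact t1692_rchk_1460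
  · exact t1692_rchk_1461
  · exact t1692_rchk_1462
  · exact t1692_rchk_1463
  · exact t1692_rchk_1464
  · exact t1692_rchk_1465
  · exact t1692_rchk_1466
  · exact t1692_rchk_1467
  · exact t1692_rchk_1468
  · exact t1692_rchk_1469
  · exact t1692_rchk_1470
  · exact t1692_rchk_1471
  · exact t1692_rchk_1472
  · exact t1692_rchk_1473
  · exact t1692_rchk_1474
  · exact t1692_rchk_1475
  · exact t1692_rchk_1476
  · exact t1692_rchk_1477
  · exact t1692_rchk_1478
  · exact t1692_rchk_1479
  · exact t1692_rchk_1480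
  · exact t1692_rchk_1481
  · exact t1692_rchk_1482
  · exact t1692_rchk_1483
  · exact t1692_rchk_1484
  · exact t1692_rchk_1485
  · exact t1692_rchk_1486
  · exact t1692_rchk_1487
  · exact t1692_rchk_1488
  · exact t1692_rchk_1489
  · exact t1692_rchk_1490
  · exact t1692_rchk_1491
  · exact t1692_rchk_1492
  · exact t1692_rchk_1493
  · exact t1692_rchk_1494
  · exact t1692_rchk_1495
  · exact t1692_rchk_1496
  · exact t1692_rchk_1497
  · exact t1692_rchk_1498
  · exact t1692_rchk_1499
  · exact t1692_rchk_1500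
  · exact t1692_rchk_1501
  · exact t1692_rchk_1502
  · exact t1692_rchk_1503
  · exact t1692_rchk_1504
  · exact t1692_rchk_1505
  · exact t1692_rchk_1506
  · exact t1692_rchk_1507
  · exact t1692_rchk_1508
  · exact t1692_rchk_1509
  · exact t1692_rchk_1510
  · exact t1692_rchk_1511
  · exact t1692_rchk_1512
  · exact t1692_rchk_1513
  · exact t1692_rchk_1514
  · exact t1692_rchk_1515
  · exact t1692_rchk_1516
  · exact t1692_rchk_1517
  · exact t1692_rchk_1518
  · exact t1692_rchk_1519

end Cfsg.Agent.H35
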