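import Cfsg.Agent.H35.T1692.RTab

set_option autoImplicit false
set_option linter.all false
set_option Elab.async false

namespace Cfsg.Agent.H35

theorem t1692_rchk_1600 : allR t1692_rf 197670 6 (1600 * 2 ^ 6) = true := by decide +kernel
theorem t1692_rchk_1601 : allR t1692_rf 197670 6 (1601 * 2 ^ 6) = true := by decide +kernel
theorem t1692_rchk_1602 : allR t1692_rf 197670 6 (1602 * 2 ^ 6) = true := by decide +kernel
theorem t1692_rchk_1603 : allR t1692_rf 197670 6 (1603 * 2 ^ 6) = true := by decide +kernel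
theorem t1692_rchk_1604 : allR t1692_rf 197670 6 (1604 * 2 ^ 6) = true := by decide +kernel
theorem t1692_rchk_1605 : allR t1692_rf 197670 6 (1605 * 2 ^ 6) = true := by decide +kernel
theorem t1692_rchk_1606 : allR t1692_rf 197670 6 (1606 * 2 ^ 6) = true := by decide +kernel
theorem t1692_rchk_1607 : allR t1692_rf 197670 6 (1607 * 2 ^ 6) = true := by decide +kernel
theorem t1692_rchk_1608 : allR t1692_rf 197670 6 (1608 * 2 ^ 6) = true := by decide +kernel
theorem t1692_rchk_1609 : allR t1692_rf 197670 6 (1609 * 2 ^ 6) = true := by decide +kernel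
theorem t1692_rchk_1610 : allR t1692_rf 197670 6 (1610 * 2 ^ 6) = true := by decide +kernel
theorem t1692_rchk_1611 : allR t1692_rf 197670 6 (1611 * 2 ^ 6) = true := by decide +kernel
theorem t1692_rchk_1612 : allR t1692_rf 197670 6 (1612 * 2 ^ 6) = true := by decide +kernel
theorem t1692_rchk_1613 : allR t1692_rf 197670 6 (1613 * 2 ^ 6) = true := by decide +kernel
theorem t1692_rchk_1614 : allR t1692_rf 197670 6 (1614 * 2 ^ 6) = true := by decide +kernel
theorem t1692_rchk_1615 : allR t1692_rf 197670 6 (1615 * 2 ^ 6) = true := by decide +kernel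
theorem t1692_rchk_1616 : allR t1692_rf 197670 6 (1616 * 2 ^ 6) = true := by decide +kernel
theorem t1692_rchk_1617 : allR t1692_rf 197670 6 (1617 * 2 ^ 6) = true := by decide +kernel
theorem t1692_rchk_1618 : allR t1692_rf 197670 6 (1618 * 2 ^ 6) = true := by decide +kernel
theorem t1692_rchk_1619 : allR t1692_rf 197670 6 (1619 * 2 ^ 6) = true := by decide +kernel
theorem t1692_rchk_1620 : allR t1692_rf 197670 6 (1620 * 2 ^ 6) = true := by decide +kernel
theorem t1692_rchk_1621 : allR t1692_rf 197670 6 (1621 * 2 ^ 6) = true := by decide +kernel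
theorem t1692_rchk_1622 : allR t1692_rf 197670 6 (1622 * 2 ^ 6) = true := by decide +kernel
theorem t1692_rchk_1623 : allR t1692_rf 197670 6 (1623 * 2 ^ 6) = true := by decide +kernel
theorem t1692_rchk_1624 : allR t1692_rf 197670 6 (1624 * 2 ^ 6) = true := by decide +kernel
theorem t1692_rchk_1625 : allR t1692_rf 197670 6 (1625 * 2 ^ 6) = true := by decide +kernel
theorem t1692_rchk_1626 : allR t1692_rf 197670 6 (1626 * 2 ^ 6) = true := by decide +kernel
theorem t1692_rchk_1627 : allR t1692_rf 197670 6 (1627 * 2 ^ 6) = true := by decide +kernel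
theorem t1692_rchk_1628 : allR t1692_rf 197670 6 (1628 * 2 ^ 6) = true := by decide +kernel
theorem t1692_rchk_1629 : allR t1692_rf 197670 6 (1629 * 2 ^ 6) = true := by decide +kernel
theorem t1692_rchk_1630 : allR t1692_rf 197670 6 (1630 * 2 ^ 6) = true := by decide +kernel
theorem t1692_rchk_1631 : allR t1692_rf 197670 6 (1631 * 2 ^ 6) = true := by decide +kernel
theorem t1692_rchk_1632 : allR t1692_rf 197670 6 (1632 * 2 ^ 6) = true := by decide +kernel
theorem t1692_rchk_1633 : allR t1692_rf 197670 6 (1633 * 2 ^ 6) = true := by decide +kernel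
theorem t1692_rchk_1634 : allR t1692_rf 197670 6 (1634 * 2 ^ 6) = true := by decide +kernel
theorem t1692_rchk_1635 : allR t1692_rf 197670 6 (1635 * 2 ^ 6) = true := by decide +kernel
theorem t1692_rchk_1636 : allR t1692_rf 197670 6 (1636 * 2 ^ 6) = true := by decide +kernel
theorem t1692_rchk_1637 : allR t1692_rf 197670 6 (1637 * 2 ^ 6) = true := by decide +kernel
theorem t1692_rchk_1638 : allR t1692_rf 197670 6 (1638 * 2 ^ 6) = true := by decide +kernel
theorem t1692_rchk_1639 : allR t1692_rf 197670 6 (1639 * 2 ^ 6) = true := by decide +kernel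
theorem t1692_rchk_1640 : allR t1692_rf 197670 6 (1640 * 2 ^ 6) = true := by decide +kernel
theorem t1692_rchk_1641 : allR t1692_rf 197670 6 (1641 * 2 ^ 6) = true := by decide +kernel
theorem t1692_rchk_1642 : allR t1692_rf 197670 6 (1642 * 2 ^ 6) = true := by decide +kernel
theorem t1692_rchk_1643 : allR t1692_rf 197670 6 (1643 * 2 ^ 6) = true := by decide +kernel
theorem t1692_rchk_1644 : allR t1692_rf 197670 6 (1644 * 2 ^ 6) = true := by decide +kernel
theorem t1692_rchk_1645 : allR t1692_rf 197670 6 (1645 * 2 ^ 6) = true := by decide +kernel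
theorem t1692_rchk_1646 : allR t1692_rf 197670 6 (1646 * 2 ^ 6) = true := by decide +kernel
theorem t1692_rchk_1647 : allR t1692_rf 197670 6 (1647 * 2 ^ 6) = true := by decide +kernel
theorem t1692_rchk_1648 : allR t1692_rf 197670 6 (1648 * 2 ^ 6) = true := by decide +kernel
theorem t1692_rchk_1649 : allR t1692_rf 197670 6 (1649 * 2 ^ 6) = true := by decide +kernel
theorem t1692_rchk_1650 : allR t1692_rf 197670 6 (1650 * 2 ^ 6) = true := by decide +kernel
theorem t1692_rchk_1651 : allR t1692_rf 197670 6 (1651 * 2 ^ 6) = true := by decide +kernel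
theorem t1692_rchk_1652 : allR t1692_rf 197670 6 (1652 * 2 ^ 6) = true := by decide +kernel
theorem t1692_rchk_1653 : allR t1692_rf 197670 6 (1653 * 2 ^ 6) = true := by decide +kernel
theorem t1692_rchk_1654 : allR t1692_rf 197670 6 (1654 * 2 ^ 6) = true := by decide +kernel
theorem t1692_rchk_1655 : allR t1692_rf 197670 6 (1655 * 2 ^ 6) = true := by decide +kernel
theorem t1692_rchk_1656 : allR t1692_rf 197670 6 (1656 * 2 ^ 6) = true := by decide +kernel
theorem t1692_rchk_1657 : allR t1692_rf 197670 6 (1657 * 2 ^ 6) = true := by decide +kernel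
theorem t1692_rchk_1658 : allR t1692_rf 197670 6 (1658 * 2 ^ 6) = true := by decide +kernel
theorem t1692_rchk_1659 : allR t1692_rf 197670 6 (1659 * 2 ^ 6) = true := by decide +kernel
theorem t1692_rchk_1660 : allR t1692_rf 197670 6 (1660 * 2 ^ 6) = true := by decide +kernel
theorem t1692_rchk_1661 : allR t1692_rf 197670 6 (1661 * 2 ^ 6) = true := by decide +kernel
theorem t1692_rchk_1662 : allR t1692_rf 197670 6 (1662 * 2 ^ 6) = true := by decide +kernel
theorem t1692_rchk_1663 : allR t1692_rf 197670 6 (1663 * 2 ^ 6) = true := by decide +kernel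
theorem t1692_rchk_1664 : allR t1692_rf 197670 6 (1664 * 2 ^ 6) = true := by decide +kernel
theorem t1692_rchk_1665 : allR t1692_rf 197670 6 (1665 * 2 ^ 6) = true := by decide +kernel
theorem t1692_rchk_1666 : allR t1692_rf 197670 6 (1666 * 2 ^ 6) = true := by decide +kernel
theorem t1692_rchk_1667 : allR t1692_rf 197670 6 (1667 * 2 ^ 6) = true := by decide +kernel
theorem t1692_rchk_1668 : allR t1692_rf 197670 6 (1668 * 2 ^ 6) = true := by decide +kernel
theorem t1692_rchk_1669 : allR t1692_rf 197670 6 (1669 * 2 ^ 6) = true := by decide +kernel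
theorem t1692_rchk_1670 : allR t1692_rf 197670 6 (1670 * 2 ^ 6) = true := by decide +kernel
theorem t1692_rchk_1671 : allR t1692_rf 197670 6 (1671 * 2 ^ 6) = true := by decide +kernel
theorem t1692_rchk_1672 : allR t1692_rf 197670 6 (1672 * 2 ^ 6) = true := by decide +kernel
theorem t1692_rchk_1673 : allR t1692_rf 197670 6 (1673 * 2 ^ 6) = true := by decide +kernel
theorem t1692_rchk_1674 : allR t1692_rf 197670 6 (1674 * 2 ^ 6) = true := by decide +kernel
theorem t1692_rchk_1675 : allR t1692_rf 197670 6 (1675 * 2 ^ 6) = true := by decide +kernel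
theorem t1692_rchk_1676 : allR t1692_rf 197670 6 (1676 * 2 ^ 6) = true := by decide +kernel
theorem t1692_rchk_1677 : allR t1692_rf 197670 6 (1677 * 2 ^ 6) = true := by decide +kernel
theorem t1692_rchk_1678 : allR t1692_rf 197670 6 (1678 * 2 ^ 6) = true := by decide +kernel
theorem t1692_rchk_1679 : allR t1692_rf 197670 6 (1679 * 2 ^ 6) = true := by decide +kernel

theorem t1692_rfile_20 : ∀ k, k < 1680 → 1600 ≤ k → allR t1692_rf 197670 6 (k * 2 ^ 6) = true := by
  intro k h1 h2
  interval_cases k
  · exact t1692_rchk_1600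
  · exact t1692_rchk_1601
  · exact t1692_rchk_1602
  · exact t1692_rchk_1603
  · exact t1692_rchk_1604
  · exact t1692_rchk_1605
  · exact t1692_rchk_1606
  · exact t1692_rchk_1607
  · exact t1692_rchk_1608
  · exact t1692_rchk_1609
  · exact t1692_rchk_1610
  · exact t1692_rchk_1611
  · exact t1692_rchk_1612
  · exact t1692_rchk_1613
  · exact t1692_rchk_1614
  · exact t1692_rchk_1615
  · exact t1692_rchk_1616
  · exact t1692_rchk_1617
  · exact t1692_rchk_1618
  · exact t1692_rchk_1619
  · exact t1692_rchk_1620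
  · exact t1692_rchk_1621
  · exact t1692_rchk_1622
  · exact t1692_rchk_1623
  · exact t1692_rchk_1624
  · exact t1692_rchk_1625
  · exact t1692_rchk_1626
  · exact t1692_rchk_1627
  · exact t1692_rchk_1628
  · exact t1692_rchk_1629
  · exact t1692_rchk_1630
  · exact t1692_rchk_1631
  · exact t1692_rchk_1632
  · exact t1692_rchk_1633
  · exact t1692_rchk_1634
  · exact t1692_rchk_1635
  · exact t1692_rchk_1636
  · exact t1692_rchk_1637
  · exact t1692_rchk_1638
  · exact t1692_rchk_1639
  · exact t1692_rchk_1640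
  · exact t1692_rchk_1641
  · exact t1692_rchk_1642
  · exact t1692_rchk_1643
  · exact t1692_rchk_1644
  · exact t1692_rchk_1645
  · exact t1692_rchk_1646
  · exact t1692_rchk_1647
  · exact t1692_rchk_1648
  · exact t1692_rchk_1649
  · exact t1692_rchk_1650
  · exact t1692_rchk_1651
  · exact t1692_rchk_1652
  · exact t1692_rchk_1653
  · exact t1692_rchk_1654
  · exact t1692_rchk_1655
  · exact t1692_rchk_1656
  · exact t1692_rchk_1657
  · exact t1692_rchk_1658
  · exact t1692_rchk_1659
  · exact t1692_rchk_1660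
  · exact t1692_rchk_1661
  · exact t1692_rchk_1662
  · exact t1692_rchk_1663
  · exact t1692_rchk_1664
  · exact t1692_rchk_1665
  · exact t1692_rchk_1666
  · exact t1692_rchk_1667
  · exact t1692_rchk_1668
  · exact t1692_rchk_1669
  · exact t1692_rchk_1670
  · exact t1692_rchk_1671
  · exact t1692_rchk_1672
  · exact t1692_rchk_1673
  · exact t1692_rchk_1674
  · exact t1692_rchk_1675
  · exact t1692_rchk_1676
  · exact t1692_rchk_1677
  · exact t1692_rchk_1678
  · exact t1692_rchk_1679

end Cfsg.Agent.H35
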