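import Cfsg.Agent.H35.T1692.RTab

set_option autoImplicit false
set_option linter.all false
set_option Elab.async false

namespace Cfsg.Agent.H35

theorem t1692_rchk_1680 : allR t1692_rf 197670 6 (1680 * 2 ^ 6) = true := by decide +kernel
theorem t1692_rchk_1681 : allR t1692_rf 197670 6 (1681 * 2 ^ 6) = true := by decide +kernel
theorem t1692_rchk_1682 : allR t1692_rf 197670 6 (1682 * 2 ^ 6) = true := by decide +kernel
theorem t1692_rchk_1683 : allR t1692_rf 197670 6 (1683 * 2 ^ 6) = true := by decide +kernel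
theorem t1692_rchk_1684 : allR t1692_rf 197670 6 (1684 * 2 ^ 6) = true := by decide +kernel
theorem t1692_rchk_1685 : allR t1692_rf 197670 6 (1685 * 2 ^ 6) = true := by decide +kernel
theorem t1692_rchk_1686 : allR t1692_rf 197670 6 (1686 * 2 ^ 6) = true := by decide +kernel
theorem t1692_rchk_1687 : allR t1692_rf 197670 6 (1687 * 2 ^ 6) = true := by decide +kernel
theorem t1692_rchk_1688 : allR t1692_rf 197670 6 (1688 * 2 ^ 6) = true := by decide +kernel
theorem t1692_rchk_1689 : allR t1692_rf 197670 6 (1689 * 2 ^ 6) = true := by decide +kernel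
theorem t1692_rchk_1690 : allR t1692_rf 197670 6 (1690 * 2 ^ 6) = true := by decide +kernel
theorem t1692_rchk_1691 : allR t1692_rf 197670 6 (1691 * 2 ^ 6) = true := by decide +kernel
theorem t1692_rchk_1692 : allR t1692_rf 197670 6 (1692 * 2 ^ 6) = true := by decide +kernel
theorem t1692_rchk_1693 : allR t1692_rf 197670 6 (1693 * 2 ^ 6) = true := by decide +kernel
theorem t1692_rchk_1694 : allR t1692_rf 197670 6 (1694 * 2 ^ 6) = true := by decide +kernel
theorem t1692_rchk_1695 : allR t1692_rf 197670 6 (1695 * 2 ^ 6) = true := by decide +kernel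
theorem t1692_rchk_1696 : allR t1692_rf 197670 6 (1696 * 2 ^ 6) = true := by decide +kernel
theorem t1692_rchk_1697 : allR t1692_rf 197670 6 (1697 * 2 ^ 6) = true := by decide +kernel
theorem t1692_rchk_1698 : allR t1692_rf 197670 6 (1698 * 2 ^ 6) = true := by decide +kernel
theorem t1692_rchk_1699 : allR t1692_rf 197670 6 (1699 * 2 ^ 6) = true := by decide +kernel
theorem t1692_rchk_1700 : allR t1692_rf 197670 6 (1700 * 2 ^ 6) = true := by decide +kernel
theorem t1692_rchk_1701 : allR t1692_rf 197670 6 (1701 * 2 ^ 6) = true := by decide +kernel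
theorem t1692_rchk_1702 : allR t1692_rf 197670 6 (1702 * 2 ^ 6) = true := by decide +kernel
theorem t1692_rchk_1703 : allR t1692_rf 197670 6 (1703 * 2 ^ 6) = true := by decide +kernel
theorem t1692_rchk_1704 : allR t1692_rf 197670 6 (1704 * 2 ^ 6) = true := by decide +kernel
theorem t1692_rchk_1705 : allR t1692_rf 197670 6 (1705 * 2 ^ 6) = true := by decide +kernel
theorem t1692_rchk_1706 : allR t1692_rf 197670 6 (1706 * 2 ^ 6) = true := by decide +kernel
theorem t1692_rchk_1707 : allR t1692_rf 197670 6 (1707 * 2 ^ 6) = true := by decide +kernel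
theorem t1692_rchk_1708 : allR t1692_rf 197670 6 (1708 * 2 ^ 6) = true := by decide +kernel
theorem t1692_rchk_1709 : allR t1692_rf 197670 6 (1709 * 2 ^ 6) = true := by decide +kernel
theorem t1692_rchk_1710 : allR t1692_rf 197670 6 (1710 * 2 ^ 6) = true := by decide +kernel
theorem t1692_rchk_1711 : allR t1692_rf 197670 6 (1711 * 2 ^ 6) = true := by decide +kernel
theorem t1692_rchk_1712 : allR t1692_rf 197670 6 (1712 * 2 ^ 6) = true := by decide +kernel
theorem t1692_rchk_1713 : allR t1692_rf 197670 6 (1713 * 2 ^ 6) = true := by decide +kernel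
theorem t1692_rchk_1714 : allR t1692_rf 197670 6 (1714 * 2 ^ 6) = true := by decide +kernel
theorem t1692_rchk_1715 : allR t1692_rf 197670 6 (1715 * 2 ^ 6) = true := by decide +kernel
theorem t1692_rchk_1716 : allR t1692_rf 197670 6 (1716 * 2 ^ 6) = true := by decide +kernel
theorem t1692_rchk_1717 : allR t1692_rf 197670 6 (1717 * 2 ^ 6) = true := by decide +kernel
theorem t1692_rchk_1718 : allR t1692_rf 197670 6 (1718 * 2 ^ 6) = true := by decide +kernel
theorem t1692_rchk_1719 : allR t1692_rf 197670 6 (1719 * 2 ^ 6) = true := by decide +kernel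
theorem t1692_rchk_1720 : allR t1692_rf 197670 6 (1720 * 2 ^ 6) = true := by decide +kernel
theorem t1692_rchk_1721 : allR t1692_rf 197670 6 (1721 * 2 ^ 6) = true := by decide +kernel
theorem t1692_rchk_1722 : allR t1692_rf 197670 6 (1722 * 2 ^ 6) = true := by decide +kernel
theorem t1692_rchk_1723 : allR t1692_rf 197670 6 (1723 * 2 ^ 6) = true := by decide +kernel
theorem t1692_rchk_1724 : allR t1692_rf 197670 6 (1724 * 2 ^ 6) = true := by decide +kernel
theorem t1692_rchk_1725 : allR t1692_rf 197670 6 (1725 * 2 ^ 6) = true := by decide +kernel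
theorem t1692_rchk_1726 : allR t1692_rf 197670 6 (1726 * 2 ^ 6) = true := by decide +kernel
theorem t1692_rchk_1727 : allR t1692_rf 197670 6 (1727 * 2 ^ 6) = true := by decide +kernel
theorem t1692_rchk_1728 : allR t1692_rf 197670 6 (1728 * 2 ^ 6) = true := by decide +kernel
theorem t1692_rchk_1729 : allR t1692_rf 197670 6 (1729 * 2 ^ 6) = true := by decide +kernel
theorem t1692_rchk_1730 : allR t1692_rf 197670 6 (1730 * 2 ^ 6) = true := by decide +kernel
theorem t1692_rchk_1731 : allR t1692_rf 197670 6 (1731 * 2 ^ 6) = true := by decide +kernel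
theorem t1692_rchk_1732 : allR t1692_rf 197670 6 (1732 * 2 ^ 6) = true := by decide +kernel
theorem t1692_rchk_1733 : allR t1692_rf 197670 6 (1733 * 2 ^ 6) = true := by decide +kernel
theorem t1692_rchk_1734 : allR t1692_rf 197670 6 (1734 * 2 ^ 6) = true := by decide +kernel
theorem t1692_rchk_1735 : allR t1692_rf 197670 6 (1735 * 2 ^ 6) = true := by decide +kernel
theorem t1692_rchk_1736 : allR t1692_rf 197670 6 (1736 * 2 ^ 6) = true := by decide +kernel
theorem t1692_rchk_1737 : allR t1692_rf 197670 6 (1737 * 2 ^ 6) = true := by decide +kernel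
theorem t1692_rchk_1738 : allR t1692_rf 197670 6 (1738 * 2 ^ 6) = true := by decide +kernel
theorem t1692_rchk_1739 : allR t1692_rf 197670 6 (1739 * 2 ^ 6) = true := by decide +kernel
theorem t1692_rchk_1740 : allR t1692_rf 197670 6 (1740 * 2 ^ 6) = true := by decide +kernel
theorem t1692_rchk_1741 : allR t1692_rf 197670 6 (1741 * 2 ^ 6) = true := by decide +kernel
theorem t1692_rchk_1742 : allR t1692_rf 197670 6 (1742 * 2 ^ 6) = true := by decide +kernel
theorem t1692_rchk_1743 : allR t1692_rf 197670 6 (1743 * 2 ^ 6) = true := by decide +kernel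
theorem t1692_rchk_1744 : allR t1692_rf 197670 6 (1744 * 2 ^ 6) = true := by decide +kernel
theorem t1692_rchk_1745 : allR t1692_rf 197670 6 (1745 * 2 ^ 6) = true := by decide +kernel
theorem t1692_rchk_1746 : allR t1692_rf 197670 6 (1746 * 2 ^ 6) = true := by decide +kernel
theorem t1692_rchk_1747 : allR t1692_rf 197670 6 (1747 * 2 ^ 6) = true := by decide +kernel
theorem t1692_rchk_1748 : allR t1692_rf 197670 6 (1748 * 2 ^ 6) = true := by decide +kernel
theorem t1692_rchk_1749 : allR t1692_rf 197670 6 (1749 * 2 ^ 6) = true := by decide +kernel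
theorem t1692_rchk_1750 : allR t1692_rf 197670 6 (1750 * 2 ^ 6) = true := by decide +kernel
theorem t1692_rchk_1751 : allR t1692_rf 197670 6 (1751 * 2 ^ 6) = true := by decide +kernel
theorem t1692_rchk_1752 : allR t1692_rf 197670 6 (1752 * 2 ^ 6) = true := by decide +kernel
theorem t1692_rchk_1753 : allR t1692_rf 197670 6 (1753 * 2 ^ 6) = true := by decide +kernel
theorem t1692_rchk_1754 : allR t1692_rf 197670 6 (1754 * 2 ^ 6) = true := by decide +kernel
theorem t1692_rchk_1755 : allR t1692_rf 197670 6 (1755 * 2 ^ 6) = true := by decide +kernel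
theorem t1692_rchk_1756 : allR t1692_rf 197670 6 (1756 * 2 ^ 6) = true := by decide +kernel
theorem t1692_rchk_1757 : allR t1692_rf 197670 6 (1757 * 2 ^ 6) = true := by decide +kernel
theorem t1692_rchk_1758 : allR t1692_rf 197670 6 (1758 * 2 ^ 6) = true := by decide +kernel
theorem t1692_rchk_1759 : allR t1692_rf 197670 6 (1759 * 2 ^ 6) = true := by decide +kernel

theorem t1692_rfile_21 : ∀ k, k < 1760 → 1680 ≤ k → allR t1692_rf 197670 6 (k * 2 ^ 6) = true := by
  intro k h1 h2
  interval_cases k
  · exact t1692_rchk_1680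
  · exact t1692_rchk_1681
  · exact t1692_rchk_1682
  · exact t1692_rchk_1683
  · exact t1692_rchk_1684
  · exact t1692_rchk_1685
  · exact t1692_rchk_1686
  · exact t1692_rchk_1687
  · exact t1692_rchk_1688
  · exact t1692_rchk_1689
  · exact t1692_rchk_1690
  · exact t1692_rchk_1691
  · exact t1692_rchk_1692
  · exact t1692_rchk_1693
  · exact t1692_rchk_1694
  · exact t1692_rchk_1695
  · exact t1692_rchk_1696
  · exact t1692_rchk_1697
  · exact t1692_rchk_1698
  · exact t1692_rchk_1699
  · exact t1692_rchk_1700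
  · exact t1692_rchk_1701
  · exact t1692_rchk_1702
  · exact t1692_rchk_1703
  · exact t1692_rchk_1704
  · exact t1692_rchk_1705
  · exact t1692_rchk_1706
  · exact t1692_rchk_1707
  · exact t1692_rchk_1708
  · exact t1692_rchk_1709
  · exact t1692_rchk_1710
  · exact t1692_rchk_1711
  · exact t1692_rchk_1712
  · exact t1692_rchk_1713
  · exact t1692_rchk_1714
  · exact t1692_rchk_1715
  · exact t1692_rchk_1716
  · exact t1692_rchk_1717
  · exact t1692_rchk_1718
  · exact t1692_rchk_1719
  · exact t1692_rchk_1720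
  · exact t1692_rchk_1721
  · exact t1692_rchk_1722
  · exact t1692_rchk_1723
  · exact t1692_rchk_1724
  · exact t1692_rchk_1725
  · exact t1692_rchk_1726
  · exact t1692_rchk_1727
  · exact t1692_rchk_1728
  · exact t1692_rchk_1729
  · exact t1692_rchk_1730
  · exact t1692_rchk_1731
  · exact t1692_rchk_1732
  · exact t1692_rchk_1733
  · exact t1692_rchk_1734
  · exact t1692_rchk_1735
  · exact t1692_rchk_1736
  · exact t1692_rchk_1737
  · exact t1692_rchk_1738
  · exact t1692_rchk_1739
  · exact t1692_rchk_1740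
  · exact t1692_rchk_1741
  · exact t1692_rchk_1742
  · exact t1692_rchk_1743
  · exact t1692_rchk_1744
  · exact t1692_rchk_1745
  · exact t1692_rchk_1746
  · exact t1692_rchk_1747
  · exact t1692_rchk_1748
  · exact t1692_rchk_1749
  · exact t1692_rchk_1750
  · exact t1692_rchk_1751
  · exact t1692_rchk_1752
  · exact t1692_rchk_1753
  · exact t1692_rchk_1754
  · exact t1692_rchk_1755
  · exact t1692_rchk_1756
  · exact t1692_rchk_1757
  · exact t1692_rchk_1758
  · exact t1692_rchk_1759

end Cfsg.Agent.H35
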