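import Cfsg.Agent.H35.T1692.RTab

set_option autoImplicit false
set_option linter.all false
set_option Elab.async false

namespace Cfsg.Agent.H35

theorem t1692_rchk_1840 : allR t1692_rf 197670 6 (1840 * 2 ^ 6) = true := by decide +kernel
theorem t1692_rchk_1841 : allR t1692_rf 197670 6 (1841 * 2 ^ 6) = true := by decide +kernel
theorem t1692_rchk_1842 : allR t1692_rf 197670 6 (1842 * 2 ^ 6) = true := by decide +kernel
theorem t1692_rchk_1843 : allR t1692_rf 197670 6 (1843 * 2 ^ 6) = true := by decide +kernel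
theorem t1692_rchk_1844 : allR t1692_rf 197670 6 (1844 * 2 ^ 6) = true := by decide +kernel
theorem t1692_rchk_1845 : allR t1692_rf 197670 6 (1845 * 2 ^ 6) = true := by decide +kernel
theorem t1692_rchk_1846 : allR t1692_rf 197670 6 (1846 * 2 ^ 6) = true := by decide +kernel
theorem t1692_rchk_1847 : allR t1692_rf 197670 6 (1847 * 2 ^ 6) = true := by decide +kernel
theorem t1692_rchk_1848 : allR t1692_rf 197670 6 (1848 * 2 ^ 6) = true := by decide +kernel
theorem t1692_rchk_1849 : allR t1692_rf 197670 6 (1849 * 2 ^ 6) = true := by decide +kernel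
theorem t1692_rchk_1850 : allR t1692_rf 197670 6 (1850 * 2 ^ 6) = true := by decide +kernel
theorem t1692_rchk_1851 : allR t1692_rf 197670 6 (1851 * 2 ^ 6) = true := by decide +kernel
theorem t1692_rchk_1852 : allR t1692_rf 197670 6 (1852 * 2 ^ 6) = true := by decide +kernel
theorem t1692_rchk_1853 : allR t1692_rf 197670 6 (1853 * 2 ^ 6) = true := by decide +kernel
theorem t1692_rchk_1854 : allR t1692_rf 197670 6 (1854 * 2 ^ 6) = true := by decide +kernel
theorem t1692_rchk_1855 : allR t1692_rf 197670 6 (1855 * 2 ^ 6) = true := by decide +kernel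
theorem t1692_rchk_1856 : allR t1692_rf 197670 6 (1856 * 2 ^ 6) = true := by decide +kernel
theorem t1692_rchk_1857 : allR t1692_rf 197670 6 (1857 * 2 ^ 6) = true := by decide +kernel
theorem t1692_rchk_1858 : allR t1692_rf 197670 6 (1858 * 2 ^ 6) = true := by decide +kernel
theorem t1692_rchk_1859 : allR t1692_rf 197670 6 (1859 * 2 ^ 6) = true := by decide +kernel
theorem t1692_rchk_1860 : allR t1692_rf 197670 6 (1860 * 2 ^ 6) = true := by decide +kernel
theorem t1692_rchk_1861 : allR t1692_rf 197670 6 (1861 * 2 ^ 6) = true := by decide +kernel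
theorem t1692_rchk_1862 : allR t1692_rf 197670 6 (1862 * 2 ^ 6) = true := by decide +kernel
theorem t1692_rchk_1863 : allR t1692_rf 197670 6 (1863 * 2 ^ 6) = true := by decide +kernel
theorem t1692_rchk_1864 : allR t1692_rf 197670 6 (1864 * 2 ^ 6) = true := by decide +kernel
theorem t1692_rchk_1865 : allR t1692_rf 197670 6 (1865 * 2 ^ 6) = true := by decide +kernel
theorem t1692_rchk_1866 : allR t1692_rf 197670 6 (1866 * 2 ^ 6) = true := by decide +kernel
theorem t1692_rchk_1867 : allR t1692_rf 197670 6 (1867 * 2 ^ 6) = true := by decide +kernel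
theorem t1692_rchk_1868 : allR t1692_rf 197670 6 (1868 * 2 ^ 6) = true := by decide +kernel
theorem t1692_rchk_1869 : allR t1692_rf 197670 6 (1869 * 2 ^ 6) = true := by decide +kernel
theorem t1692_rchk_1870 : allR t1692_rf 197670 6 (1870 * 2 ^ 6) = true := by decide +kernel
theorem t1692_rchk_1871 : allR t1692_rf 197670 6 (1871 * 2 ^ 6) = true := by decide +kernel
theorem t1692_rchk_1872 : allR t1692_rf 197670 6 (1872 * 2 ^ 6) = true := by decide +kernel
theorem t1692_rchk_1873 : allR t1692_rf 197670 6 (1873 * 2 ^ 6) = true := by decide +kernel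
theorem t1692_rchk_1874 : allR t1692_rf 197670 6 (1874 * 2 ^ 6) = true := by decide +kernel
theorem t1692_rchk_1875 : allR t1692_rf 197670 6 (1875 * 2 ^ 6) = true := by decide +kernel
theorem t1692_rchk_1876 : allR t1692_rf 197670 6 (1876 * 2 ^ 6) = true := by decide +kernel
theorem t1692_rchk_1877 : allR t1692_rf 197670 6 (1877 * 2 ^ 6) = true := by decide +kernel
theorem t1692_rchk_1878 : allR t1692_rf 197670 6 (1878 * 2 ^ 6) = true := by decide +kernel
theorem t1692_rchk_1879 : allR t1692_rf 197670 6 (1879 * 2 ^ 6) = true := by decide +kernel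
theorem t1692_rchk_1880 : allR t1692_rf 197670 6 (1880 * 2 ^ 6) = true := by decide +kernel
theorem t1692_rchk_1881 : allR t1692_rf 197670 6 (1881 * 2 ^ 6) = true := by decide +kernel
theorem t1692_rchk_1882 : allR t1692_rf 197670 6 (1882 * 2 ^ 6) = true := by decide +kernel
theorem t1692_rchk_1883 : allR t1692_rf 197670 6 (1883 * 2 ^ 6) = true := by decide +kernel
theorem t1692_rchk_1884 : allR t1692_rf 197670 6 (1884 * 2 ^ 6) = true := by decide +kernel
theorem t1692_rchk_1885 : allR t1692_rf 197670 6 (1885 * 2 ^ 6) = true := by decide +kernel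
theorem t1692_rchk_1886 : allR t1692_rf 197670 6 (1886 * 2 ^ 6) = true := by decide +kernel
theorem t1692_rchk_1887 : allR t1692_rf 197670 6 (1887 * 2 ^ 6) = true := by decide +kernel
theorem t1692_rchk_1888 : allR t1692_rf 197670 6 (1888 * 2 ^ 6) = true := by decide +kernel
theorem t1692_rchk_1889 : allR t1692_rf 197670 6 (1889 * 2 ^ 6) = true := by decide +kernel
theorem t1692_rchk_1890 : allR t1692_rf 197670 6 (1890 * 2 ^ 6) = true := by decide +kernel
theorem t1692_rchk_1891 : allR t1692_rf 197670 6 (1891 * 2 ^ 6) = true := by decide +kernel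
theorem t1692_rchk_1892 : allR t1692_rf 197670 6 (1892 * 2 ^ 6) = true := by decide +kernel
theorem t1692_rchk_1893 : allR t1692_rf 197670 6 (1893 * 2 ^ 6) = true := by decide +kernel
theorem t1692_rchk_1894 : allR t1692_rf 197670 6 (1894 * 2 ^ 6) = true := by decide +kernel
theorem t1692_rchk_1895 : allR t1692_rf 197670 6 (1895 * 2 ^ 6) = true := by decide +kernel
theorem t1692_rchk_1896 : allR t1692_rf 197670 6 (1896 * 2 ^ 6) = true := by decide +kernel
theorem t1692_rchk_1897 : allR t1692_rf 197670 6 (1897 * 2 ^ 6) = true := by decide +kernel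
theorem t1692_rchk_1898 : allR t1692_rf 197670 6 (1898 * 2 ^ 6) = true := by decide +kernel
theorem t1692_rchk_1899 : allR t1692_rf 197670 6 (1899 * 2 ^ 6) = true := by decide +kernel
theorem t1692_rchk_1900 : allR t1692_rf 197670 6 (1900 * 2 ^ 6) = true := by decide +kernel
theorem t1692_rchk_1901 : allR t1692_rf 197670 6 (1901 * 2 ^ 6) = true := by decide +kernel
theorem t1692_rchk_1902 : allR t1692_rf 197670 6 (1902 * 2 ^ 6) = true := by decide +kernel
theorem t1692_rchk_1903 : allR t1692_rf 197670 6 (1903 * 2 ^ 6) = true := by decide +kernel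
theorem t1692_rchk_1904 : allR t1692_rf 197670 6 (1904 * 2 ^ 6) = true := by decide +kernel
theorem t1692_rchk_1905 : allR t1692_rf 197670 6 (1905 * 2 ^ 6) = true := by decide +kernel
theorem t1692_rchk_1906 : allR t1692_rf 197670 6 (1906 * 2 ^ 6) = true := by decide +kernel
theorem t1692_rchk_1907 : allR t1692_rf 197670 6 (1907 * 2 ^ 6) = true := by decide +kernel
theorem t1692_rchk_1908 : allR t1692_rf 197670 6 (1908 * 2 ^ 6) = true := by decide +kernel
theorem t1692_rchk_1909 : allR t1692_rf 197670 6 (1909 * 2 ^ 6) = true := by decide +kernel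
theorem t1692_rchk_1910 : allR t1692_rf 197670 6 (1910 * 2 ^ 6) = true := by decide +kernel
theorem t1692_rchk_1911 : allR t1692_rf 197670 6 (1911 * 2 ^ 6) = true := by decide +kernel
theorem t1692_rchk_1912 : allR t1692_rf 197670 6 (1912 * 2 ^ 6) = true := by decide +kernel
theorem t1692_rchk_1913 : allR t1692_rf 197670 6 (1913 * 2 ^ 6) = true := by decide +kernel
theorem t1692_rchk_1914 : allR t1692_rf 197670 6 (1914 * 2 ^ 6) = true := by decide +kernel
theorem t1692_rchk_1915 : allR t1692_rf 197670 6 (1915 * 2 ^ 6) = true := by decide +kernel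
theorem t1692_rchk_1916 : allR t1692_rf 197670 6 (1916 * 2 ^ 6) = true := by decide +kernel
theorem t1692_rchk_1917 : allR t1692_rf 197670 6 (1917 * 2 ^ 6) = true := by decide +kernel
theorem t1692_rchk_1918 : allR t1692_rf 197670 6 (1918 * 2 ^ 6) = true := by decide +kernel
theorem t1692_rchk_1919 : allR t1692_rf 197670 6 (1919 * 2 ^ 6) = true := by decide +kernel

theorem t1692_rfile_23 : ∀ k, k < 1920 → 1840 ≤ k → allR t1692_rf 197670 6 (k * 2 ^ 6) = true := by
  intro k h1 h2
  interval_cases k
  · exact t1692_rchk_1840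
  · exact t1692_rchk_1841
  · exact t1692_rchk_1842
  · exact t1692_rchk_1843
  · exact t1692_rchk_1844
  · exact t1692_rchk_1845
  · exact t1692_rchk_1846
  · exact t1692_rchk_1847
  · exact t1692_rchk_1848
  · exact t1692_rchk_1849
  · exact t1692_rchk_1850
  · exact t1692_rchk_1851
  · exact t1692_rchk_1852
  · exact t1692_rchk_1853
  · exact t1692_rchk_1854
  · exact t1692_rchk_1855
  · exact t1692_rchk_1856
  · exact t1692_rchk_1857
  · exact t1692_rchk_1858
  · exact t1692_rchk_1859
  · exact t1692_rchk_1860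
  · exact t1692_rchk_1861
  · exact t1692_rchk_1862
  · exact t1692_rchk_1863
  · exact t1692_rchk_1864
  · exact t1692_rchk_1865
  · exact t1692_rchk_1866
  · exact t1692_rchk_1867
  · exact t1692_rchk_1868
  · exact t1692_rchk_1869
  · exact t1692_rchk_1870
  · exact t1692_rchk_1871
  · exact t1692_rchk_1872
  · exact t1692_rchk_1873
  · exact t1692_rchk_1874
  · exact t1692_rchk_1875
  · exact t1692_rchk_1876
  · exact t1692_rchk_1877
  · exact t1692_rchk_1878
  · exact t1692_rchk_1879
  · exact t1692_rchk_1880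
  · exact t1692_rchk_1881
  · exact t1692_rchk_1882
  · exact t1692_rchk_1883
  · exact t1692_rchk_1884
  · exact t1692_rchk_1885
  · exact t1692_rchk_1886
  · exact t1692_rchk_1887
  · exact t1692_rchk_1888
  · exact t1692_rchk_1889
  · exact t1692_rchk_1890
  · exact t1692_rchk_1891
  · exact t1692_rchk_1892
  · exact t1692_rchk_1893
  · exact t1692_rchk_1894
  · exact t1692_rchk_1895
  · exact t1692_rchk_1896
  · exact t1692_rchk_1897
  · exact t1692_rchk_1898
  · exact t1692_rchk_1899
  · exact t1692_rchk_1900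
  · exact t1692_rchk_1901
  · exact t1692_rchk_1902
  · exact t1692_rchk_1903
  · exact t1692_rchk_1904
  · exact t1692_rchk_1905
  · exact t1692_rchk_1906
  · exact t1692_rchk_1907
  · exact t1692_rchk_1908
  · exact t1692_rchk_1909
  · exact t1692_rchk_1910
  · exact t1692_rchk_1911
  · exact t1692_rchk_1912
  · exact t1692_rchk_1913
  · exact t1692_rchk_1914
  · exact t1692_rchk_1915
  · exact t1692_rchk_1916
  · exact t1692_rchk_1917
  · exact t1692_rchk_1918
  · exact t1692_rchk_1919

end Cfsg.Agent.H35
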