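import Cfsg.Agent.H35.T1692.RTab

set_option autoImplicit false
set_option linter.all false
set_option Elab.async false

namespace Cfsg.Agent.H35

theorem t1692_rchk_2000 : allR t1692_rf 197670 6 (2000 * 2 ^ 6) = true := by decide +kernel
theorem t1692_rchk_2001 : allR t1692_rf 197670 6 (2001 * 2 ^ 6) = true := by decide +kernel
theorem t1692_rchk_2002 : allR t1692_rf 197670 6 (2002 * 2 ^ 6) = true := by decide +kernel
theorem t1692_rchk_2003 : allR t1692_rf 197670 6 (2003 * 2 ^ 6) = true := by decide +kernel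
theorem t1692_rchk_2004 : allR t1692_rf 197670 6 (2004 * 2 ^ 6) = true := by decide +kernel
theorem t1692_rchk_2005 : allR t1692_rf 197670 6 (2005 * 2 ^ 6) = true := by decide +kernel
theorem t1692_rchk_2006 : allR t1692_rf 197670 6 (2006 * 2 ^ 6) = true := by decide +kernel
theorem t1692_rchk_2007 : allR t1692_rf 197670 6 (2007 * 2 ^ 6) = true := by decide +kernel
theorem t1692_rchk_2008 : allR t1692_rf 197670 6 (2008 * 2 ^ 6) = true := by decide +kernel
theorem t1692_rchk_2009 : allR t1692_rf 197670 6 (2009 * 2 ^ 6) = true := by decide +kernel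
theorem t1692_rchk_2010 : allR t1692_rf 197670 6 (2010 * 2 ^ 6) = true := by decide +kernel
theorem t1692_rchk_2011 : allR t1692_rf 197670 6 (2011 * 2 ^ 6) = true := by decide +kernel
theorem t1692_rchk_2012 : allR t1692_rf 197670 6 (2012 * 2 ^ 6) = true := by decide +kernel
theorem t1692_rchk_2013 : allR t1692_rf 197670 6 (2013 * 2 ^ 6) = true := by decide +kernel
theorem t1692_rchk_2014 : allR t1692_rf 197670 6 (2014 * 2 ^ 6) = true := by decide +kernel
theorem t1692_rchk_2015 : allR t1692_rf 197670 6 (2015 * 2 ^ 6) = true := by decide +kernel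
theorem t1692_rchk_2016 : allR t1692_rf 197670 6 (2016 * 2 ^ 6) = true := by decide +kernel
theorem t1692_rchk_2017 : allR t1692_rf 197670 6 (2017 * 2 ^ 6) = true := by decide +kernel
theorem t1692_rchk_2018 : allR t1692_rf 197670 6 (2018 * 2 ^ 6) = true := by decide +kernel
theorem t1692_rchk_2019 : allR t1692_rf 197670 6 (2019 * 2 ^ 6) = true := by decide +kernel
theorem t1692_rchk_2020 : allR t1692_rf 197670 6 (2020 * 2 ^ 6) = true := by decide +kernel
theorem t1692_rchk_2021 : allR t1692_rf 197670 6 (2021 * 2 ^ 6) = true := by decide +kernel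
theorem t1692_rchk_2022 : allR t1692_rf 197670 6 (2022 * 2 ^ 6) = true := by decide +kernel
theorem t1692_rchk_2023 : allR t1692_rf 197670 6 (2023 * 2 ^ 6) = true := by decide +kernel
theorem t1692_rchk_2024 : allR t1692_rf 197670 6 (2024 * 2 ^ 6) = true := by decide +kernel
theorem t1692_rchk_2025 : allR t1692_rf 197670 6 (2025 * 2 ^ 6) = true := by decide +kernel
theorem t1692_rchk_2026 : allR t1692_rf 197670 6 (2026 * 2 ^ 6) = true := by decide +kernel
theorem t1692_rchk_2027 : allR t1692_rf 197670 6 (2027 * 2 ^ 6) = true := by decide +kernel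
theorem t1692_rchk_2028 : allR t1692_rf 197670 6 (2028 * 2 ^ 6) = true := by decide +kernel
theorem t1692_rchk_2029 : allR t1692_rf 197670 6 (2029 * 2 ^ 6) = true := by decide +kernel
theorem t1692_rchk_2030 : allR t1692_rf 197670 6 (2030 * 2 ^ 6) = true := by decide +kernel
theorem t1692_rchk_2031 : allR t1692_rf 197670 6 (2031 * 2 ^ 6) = true := by decide +kernel
theorem t1692_rchk_2032 : allR t1692_rf 197670 6 (2032 * 2 ^ 6) = true := by decide +kernel
theorem t1692_rchk_2033 : allR t1692_rf 197670 6 (2033 * 2 ^ 6) = true := by decide +kernel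
theorem t1692_rchk_2034 : allR t1692_rf 197670 6 (2034 * 2 ^ 6) = true := by decide +kernel
theorem t1692_rchk_2035 : allR t1692_rf 197670 6 (2035 * 2 ^ 6) = true := by decide +kernel
theorem t1692_rchk_2036 : allR t1692_rf 197670 6 (2036 * 2 ^ 6) = true := by decide +kernel
theorem t1692_rchk_2037 : allR t1692_rf 197670 6 (2037 * 2 ^ 6) = true := by decide +kernel
theorem t1692_rchk_2038 : allR t1692_rf 197670 6 (2038 * 2 ^ 6) = true := by decide +kernel
theorem t1692_rchk_2039 : allR t1692_rf 197670 6 (2039 * 2 ^ 6) = true := by decide +kernel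
theorem t1692_rchk_2040 : allR t1692_rf 197670 6 (2040 * 2 ^ 6) = true := by decide +kernel
theorem t1692_rchk_2041 : allR t1692_rf 197670 6 (2041 * 2 ^ 6) = true := by decide +kernel
theorem t1692_rchk_2042 : allR t1692_rf 197670 6 (2042 * 2 ^ 6) = true := by decide +kernel
theorem t1692_rchk_2043 : allR t1692_rf 197670 6 (2043 * 2 ^ 6) = true := by decide +kernel
theorem t1692_rchk_2044 : allR t1692_rf 197670 6 (2044 * 2 ^ 6) = true := by decide +kernel
theorem t1692_rchk_2045 : allR t1692_rf 197670 6 (2045 * 2 ^ 6) = true := by decide +kernel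
theorem t1692_rchk_2046 : allR t1692_rf 197670 6 (2046 * 2 ^ 6) = true := by decide +kernel
theorem t1692_rchk_2047 : allR t1692_rf 197670 6 (2047 * 2 ^ 6) = true := by decide +kernel
theorem t1692_rchk_2048 : allR t1692_rf 197670 6 (2048 * 2 ^ 6) = true := by decide +kernel
theorem t1692_rchk_2049 : allR t1692_rf 197670 6 (2049 * 2 ^ 6) = true := by decide +kernel
theorem t1692_rchk_2050 : allR t1692_rf 197670 6 (2050 * 2 ^ 6) = true := by decide +kernel
theorem t1692_rchk_2051 : allR t1692_rf 197670 6 (2051 * 2 ^ 6) = true := by decide +kernel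
theorem t1692_rchk_2052 : allR t1692_rf 197670 6 (2052 * 2 ^ 6) = true := by decide +kernel
theorem t1692_rchk_2053 : allR t1692_rf 197670 6 (2053 * 2 ^ 6) = true := by decide +kernel
theorem t1692_rchk_2054 : allR t1692_rf 197670 6 (2054 * 2 ^ 6) = true := by decide +kernel
theorem t1692_rchk_2055 : allR t1692_rf 197670 6 (2055 * 2 ^ 6) = true := by decide +kernel
theorem t1692_rchk_2056 : allR t1692_rf 197670 6 (2056 * 2 ^ 6) = true := by decide +kernel
theorem t1692_rchk_2057 : allR t1692_rf 197670 6 (2057 * 2 ^ 6) = true := by decide +kernel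
theorem t1692_rchk_2058 : allR t1692_rf 197670 6 (2058 * 2 ^ 6) = true := by decide +kernel
theorem t1692_rchk_2059 : allR t1692_rf 197670 6 (2059 * 2 ^ 6) = true := by decide +kernel
theorem t1692_rchk_2060 : allR t1692_rf 197670 6 (2060 * 2 ^ 6) = true := by decide +kernel
theorem t1692_rchk_2061 : allR t1692_rf 197670 6 (2061 * 2 ^ 6) = true := by decide +kernel
theorem t1692_rchk_2062 : allR t1692_rf 197670 6 (2062 * 2 ^ 6) = true := by decide +kernel
theorem t1692_rchk_2063 : allR t1692_rf 197670 6 (2063 * 2 ^ 6) = true := by decide +kernel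
theorem t1692_rchk_2064 : allR t1692_rf 197670 6 (2064 * 2 ^ 6) = true := by decide +kernel
theorem t1692_rchk_2065 : allR t1692_rf 197670 6 (2065 * 2 ^ 6) = true := by decide +kernel
theorem t1692_rchk_2066 : allR t1692_rf 197670 6 (2066 * 2 ^ 6) = true := by decide +kernel
theorem t1692_rchk_2067 : allR t1692_rf 197670 6 (2067 * 2 ^ 6) = true := by decide +kernel
theorem t1692_rchk_2068 : allR t1692_rf 197670 6 (2068 * 2 ^ 6) = true := by decide +kernel
theorem t1692_rchk_2069 : allR t1692_rf 197670 6 (2069 * 2 ^ 6) = true := by decide +kernel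
theorem t1692_rchk_2070 : allR t1692_rf 197670 6 (2070 * 2 ^ 6) = true := by decide +kernel
theorem t1692_rchk_2071 : allR t1692_rf 197670 6 (2071 * 2 ^ 6) = true := by decide +kernel
theorem t1692_rchk_2072 : allR t1692_rf 197670 6 (2072 * 2 ^ 6) = true := by decide +kernel
theorem t1692_rchk_2073 : allR t1692_rf 197670 6 (2073 * 2 ^ 6) = true := by decide +kernel
theorem t1692_rchk_2074 : allR t1692_rf 197670 6 (2074 * 2 ^ 6) = true := by decide +kernel
theorem t1692_rchk_2075 : allR t1692_rf 197670 6 (2075 * 2 ^ 6) = true := by decide +kernel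
theorem t1692_rchk_2076 : allR t1692_rf 197670 6 (2076 * 2 ^ 6) = true := by decide +kernel
theorem t1692_rchk_2077 : allR t1692_rf 197670 6 (2077 * 2 ^ 6) = true := by decide +kernel
theorem t1692_rchk_2078 : allR t1692_rf 197670 6 (2078 * 2 ^ 6) = true := by decide +kernel
theorem t1692_rchk_2079 : allR t1692_rf 197670 6 (2079 * 2 ^ 6) = true := by decide +kernel

theorem t1692_rfile_25 : ∀ k, k < 2080 → 2000 ≤ k → allR t1692_rf 197670 6 (k * 2 ^ 6) = true := by
  intro k h1 h2
  interval_cases k
  · exact t1692_rchk_2000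
  · exact t1692_rchk_2001
  · exact t1692_rchk_2002
  · exact t1692_rchk_2003
  · exact t1692_rchk_2004
  · exact t1692_rchk_2005
  · exact t1692_rchk_2006
  · exact t1692_rchk_2007
  · exact t1692_rchk_2008
  · exact t1692_rchk_2009
  · exact t1692_rchk_2010
  · exact t1692_rchk_2011
  · exact t1692_rchk_2012
  · exact t1692_rchk_2013
  · exact t1692_rchk_2014
  · exact t1692_rchk_2015
  · exact t1692_rchk_2016
  · exact t1692_rchk_2017
  · exact t1692_rchk_2018
  · exact t1692_rchk_2019
  · exact t1692_rchk_2020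
  · exact t1692_rchk_2021
  · exact t1692_rchk_2022
  · exact t1692_rchk_2023
  · exact t1692_rchk_2024
  · exact t1692_rchk_2025
  · exact t1692_rchk_2026
  · exact t1692_rchk_2027
  · exact t1692_rchk_2028
  · exact t1692_rchk_2029
  · exact t1692_rchk_2030
  · exact t1692_rchk_2031
  · exact t1692_rchk_2032
  · exact t1692_rchk_2033
  · exact t1692_rchk_2034
  · exact t1692_rchk_2035
  · exact t1692_rchk_2036
  · exact t1692_rchk_2037
  · exact t1692_rchk_2038
  · exact t1692_rchk_2039
  · exact t1692_rchk_2040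
  · exact t1692_rchk_2041
  · exact t1692_rchk_2042
  · exact t1692_rchk_2043
  · exact t1692_rchk_2044
  · exact t1692_rchk_2045
  · exact t1692_rchk_2046
  · exact t1692_rchk_2047
  · exact t1692_rchk_2048
  · exact t1692_rchk_2049
  · exact t1692_rchk_2050
  · exact t1692_rchk_2051
  · exact t1692_rchk_2052
  · exact t1692_rchk_2053
  · exact t1692_rchk_2054
  · exact t1692_rchk_2055
  · exact t1692_rchk_2056
  · exact t1692_rchk_2057
  · exact t1692_rchk_2058
  · exact t1692_rchk_2059
  · exact t1692_rchk_2060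
  · exact t1692_rchk_2061
  · exact t1692_rchk_2062
  · exact t1692_rchk_2063
  · exact t1692_rchk_2064
  · exact t1692_rchk_2065
  · exact t1692_rchk_2066
  · exact t1692_rchk_2067
  · exact t1692_rchk_2068
  · exact t1692_rchk_2069
  · exact t1692_rchk_2070
  · exact t1692_rchk_2071
  · exact t1692_rchk_2072
  · exact t1692_rchk_2073
  · exact t1692_rchk_2074
  · exact t1692_rchk_2075
  · exact t1692_rchk_2076
  · exact t1692_rchk_2077
  · exact t1692_rchk_2078
  · exact t1692_rchk_2079

end Cfsg.Agent.H35
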