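import Cfsg.Agent.H35.T1692.RTab

set_option autoImplicit false
set_option linter.all false
set_option Elab.async false

namespace Cfsg.Agent.H35

theorem t1692_rchk_2080 : allR t1692_rf 197670 6 (2080 * 2 ^ 6) = true := by decide +kernel
theorem t1692_rchk_2081 : allR t1692_rf 197670 6 (2081 * 2 ^ 6) = true := by decide +kernel
theorem t1692_rchk_2082 : allR t1692_rf 197670 6 (2082 * 2 ^ 6) = true := by decide +kernel
theorem t1692_rchk_2083 : allR t1692_rf 197670 6 (2083 * 2 ^ 6) = true := by decide +kernel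
theorem t1692_rchk_2084 : allR t1692_rf 197670 6 (2084 * 2 ^ 6) = true := by decide +kernel
theorem t1692_rchk_2085 : allR t1692_rf 197670 6 (2085 * 2 ^ 6) = true := by decide +kernel
theorem t1692_rchk_2086 : allR t1692_rf 197670 6 (2086 * 2 ^ 6) = true := by decide +kernel
theorem t1692_rchk_2087 : allR t1692_rf 197670 6 (2087 * 2 ^ 6) = true := by decide +kernel
theorem t1692_rchk_2088 : allR t1692_rf 197670 6 (2088 * 2 ^ 6) = true := by decide +kernel
theorem t1692_rchk_2089 : allR t1692_rf 197670 6 (2089 * 2 ^ 6) = true := by decide +kernel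
theorem t1692_rchk_2090 : allR t1692_rf 197670 6 (2090 * 2 ^ 6) = true := by decide +kernel
theorem t1692_rchk_2091 : allR t1692_rf 197670 6 (2091 * 2 ^ 6) = true := by decide +kernel
theorem t1692_rchk_2092 : allR t1692_rf 197670 6 (2092 * 2 ^ 6) = true := by decide +kernel
theorem t1692_rchk_2093 : allR t1692_rf 197670 6 (2093 * 2 ^ 6) = true := by decide +kernel
theorem t1692_rchk_2094 : allR t1692_rf 197670 6 (2094 * 2 ^ 6) = true := by decide +kernel
theorem t1692_rchk_2095 : allR t1692_rf 197670 6 (2095 * 2 ^ 6) = true := by decide +kernel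
theorem t1692_rchk_2096 : allR t1692_rf 197670 6 (2096 * 2 ^ 6) = true := by decide +kernel
theorem t1692_rchk_2097 : allR t1692_rf 197670 6 (2097 * 2 ^ 6) = true := by decide +kernel
theorem t1692_rchk_2098 : allR t1692_rf 197670 6 (2098 * 2 ^ 6) = true := by decide +kernel
theorem t1692_rchk_2099 : allR t1692_rf 197670 6 (2099 * 2 ^ 6) = true := by decide +kernel
theorem t1692_rchk_2100 : allR t1692_rf 197670 6 (2100 * 2 ^ 6) = true := by decide +kernel
theorem t1692_rchk_2101 : allR t1692_rf 197670 6 (2101 * 2 ^ 6) = true := by decide +kernel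
theorem t1692_rchk_2102 : allR t1692_rf 197670 6 (2102 * 2 ^ 6) = true := by decide +kernel
theorem t1692_rchk_2103 : allR t1692_rf 197670 6 (2103 * 2 ^ 6) = true := by decide +kernel
theorem t1692_rchk_2104 : allR t1692_rf 197670 6 (2104 * 2 ^ 6) = true := by decide +kernel
theorem t1692_rchk_2105 : allR t1692_rf 197670 6 (2105 * 2 ^ 6) = true := by decide +kernel
theorem t1692_rchk_2106 : allR t1692_rf 197670 6 (2106 * 2 ^ 6) = true := by decide +kernel
theorem t1692_rchk_2107 : allR t1692_rf 197670 6 (2107 * 2 ^ 6) = true := by decide +kernel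
theorem t1692_rchk_2108 : allR t1692_rf 197670 6 (2108 * 2 ^ 6) = true := by decide +kernel
theorem t1692_rchk_2109 : allR t1692_rf 197670 6 (2109 * 2 ^ 6) = true := by decide +kernel
theorem t1692_rchk_2110 : allR t1692_rf 197670 6 (2110 * 2 ^ 6) = true := by decide +kernel
theorem t1692_rchk_2111 : allR t1692_rf 197670 6 (2111 * 2 ^ 6) = true := by decide +kernel
theorem t1692_rchk_2112 : allR t1692_rf 197670 6 (2112 * 2 ^ 6) = true := by decide +kernel
theorem t1692_rchk_2113 : allR t1692_rf 197670 6 (2113 * 2 ^ 6) = true := by decide +kernel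
theorem t1692_rchk_2114 : allR t1692_rf 197670 6 (2114 * 2 ^ 6) = true := by decide +kernel
theorem t1692_rchk_2115 : allR t1692_rf 197670 6 (2115 * 2 ^ 6) = true := by decide +kernel
theorem t1692_rchk_2116 : allR t1692_rf 197670 6 (2116 * 2 ^ 6) = true := by decide +kernel
theorem t1692_rchk_2117 : allR t1692_rf 197670 6 (2117 * 2 ^ 6) = true := by decide +kernel
theorem t1692_rchk_2118 : allR t1692_rf 197670 6 (2118 * 2 ^ 6) = true := by decide +kernel
theorem t1692_rchk_2119 : allR t1692_rf 197670 6 (2119 * 2 ^ 6) = true := by decide +kernel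
theorem t1692_rchk_2120 : allR t1692_rf 197670 6 (2120 * 2 ^ 6) = true := by decide +kernel
theorem t1692_rchk_2121 : allR t1692_rf 197670 6 (2121 * 2 ^ 6) = true := by decide +kernel
theorem t1692_rchk_2122 : allR t1692_rf 197670 6 (2122 * 2 ^ 6) = true := by decide +kernel
theorem t1692_rchk_2123 : allR t1692_rf 197670 6 (2123 * 2 ^ 6) = true := by decide +kernel
theorem t1692_rchk_2124 : allR t1692_rf 197670 6 (2124 * 2 ^ 6) = true := by decide +kernel
theorem t1692_rchk_2125 : allR t1692_rf 197670 6 (2125 * 2 ^ 6) = true := by decide +kernel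
theorem t1692_rchk_2126 : allR t1692_rf 197670 6 (2126 * 2 ^ 6) = true := by decide +kernel
theorem t1692_rchk_2127 : allR t1692_rf 197670 6 (2127 * 2 ^ 6) = true := by decide +kernel
theorem t1692_rchk_2128 : allR t1692_rf 197670 6 (2128 * 2 ^ 6) = true := by decide +kernel
theorem t1692_rchk_2129 : allR t1692_rf 197670 6 (2129 * 2 ^ 6) = true := by decide +kernel
theorem t1692_rchk_2130 : allR t1692_rf 197670 6 (2130 * 2 ^ 6) = true := by decide +kernel
theorem t1692_rchk_2131 : allR t1692_rf 197670 6 (2131 * 2 ^ 6) = true := by decide +kernel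
theorem t1692_rchk_2132 : allR t1692_rf 197670 6 (2132 * 2 ^ 6) = true := by decide +kernel
theorem t1692_rchk_2133 : allR t1692_rf 197670 6 (2133 * 2 ^ 6) = true := by decide +kernel
theorem t1692_rchk_2134 : allR t1692_rf 197670 6 (2134 * 2 ^ 6) = true := by decide +kernel
theorem t1692_rchk_2135 : allR t1692_rf 197670 6 (2135 * 2 ^ 6) = true := by decide +kernel
theorem t1692_rchk_2136 : allR t1692_rf 197670 6 (2136 * 2 ^ 6) = true := by decide +kernel
theorem t1692_rchk_2137 : allR t1692_rf 197670 6 (2137 * 2 ^ 6) = true := by decide +kernel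
theorem t1692_rchk_2138 : allR t1692_rf 197670 6 (2138 * 2 ^ 6) = true := by decide +kernel
theorem t1692_rchk_2139 : allR t1692_rf 197670 6 (2139 * 2 ^ 6) = true := by decide +kernel
theorem t1692_rchk_2140 : allR t1692_rf 197670 6 (2140 * 2 ^ 6) = true := by decide +kernel
theorem t1692_rchk_2141 : allR t1692_rf 197670 6 (2141 * 2 ^ 6) = true := by decide +kernel
theorem t1692_rchk_2142 : allR t1692_rf 197670 6 (2142 * 2 ^ 6) = true := by decide +kernel
theorem t1692_rchk_2143 : allR t1692_rf 197670 6 (2143 * 2 ^ 6) = true := by decide +kernel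
theorem t1692_rchk_2144 : allR t1692_rf 197670 6 (2144 * 2 ^ 6) = true := by decide +kernel
theorem t1692_rchk_2145 : allR t1692_rf 197670 6 (2145 * 2 ^ 6) = true := by decide +kernel
theorem t1692_rchk_2146 : allR t1692_rf 197670 6 (2146 * 2 ^ 6) = true := by decide +kernel
theorem t1692_rchk_2147 : allR t1692_rf 197670 6 (2147 * 2 ^ 6) = true := by decide +kernel
theorem t1692_rchk_2148 : allR t1692_rf 197670 6 (2148 * 2 ^ 6) = true := by decide +kernel
theorem t1692_rchk_2149 : allR t1692_rf 197670 6 (2149 * 2 ^ 6) = true := by decide +kernel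
theorem t1692_rchk_2150 : allR t1692_rf 197670 6 (2150 * 2 ^ 6) = true := by decide +kernel
theorem t1692_rchk_2151 : allR t1692_rf 197670 6 (2151 * 2 ^ 6) = true := by decide +kernel
theorem t1692_rchk_2152 : allR t1692_rf 197670 6 (2152 * 2 ^ 6) = true := by decide +kernel
theorem t1692_rchk_2153 : allR t1692_rf 197670 6 (2153 * 2 ^ 6) = true := by decide +kernel
theorem t1692_rchk_2154 : allR t1692_rf 197670 6 (2154 * 2 ^ 6) = true := by decide +kernel
theorem t1692_rchk_2155 : allR t1692_rf 197670 6 (2155 * 2 ^ 6) = true := by decide +kernel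
theorem t1692_rchk_2156 : allR t1692_rf 197670 6 (2156 * 2 ^ 6) = true := by decide +kernel
theorem t1692_rchk_2157 : allR t1692_rf 197670 6 (2157 * 2 ^ 6) = true := by decide +kernel
theorem t1692_rchk_2158 : allR t1692_rf 197670 6 (2158 * 2 ^ 6) = true := by decide +kernel
theorem t1692_rchk_2159 : allR t1692_rf 197670 6 (2159 * 2 ^ 6) = true := by decide +kernel

theorem t1692_rfile_26 : ∀ k, k < 2160 → 2080 ≤ k → allR t1692_rf 197670 6 (k * 2 ^ 6) = true := by
  intro k h1 h2
  interval_cases k
  · exact t1692_rchk_2080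
  · exact t1692_rchk_2081
  · exact t1692_rchk_2082
  · exact t1692_rchk_2083
  · exact t1692_rchk_2084
  · exact t1692_rchk_2085
  · exact t1692_rchk_2086
  · exact t1692_rchk_2087
  · exact t1692_rchk_2088
  · exact t1692_rchk_2089
  · exact t1692_rchk_2090
  · exact t1692_rchk_2091
  · exact t1692_rchk_2092
  · exact t1692_rchk_2093
  · exact t1692_rchk_2094
  · exact t1692_rchk_2095
  · exact t1692_rchk_2096
  · exact t1692_rchk_2097
  · exact t1692_rchk_2098
  · exact t1692_rchk_2099
  · exact t1692_rchk_2100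
  · exact t1692_rchk_2101
  · exact t1692_rchk_2102
  · exact t1692_rchk_2103
  · exact t1692_rchk_2104
  · exact t1692_rchk_2105
  · exact t1692_rchk_2106
  · exact t1692_rchk_2107
  · exact t1692_rchk_2108
  · exact t1692_rchk_2109
  · exact t1692_rchk_2110
  · exact t1692_rchk_2111
  · exact t1692_rchk_2112
  · exact t1692_rchk_2113
  · exact t1692_rchk_2114
  · exact t1692_rchk_2115
  · exact t1692_rchk_2116
  · exact t1692_rchk_2117
  · exact t1692_rchk_2118
  · exact t1692_rchk_2119
  · exact t1692_rchk_2120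
  · exact t1692_rchk_2121
  · exact t1692_rchk_2122
  · exact t1692_rchk_2123
  · exact t1692_rchk_2124
  · exact t1692_rchk_2125
  · exact t1692_rchk_2126
  · exact t1692_rchk_2127
  · exact t1692_rchk_2128
  · exact t1692_rchk_2129
  · exact t1692_rchk_2130
  · exact t1692_rchk_2131
  · exact t1692_rchk_2132
  · exact t1692_rchk_2133
  · exact t1692_rchk_2134
  · exact t1692_rchk_2135
  · exact t1692_rchk_2136
  · exact t1692_rchk_2137
  · exact t1692_rchk_2138
  · exact t1692_rchk_2139
  · exact t1692_rchk_2140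
  · exact t1692_rchk_2141
  · exact t1692_rchk_2142
  · exact t1692_rchk_2143
  · exact t1692_rchk_2144
  · exact t1692_rchk_2145
  · exact t1692_rchk_2146
  · exact t1692_rchk_2147
  · exact t1692_rchk_2148
  · exact t1692_rchk_2149
  · exact t1692_rchk_2150
  · exact t1692_rchk_2151
  · exact t1692_rchk_2152
  · exact t1692_rchk_2153
  · exact t1692_rchk_2154
  · exact t1692_rchk_2155
  · exact t1692_rchk_2156
  · exact t1692_rchk_2157
  · exact t1692_rchk_2158
  · exact t1692_rchk_2159

end Cfsg.Agent.H35
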