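import Cfsg.Agent.H35.T1692.RTab

set_option autoImplicit false
set_option linter.all false
set_option Elab.async false

namespace Cfsg.Agent.H35

theorem t1692_rchk_2240 : allR t1692_rf 197670 6 (2240 * 2 ^ 6) = true := by decide +kernel
theorem t1692_rchk_2241 : allR t1692_rf 197670 6 (2241 * 2 ^ 6) = true := by decide +kernel
theorem t1692_rchk_2242 : allR t1692_rf 197670 6 (2242 * 2 ^ 6) = true := by decide +kernel
theorem t1692_rchk_2243 : allR t1692_rf 197670 6 (2243 * 2 ^ 6) = true := by decide +kernel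
theorem t1692_rchk_2244 : allR t1692_rf 197670 6 (2244 * 2 ^ 6) = true := by decide +kernel
theorem t1692_rchk_2245 : allR t1692_rf 197670 6 (2245 * 2 ^ 6) = true := by decide +kernel
theorem t1692_rchk_2246 : allR t1692_rf 197670 6 (2246 * 2 ^ 6) = true := by decide +kernel
theorem t1692_rchk_2247 : allR t1692_rf 197670 6 (2247 * 2 ^ 6) = true := by decide +kernel
theorem t1692_rchk_2248 : allR t1692_rf 197670 6 (2248 * 2 ^ 6) = true := by decide +kernel
theorem t1692_rchk_2249 : allR t1692_rf 197670 6 (2249 * 2 ^ 6) = true := by decide +kernel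
theorem t1692_rchk_2250 : allR t1692_rf 197670 6 (2250 * 2 ^ 6) = true := by decide +kernel
theorem t1692_rchk_2251 : allR t1692_rf 197670 6 (2251 * 2 ^ 6) = true := by decide +kernel
theorem t1692_rchk_2252 : allR t1692_rf 197670 6 (2252 * 2 ^ 6) = true := by decide +kernel
theorem t1692_rchk_2253 : allR t1692_rf 197670 6 (2253 * 2 ^ 6) = true := by decide +kernel
theorem t1692_rchk_2254 : allR t1692_rf 197670 6 (2254 * 2 ^ 6) = true := by decide +kernel
theorem t1692_rchk_2255 : allR t1692_rf 197670 6 (2255 * 2 ^ 6) = true := by decide +kernel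
theorem t1692_rchk_2256 : allR t1692_rf 197670 6 (2256 * 2 ^ 6) = true := by decide +kernel
theorem t1692_rchk_2257 : allR t1692_rf 197670 6 (2257 * 2 ^ 6) = true := by decide +kernel
theorem t1692_rchk_2258 : allR t1692_rf 197670 6 (2258 * 2 ^ 6) = true := by decide +kernel
theorem t1692_rchk_2259 : allR t1692_rf 197670 6 (2259 * 2 ^ 6) = true := by decide +kernel
theorem t1692_rchk_2260 : allR t1692_rf 197670 6 (2260 * 2 ^ 6) = true := by decide +kernel
theorem t1692_rchk_2261 : allR t1692_rf 197670 6 (2261 * 2 ^ 6) = true := by decide +kernel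
theorem t1692_rchk_2262 : allR t1692_rf 197670 6 (2262 * 2 ^ 6) = true := by decide +kernel
theorem t1692_rchk_2263 : allR t1692_rf 197670 6 (2263 * 2 ^ 6) = true := by decide +kernel
theorem t1692_rchk_2264 : allR t1692_rf 197670 6 (2264 * 2 ^ 6) = true := by decide +kernel
theorem t1692_rchk_2265 : allR t1692_rf 197670 6 (2265 * 2 ^ 6) = true := by decide +kernel
theorem t1692_rchk_2266 : allR t1692_rf 197670 6 (2266 * 2 ^ 6) = true := by decide +kernel
theorem t1692_rchk_2267 : allR t1692_rf 197670 6 (2267 * 2 ^ 6) = true := by decide +kernel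
theorem t1692_rchk_2268 : allR t1692_rf 197670 6 (2268 * 2 ^ 6) = true := by decide +kernel
theorem t1692_rchk_2269 : allR t1692_rf 197670 6 (2269 * 2 ^ 6) = true := by decide +kernel
theorem t1692_rchk_2270 : allR t1692_rf 197670 6 (2270 * 2 ^ 6) = true := by decide +kernel
theorem t1692_rchk_2271 : allR t1692_rf 197670 6 (2271 * 2 ^ 6) = true := by decide +kernel
theorem t1692_rchk_2272 : allR t1692_rf 197670 6 (2272 * 2 ^ 6) = true := by decide +kernel
theorem t1692_rchk_2273 : allR t1692_rf 197670 6 (2273 * 2 ^ 6) = true := by decide +kernel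
theorem t1692_rchk_2274 : allR t1692_rf 197670 6 (2274 * 2 ^ 6) = true := by decide +kernel
theorem t1692_rchk_2275 : allR t1692_rf 197670 6 (2275 * 2 ^ 6) = true := by decide +kernel
theorem t1692_rchk_2276 : allR t1692_rf 197670 6 (2276 * 2 ^ 6) = true := by decide +kernel
theorem t1692_rchk_2277 : allR t1692_rf 197670 6 (2277 * 2 ^ 6) = true := by decide +kernel
theorem t1692_rchk_2278 : allR t1692_rf 197670 6 (2278 * 2 ^ 6) = true := by decide +kernel
theorem t1692_rchk_2279 : allR t1692_rf 197670 6 (2279 * 2 ^ 6) = true := by decide +kernel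
theorem t1692_rchk_2280 : allR t1692_rf 197670 6 (2280 * 2 ^ 6) = true := by decide +kernel
theorem t1692_rchk_2281 : allR t1692_rf 197670 6 (2281 * 2 ^ 6) = true := by decide +kernel
theorem t1692_rchk_2282 : allR t1692_rf 197670 6 (2282 * 2 ^ 6) = true := by decide +kernel
theorem t1692_rchk_2283 : allR t1692_rf 197670 6 (2283 * 2 ^ 6) = true := by decide +kernel
theorem t1692_rchk_2284 : allR t1692_rf 197670 6 (2284 * 2 ^ 6) = true := by decide +kernel
theorem t1692_rchk_2285 : allR t1692_rf 197670 6 (2285 * 2 ^ 6) = true := by decide +kernel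
theorem t1692_rchk_2286 : allR t1692_rf 197670 6 (2286 * 2 ^ 6) = true := by decide +kernel
theorem t1692_rchk_2287 : allR t1692_rf 197670 6 (2287 * 2 ^ 6) = true := by decide +kernel
theorem t1692_rchk_2288 : allR t1692_rf 197670 6 (2288 * 2 ^ 6) = true := by decide +kernel
theorem t1692_rchk_2289 : allR t1692_rf 197670 6 (2289 * 2 ^ 6) = true := by decide +kernel
theorem t1692_rchk_2290 : allR t1692_rf 197670 6 (2290 * 2 ^ 6) = true := by decide +kernel
theorem t1692_rchk_2291 : allR t1692_rf 197670 6 (2291 * 2 ^ 6) = true := by decide +kernel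
theorem t1692_rchk_2292 : allR t1692_rf 197670 6 (2292 * 2 ^ 6) = true := by decide +kernel
theorem t1692_rchk_2293 : allR t1692_rf 197670 6 (2293 * 2 ^ 6) = true := by decide +kernel
theorem t1692_rchk_2294 : allR t1692_rf 197670 6 (2294 * 2 ^ 6) = true := by decide +kernel
theorem t1692_rchk_2295 : allR t1692_rf 197670 6 (2295 * 2 ^ 6) = true := by decide +kernel
theorem t1692_rchk_2296 : allR t1692_rf 197670 6 (2296 * 2 ^ 6) = true := by decide +kernel
theorem t1692_rchk_2297 : allR t1692_rf 197670 6 (2297 * 2 ^ 6) = true := by decide +kernel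
theorem t1692_rchk_2298 : allR t1692_rf 197670 6 (2298 * 2 ^ 6) = true := by decide +kernel
theorem t1692_rchk_2299 : allR t1692_rf 197670 6 (2299 * 2 ^ 6) = true := by decide +kernel
theorem t1692_rchk_2300 : allR t1692_rf 197670 6 (2300 * 2 ^ 6) = true := by decide +kernel
theorem t1692_rchk_2301 : allR t1692_rf 197670 6 (2301 * 2 ^ 6) = true := by decide +kernel
theorem t1692_rchk_2302 : allR t1692_rf 197670 6 (2302 * 2 ^ 6) = true := by decide +kernel
theorem t1692_rchk_2303 : allR t1692_rf 197670 6 (2303 * 2 ^ 6) = true := by decide +kernel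
theorem t1692_rchk_2304 : allR t1692_rf 197670 6 (2304 * 2 ^ 6) = true := by decide +kernel
theorem t1692_rchk_2305 : allR t1692_rf 197670 6 (2305 * 2 ^ 6) = true := by decide +kernel
theorem t1692_rchk_2306 : allR t1692_rf 197670 6 (2306 * 2 ^ 6) = true := by decide +kernel
theorem t1692_rchk_2307 : allR t1692_rf 197670 6 (2307 * 2 ^ 6) = true := by decide +kernel
theorem t1692_rchk_2308 : allR t1692_rf 197670 6 (2308 * 2 ^ 6) = true := by decide +kernel
theorem t1692_rchk_2309 : allR t1692_rf 197670 6 (2309 * 2 ^ 6) = true := by decide +kernel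
theorem t1692_rchk_2310 : allR t1692_rf 197670 6 (2310 * 2 ^ 6) = true := by decide +kernel
theorem t1692_rchk_2311 : allR t1692_rf 197670 6 (2311 * 2 ^ 6) = true := by decide +kernel
theorem t1692_rchk_2312 : allR t1692_rf 197670 6 (2312 * 2 ^ 6) = true := by decide +kernel
theorem t1692_rchk_2313 : allR t1692_rf 197670 6 (2313 * 2 ^ 6) = true := by decide +kernel
theorem t1692_rchk_2314 : allR t1692_rf 197670 6 (2314 * 2 ^ 6) = true := by decide +kernel
theorem t1692_rchk_2315 : allR t1692_rf 197670 6 (2315 * 2 ^ 6) = true := by decide +kernel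
theorem t1692_rchk_2316 : allR t1692_rf 197670 6 (2316 * 2 ^ 6) = true := by decide +kernel
theorem t1692_rchk_2317 : allR t1692_rf 197670 6 (2317 * 2 ^ 6) = true := by decide +kernel
theorem t1692_rchk_2318 : allR t1692_rf 197670 6 (2318 * 2 ^ 6) = true := by decide +kernel
theorem t1692_rchk_2319 : allR t1692_rf 197670 6 (2319 * 2 ^ 6) = true := by decide +kernel

theorem t1692_rfile_28 : ∀ k, k < 2320 → 2240 ≤ k → allR t1692_rf 197670 6 (k * 2 ^ 6) = true := by
  intro k h1 h2
  interval_cases k
  · exact t1692_rchk_2240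
  · exact t1692_rchk_2241
  · exact t1692_rchk_2242
  · exact t1692_rchk_2243
  · exact t1692_rchk_2244
  · exact t1692_rchk_2245
  · exact t1692_rchk_2246
  · exact t1692_rchk_2247
  · exact t1692_rchk_2248
  · exact t1692_rchk_2249
  · exact t1692_rchk_2250
  · exact t1692_rchk_2251
  · exact t1692_rchk_2252
  · exact t1692_rchk_2253
  · exact t1692_rchk_2254
  · exact t1692_rchk_2255
  · exact t1692_rchk_2256
  · exact t1692_rchk_2257
  · exact t1692_rchk_2258
  · exact t1692_rchk_2259
  · exact t1692_rchk_2260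
  · exact t1692_rchk_2261
  · exact t1692_rchk_2262
  · exact t1692_rchk_2263
  · exact t1692_rchk_2264
  · exact t1692_rchk_2265
  · exact t1692_rchk_2266
  · exact t1692_rchk_2267
  · exact t1692_rchk_2268
  · exact t1692_rchk_2269
  · exact t1692_rchk_2270
  · exact t1692_rchk_2271
  · exact t1692_rchk_2272
  · exact t1692_rchk_2273
  · exact t1692_rchk_2274
  · exact t1692_rchk_2275
  · exact t1692_rchk_2276
  · exact t1692_rchk_2277
  · exact t1692_rchk_2278
  · exact t1692_rchk_2279
  · exact t1692_rchk_2280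
  · exact t1692_rchk_2281
  · exact t1692_rchk_2282
  · exact t1692_rchk_2283
  · exact t1692_rchk_2284
  · exact t1692_rchk_2285
  · exact t1692_rchk_2286
  · exact t1692_rchk_2287
  · exact t1692_rchk_2288
  · exact t1692_rchk_2289
  · exact t1692_rchk_2290
  · exact t1692_rchk_2291
  · exact t1692_rchk_2292
  · exact t1692_rchk_2293
  · exact t1692_rchk_2294
  · exact t1692_rchk_2295
  · exact t1692_rchk_2296
  · exact t1692_rchk_2297
  · exact t1692_rchk_2298
  · exact t1692_rchk_2299
  · exact t1692_rchk_2300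
  · exact t1692_rchk_2301
  · exact t1692_rchk_2302
  · exact t1692_rchk_2303
  · exact t1692_rchk_2304
  · exact t1692_rchk_2305
  · exact t1692_rchk_2306
  · exact t1692_rchk_2307
  · exact t1692_rchk_2308
  · exact t1692_rchk_2309
  · exact t1692_rchk_2310
  · exact t1692_rchk_2311
  · exact t1692_rchk_2312
  · exact t1692_rchk_2313
  · exact t1692_rchk_2314
  · exact t1692_rchk_2315
  · exact t1692_rchk_2316
  · exact t1692_rchk_2317
  · exact t1692_rchk_2318
  · exact t1692_rchk_2319

end Cfsg.Agent.H35
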