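import Cfsg.Agent.H35.T1692.RTab

set_option autoImplicit false
set_option linter.all false
set_option Elab.async false

namespace Cfsg.Agent.H35

theorem t1692_rchk_2400 : allR t1692_rf 197670 6 (2400 * 2 ^ 6) = true := by decide +kernel
theorem t1692_rchk_2401 : allR t1692_rf 197670 6 (2401 * 2 ^ 6) = true := by decide +kernel
theorem t1692_rchk_2402 : allR t1692_rf 197670 6 (2402 * 2 ^ 6) = true := by decide +kernel
theorem t1692_rchk_2403 : allR t1692_rf 197670 6 (2403 * 2 ^ 6) = true := by decide +kernel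
theorem t1692_rchk_2404 : allR t1692_rf 197670 6 (2404 * 2 ^ 6) = true := by decide +kernel
theorem t1692_rchk_2405 : allR t1692_rf 197670 6 (2405 * 2 ^ 6) = true := by decide +kernel
theorem t1692_rchk_2406 : allR t1692_rf 197670 6 (2406 * 2 ^ 6) = true := by decide +kernel
theorem t1692_rchk_2407 : allR t1692_rf 197670 6 (2407 * 2 ^ 6) = true := by decide +kernel
theorem t1692_rchk_2408 : allR t1692_rf 197670 6 (2408 * 2 ^ 6) = true := by decide +kernel
theorem t1692_rchk_2409 : allR t1692_rf 197670 6 (2409 * 2 ^ 6) = true := by decide +kernel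
theorem t1692_rchk_2410 : allR t1692_rf 197670 6 (2410 * 2 ^ 6) = true := by decide +kernel
theorem t1692_rchk_2411 : allR t1692_rf 197670 6 (2411 * 2 ^ 6) = true := by decide +kernel
theorem t1692_rchk_2412 : allR t1692_rf 197670 6 (2412 * 2 ^ 6) = true := by decide +kernel
theorem t1692_rchk_2413 : allR t1692_rf 197670 6 (2413 * 2 ^ 6) = true := by decide +kernel
theorem t1692_rchk_2414 : allR t1692_rf 197670 6 (2414 * 2 ^ 6) = true := by decide +kernel
theorem t1692_rchk_2415 : allR t1692_rf 197670 6 (2415 * 2 ^ 6) = true := by decide +kernel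
theorem t1692_rchk_2416 : allR t1692_rf 197670 6 (2416 * 2 ^ 6) = true := by decide +kernel
theorem t1692_rchk_2417 : allR t1692_rf 197670 6 (2417 * 2 ^ 6) = true := by decide +kernel
theorem t1692_rchk_2418 : allR t1692_rf 197670 6 (2418 * 2 ^ 6) = true := by decide +kernel
theorem t1692_rchk_2419 : allR t1692_rf 197670 6 (2419 * 2 ^ 6) = true := by decide +kernel
theorem t1692_rchk_2420 : allR t1692_rf 197670 6 (2420 * 2 ^ 6) = true := by decide +kernel
theorem t1692_rchk_2421 : allR t1692_rf 197670 6 (2421 * 2 ^ 6) = true := by decide +kernel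
theorem t1692_rchk_2422 : allR t1692_rf 197670 6 (2422 * 2 ^ 6) = true := by decide +kernel
theorem t1692_rchk_2423 : allR t1692_rf 197670 6 (2423 * 2 ^ 6) = true := by decide +kernel
theorem t1692_rchk_2424 : allR t1692_rf 197670 6 (2424 * 2 ^ 6) = true := by decide +kernel
theorem t1692_rchk_2425 : allR t1692_rf 197670 6 (2425 * 2 ^ 6) = true := by decide +kernel
theorem t1692_rchk_2426 : allR t1692_rf 197670 6 (2426 * 2 ^ 6) = true := by decide +kernel
theorem t1692_rchk_2427 : allR t1692_rf 197670 6 (2427 * 2 ^ 6) = true := by decide +kernel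
theorem t1692_rchk_2428 : allR t1692_rf 197670 6 (2428 * 2 ^ 6) = true := by decide +kernel
theorem t1692_rchk_2429 : allR t1692_rf 197670 6 (2429 * 2 ^ 6) = true := by decide +kernel
theorem t1692_rchk_2430 : allR t1692_rf 197670 6 (2430 * 2 ^ 6) = true := by decide +kernel
theorem t1692_rchk_2431 : allR t1692_rf 197670 6 (2431 * 2 ^ 6) = true := by decide +kernel
theorem t1692_rchk_2432 : allR t1692_rf 197670 6 (2432 * 2 ^ 6) = true := by decide +kernel
theorem t1692_rchk_2433 : allR t1692_rf 197670 6 (2433 * 2 ^ 6) = true := by decide +kernel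
theorem t1692_rchk_2434 : allR t1692_rf 197670 6 (2434 * 2 ^ 6) = true := by decide +kernel
theorem t1692_rchk_2435 : allR t1692_rf 197670 6 (2435 * 2 ^ 6) = true := by decide +kernel
theorem t1692_rchk_2436 : allR t1692_rf 197670 6 (2436 * 2 ^ 6) = true := by decide +kernel
theorem t1692_rchk_2437 : allR t1692_rf 197670 6 (2437 * 2 ^ 6) = true := by decide +kernel
theorem t1692_rchk_2438 : allR t1692_rf 197670 6 (2438 * 2 ^ 6) = true := by decide +kernel
theorem t1692_rchk_2439 : allR t1692_rf 197670 6 (2439 * 2 ^ 6) = true := by decide +kernel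
theorem t1692_rchk_2440 : allR t1692_rf 197670 6 (2440 * 2 ^ 6) = true := by decide +kernel
theorem t1692_rchk_2441 : allR t1692_rf 197670 6 (2441 * 2 ^ 6) = true := by decide +kernel
theorem t1692_rchk_2442 : allR t1692_rf 197670 6 (2442 * 2 ^ 6) = true := by decide +kernel
theorem t1692_rchk_2443 : allR t1692_rf 197670 6 (2443 * 2 ^ 6) = true := by decide +kernel
theorem t1692_rchk_2444 : allR t1692_rf 197670 6 (2444 * 2 ^ 6) = true := by decide +kernel
theorem t1692_rchk_2445 : allR t1692_rf 197670 6 (2445 * 2 ^ 6) = true := by decide +kernel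
theorem t1692_rchk_2446 : allR t1692_rf 197670 6 (2446 * 2 ^ 6) = true := by decide +kernel
theorem t1692_rchk_2447 : allR t1692_rf 197670 6 (2447 * 2 ^ 6) = true := by decide +kernel
theorem t1692_rchk_2448 : allR t1692_rf 197670 6 (2448 * 2 ^ 6) = true := by decide +kernel
theorem t1692_rchk_2449 : allR t1692_rf 197670 6 (2449 * 2 ^ 6) = true := by decide +kernel
theorem t1692_rchk_2450 : allR t1692_rf 197670 6 (2450 * 2 ^ 6) = true := by decide +kernel
theorem t1692_rchk_2451 : allR t1692_rf 197670 6 (2451 * 2 ^ 6) = true := by decide +kernel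
theorem t1692_rchk_2452 : allR t1692_rf 197670 6 (2452 * 2 ^ 6) = true := by decide +kernel
theorem t1692_rchk_2453 : allR t1692_rf 197670 6 (2453 * 2 ^ 6) = true := by decide +kernel
theorem t1692_rchk_2454 : allR t1692_rf 197670 6 (2454 * 2 ^ 6) = true := by decide +kernel
theorem t1692_rchk_2455 : allR t1692_rf 197670 6 (2455 * 2 ^ 6) = true := by decide +kernel
theorem t1692_rchk_2456 : allR t1692_rf 197670 6 (2456 * 2 ^ 6) = true := by decide +kernel
theorem t1692_rchk_2457 : allR t1692_rf 197670 6 (2457 * 2 ^ 6) = true := by decide +kernel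
theorem t1692_rchk_2458 : allR t1692_rf 197670 6 (2458 * 2 ^ 6) = true := by decide +kernel
theorem t1692_rchk_2459 : allR t1692_rf 197670 6 (2459 * 2 ^ 6) = true := by decide +kernel
theorem t1692_rchk_2460 : allR t1692_rf 197670 6 (2460 * 2 ^ 6) = true := by decide +kernel
theorem t1692_rchk_2461 : allR t1692_rf 197670 6 (2461 * 2 ^ 6) = true := by decide +kernel
theorem t1692_rchk_2462 : allR t1692_rf 197670 6 (2462 * 2 ^ 6) = true := by decide +kernel
theorem t1692_rchk_2463 : allR t1692_rf 197670 6 (2463 * 2 ^ 6) = true := by decide +kernel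
theorem t1692_rchk_2464 : allR t1692_rf 197670 6 (2464 * 2 ^ 6) = true := by decide +kernel
theorem t1692_rchk_2465 : allR t1692_rf 197670 6 (2465 * 2 ^ 6) = true := by decide +kernel
theorem t1692_rchk_2466 : allR t1692_rf 197670 6 (2466 * 2 ^ 6) = true := by decide +kernel
theorem t1692_rchk_2467 : allR t1692_rf 197670 6 (2467 * 2 ^ 6) = true := by decide +kernel
theorem t1692_rchk_2468 : allR t1692_rf 197670 6 (2468 * 2 ^ 6) = true := by decide +kernel
theorem t1692_rchk_2469 : allR t1692_rf 197670 6 (2469 * 2 ^ 6) = true := by decide +kernel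
theorem t1692_rchk_2470 : allR t1692_rf 197670 6 (2470 * 2 ^ 6) = true := by decide +kernel
theorem t1692_rchk_2471 : allR t1692_rf 197670 6 (2471 * 2 ^ 6) = true := by decide +kernel
theorem t1692_rchk_2472 : allR t1692_rf 197670 6 (2472 * 2 ^ 6) = true := by decide +kernel
theorem t1692_rchk_2473 : allR t1692_rf 197670 6 (2473 * 2 ^ 6) = true := by decide +kernel
theorem t1692_rchk_2474 : allR t1692_rf 197670 6 (2474 * 2 ^ 6) = true := by decide +kernel
theorem t1692_rchk_2475 : allR t1692_rf 197670 6 (2475 * 2 ^ 6) = true := by decide +kernel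
theorem t1692_rchk_2476 : allR t1692_rf 197670 6 (2476 * 2 ^ 6) = true := by decide +kernel
theorem t1692_rchk_2477 : allR t1692_rf 197670 6 (2477 * 2 ^ 6) = true := by decide +kernel
theorem t1692_rchk_2478 : allR t1692_rf 197670 6 (2478 * 2 ^ 6) = true := by decide +kernel
theorem t1692_rchk_2479 : allR t1692_rf 197670 6 (2479 * 2 ^ 6) = true := by decide +kernel

theorem t1692_rfile_30 : ∀ k, k < 2480 → 2400 ≤ k → allR t1692_rf 197670 6 (k * 2 ^ 6) = true := by
  intro k h1 h2
  interval_cases k
  · exact t1692_rchk_2400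
  · exact t1692_rchk_2401
  · exact t1692_rchk_2402
  · exact t1692_rchk_2403
  · exact t1692_rchk_2404
  · exact t1692_rchk_2405
  · exact t1692_rchk_2406
  · exact t1692_rchk_2407
  · exact t1692_rchk_2408
  · exact t1692_rchk_2409
  · exact t1692_rchk_2410
  · exact t1692_rchk_2411
  · exact t1692_rchk_2412
  · exact t1692_rchk_2413
  · exact t1692_rchk_2414
  · exact t1692_rchk_2415
  · exact t1692_rchk_2416
  · exact t1692_rchk_2417
  · exact t1692_rchk_2418
  · exact t1692_rchk_2419
  · exact t1692_rchk_2420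
  · exact t1692_rchk_2421
  · exact t1692_rchk_2422
  · exact t1692_rchk_2423
  · exact t1692_rchk_2424
  · exact t1692_rchk_2425
  · exact t1692_rchk_2426
  · exact t1692_rchk_2427
  · exact t1692_rchk_2428
  · exact t1692_rchk_2429
  · exact t1692_rchk_2430
  · exact t1692_rchk_2431
  · exact t1692_rchk_2432
  · exact t1692_rchk_2433
  · exact t1692_rchk_2434
  · exact t1692_rchk_2435
  · exact t1692_rchk_2436
  · exact t1692_rchk_2437
  · exact t1692_rchk_2438
  · exact t1692_rchk_2439
  · exact t1692_rchk_2440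
  · exact t1692_rchk_2441
  · exact t1692_rchk_2442
  · exact t1692_rchk_2443
  · exact t1692_rchk_2444
  · exact t1692_rchk_2445
  · exact t1692_rchk_2446
  · exact t1692_rchk_2447
  · exact t1692_rchk_2448
  · exact t1692_rchk_2449
  · exact t1692_rchk_2450
  · exact t1692_rchk_2451
  · exact t1692_rchk_2452
  · exact t1692_rchk_2453
  · exact t1692_rchk_2454
  · exact t1692_rchk_2455
  · exact t1692_rchk_2456
  · exact t1692_rchk_2457
  · exact t1692_rchk_2458
  · exact t1692_rchk_2459
  · exact t1692_rchk_2460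
  · exact t1692_rchk_2461
  · exact t1692_rchk_2462
  · exact t1692_rchk_2463
  · exact t1692_rchk_2464
  · exact t1692_rchk_2465
  · exact t1692_rchk_2466
  · exact t1692_rchk_2467
  · exact t1692_rchk_2468
  · exact t1692_rchk_2469
  · exact t1692_rchk_2470
  · exact t1692_rchk_2471
  · exact t1692_rchk_2472
  · exact t1692_rchk_2473
  · exact t1692_rchk_2474
  · exact t1692_rchk_2475
  · exact t1692_rchk_2476
  · exact t1692_rchk_2477
  · exact t1692_rchk_2478
  · exact t1692_rchk_2479

end Cfsg.Agent.H35
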