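import Cfsg.Agent.H35.T1692.RTab

set_option autoImplicit false
set_option linter.all false
set_option Elab.async false

namespace Cfsg.Agent.H35

theorem t1692_rchk_2560 : allR t1692_rf 197670 6 (2560 * 2 ^ 6) = true := by decide +kernel
theorem t1692_rchk_2561 : allR t1692_rf 197670 6 (2561 * 2 ^ 6) = true := by decide +kernel
theorem t1692_rchk_2562 : allR t1692_rf 197670 6 (2562 * 2 ^ 6) = true := by decide +kernel
theorem t1692_rchk_2563 : allR t1692_rf 197670 6 (2563 * 2 ^ 6) = true := by decide +kernel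
theorem t1692_rchk_2564 : allR t1692_rf 197670 6 (2564 * 2 ^ 6) = true := by decide +kernel
theorem t1692_rchk_2565 : allR t1692_rf 197670 6 (2565 * 2 ^ 6) = true := by decide +kernel
theorem t1692_rchk_2566 : allR t1692_rf 197670 6 (2566 * 2 ^ 6) = true := by decide +kernel
theorem t1692_rchk_2567 : allR t1692_rf 197670 6 (2567 * 2 ^ 6) = true := by decide +kernel
theorem t1692_rchk_2568 : allR t1692_rf 197670 6 (2568 * 2 ^ 6) = true := by decide +kernel
theorem t1692_rchk_2569 : allR t1692_rf 197670 6 (2569 * 2 ^ 6) = true := by decide +kernel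
theorem t1692_rchk_2570 : allR t1692_rf 197670 6 (2570 * 2 ^ 6) = true := by decide +kernel
theorem t1692_rchk_2571 : allR t1692_rf 197670 6 (2571 * 2 ^ 6) = true := by decide +kernel
theorem t1692_rchk_2572 : allR t1692_rf 197670 6 (2572 * 2 ^ 6) = true := by decide +kernel
theorem t1692_rchk_2573 : allR t1692_rf 197670 6 (2573 * 2 ^ 6) = true := by decide +kernel
theorem t1692_rchk_2574 : allR t1692_rf 197670 6 (2574 * 2 ^ 6) = true := by decide +kernel
theorem t1692_rchk_2575 : allR t1692_rf 197670 6 (2575 * 2 ^ 6) = true := by decide +kernel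
theorem t1692_rchk_2576 : allR t1692_rf 197670 6 (2576 * 2 ^ 6) = true := by decide +kernel
theorem t1692_rchk_2577 : allR t1692_rf 197670 6 (2577 * 2 ^ 6) = true := by decide +kernel
theorem t1692_rchk_2578 : allR t1692_rf 197670 6 (2578 * 2 ^ 6) = true := by decide +kernel
theorem t1692_rchk_2579 : allR t1692_rf 197670 6 (2579 * 2 ^ 6) = true := by decide +kernel
theorem t1692_rchk_2580 : allR t1692_rf 197670 6 (2580 * 2 ^ 6) = true := by decide +kernel
theorem t1692_rchk_2581 : allR t1692_rf 197670 6 (2581 * 2 ^ 6) = true := by decide +kernel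
theorem t1692_rchk_2582 : allR t1692_rf 197670 6 (2582 * 2 ^ 6) = true := by decide +kernel
theorem t1692_rchk_2583 : allR t1692_rf 197670 6 (2583 * 2 ^ 6) = true := by decide +kernel
theorem t1692_rchk_2584 : allR t1692_rf 197670 6 (2584 * 2 ^ 6) = true := by decide +kernel
theorem t1692_rchk_2585 : allR t1692_rf 197670 6 (2585 * 2 ^ 6) = true := by decide +kernel
theorem t1692_rchk_2586 : allR t1692_rf 197670 6 (2586 * 2 ^ 6) = true := by decide +kernel
theorem t1692_rchk_2587 : allR t1692_rf 197670 6 (2587 * 2 ^ 6) = true := by decide +kernel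
theorem t1692_rchk_2588 : allR t1692_rf 197670 6 (2588 * 2 ^ 6) = true := by decide +kernel
theorem t1692_rchk_2589 : allR t1692_rf 197670 6 (2589 * 2 ^ 6) = true := by decide +kernel
theorem t1692_rchk_2590 : allR t1692_rf 197670 6 (2590 * 2 ^ 6) = true := by decide +kernel
theorem t1692_rchk_2591 : allR t1692_rf 197670 6 (2591 * 2 ^ 6) = true := by decide +kernel
theorem t1692_rchk_2592 : allR t1692_rf 197670 6 (2592 * 2 ^ 6) = true := by decide +kernel
theorem t1692_rchk_2593 : allR t1692_rf 197670 6 (2593 * 2 ^ 6) = true := by decide +kernel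
theorem t1692_rchk_2594 : allR t1692_rf 197670 6 (2594 * 2 ^ 6) = true := by decide +kernel
theorem t1692_rchk_2595 : allR t1692_rf 197670 6 (2595 * 2 ^ 6) = true := by decide +kernel
theorem t1692_rchk_2596 : allR t1692_rf 197670 6 (2596 * 2 ^ 6) = true := by decide +kernel
theorem t1692_rchk_2597 : allR t1692_rf 197670 6 (2597 * 2 ^ 6) = true := by decide +kernel
theorem t1692_rchk_2598 : allR t1692_rf 197670 6 (2598 * 2 ^ 6) = true := by decide +kernel
theorem t1692_rchk_2599 : allR t1692_rf 197670 6 (2599 * 2 ^ 6) = true := by decide +kernel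
theorem t1692_rchk_2600 : allR t1692_rf 197670 6 (2600 * 2 ^ 6) = true := by decide +kernel
theorem t1692_rchk_2601 : allR t1692_rf 197670 6 (2601 * 2 ^ 6) = true := by decide +kernel
theorem t1692_rchk_2602 : allR t1692_rf 197670 6 (2602 * 2 ^ 6) = true := by decide +kernel
theorem t1692_rchk_2603 : allR t1692_rf 197670 6 (2603 * 2 ^ 6) = true := by decide +kernel
theorem t1692_rchk_2604 : allR t1692_rf 197670 6 (2604 * 2 ^ 6) = true := by decide +kernel
theorem t1692_rchk_2605 : allR t1692_rf 197670 6 (2605 * 2 ^ 6) = true := by decide +kernel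
theorem t1692_rchk_2606 : allR t1692_rf 197670 6 (2606 * 2 ^ 6) = true := by decide +kernel
theorem t1692_rchk_2607 : allR t1692_rf 197670 6 (2607 * 2 ^ 6) = true := by decide +kernel
theorem t1692_rchk_2608 : allR t1692_rf 197670 6 (2608 * 2 ^ 6) = true := by decide +kernel
theorem t1692_rchk_2609 : allR t1692_rf 197670 6 (2609 * 2 ^ 6) = true := by decide +kernel
theorem t1692_rchk_2610 : allR t1692_rf 197670 6 (2610 * 2 ^ 6) = true := by decide +kernel
theorem t1692_rchk_2611 : allR t1692_rf 197670 6 (2611 * 2 ^ 6) = true := by decide +kernel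
theorem t1692_rchk_2612 : allR t1692_rf 197670 6 (2612 * 2 ^ 6) = true := by decide +kernel
theorem t1692_rchk_2613 : allR t1692_rf 197670 6 (2613 * 2 ^ 6) = true := by decide +kernel
theorem t1692_rchk_2614 : allR t1692_rf 197670 6 (2614 * 2 ^ 6) = true := by decide +kernel
theorem t1692_rchk_2615 : allR t1692_rf 197670 6 (2615 * 2 ^ 6) = true := by decide +kernel
theorem t1692_rchk_2616 : allR t1692_rf 197670 6 (2616 * 2 ^ 6) = true := by decide +kernel
theorem t1692_rchk_2617 : allR t1692_rf 197670 6 (2617 * 2 ^ 6) = true := by decide +kernel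
theorem t1692_rchk_2618 : allR t1692_rf 197670 6 (2618 * 2 ^ 6) = true := by decide +kernel
theorem t1692_rchk_2619 : allR t1692_rf 197670 6 (2619 * 2 ^ 6) = true := by decide +kernel
theorem t1692_rchk_2620 : allR t1692_rf 197670 6 (2620 * 2 ^ 6) = true := by decide +kernel
theorem t1692_rchk_2621 : allR t1692_rf 197670 6 (2621 * 2 ^ 6) = true := by decide +kernel
theorem t1692_rchk_2622 : allR t1692_rf 197670 6 (2622 * 2 ^ 6) = true := by decide +kernel
theorem t1692_rchk_2623 : allR t1692_rf 197670 6 (2623 * 2 ^ 6) = true := by decide +kernel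
theorem t1692_rchk_2624 : allR t1692_rf 197670 6 (2624 * 2 ^ 6) = true := by decide +kernel
theorem t1692_rchk_2625 : allR t1692_rf 197670 6 (2625 * 2 ^ 6) = true := by decide +kernel
theorem t1692_rchk_2626 : allR t1692_rf 197670 6 (2626 * 2 ^ 6) = true := by decide +kernel
theorem t1692_rchk_2627 : allR t1692_rf 197670 6 (2627 * 2 ^ 6) = true := by decide +kernel
theorem t1692_rchk_2628 : allR t1692_rf 197670 6 (2628 * 2 ^ 6) = true := by decide +kernel
theorem t1692_rchk_2629 : allR t1692_rf 197670 6 (2629 * 2 ^ 6) = true := by decide +kernel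
theorem t1692_rchk_2630 : allR t1692_rf 197670 6 (2630 * 2 ^ 6) = true := by decide +kernel
theorem t1692_rchk_2631 : allR t1692_rf 197670 6 (2631 * 2 ^ 6) = true := by decide +kernel
theorem t1692_rchk_2632 : allR t1692_rf 197670 6 (2632 * 2 ^ 6) = true := by decide +kernel
theorem t1692_rchk_2633 : allR t1692_rf 197670 6 (2633 * 2 ^ 6) = true := by decide +kernel
theorem t1692_rchk_2634 : allR t1692_rf 197670 6 (2634 * 2 ^ 6) = true := by decide +kernel
theorem t1692_rchk_2635 : allR t1692_rf 197670 6 (2635 * 2 ^ 6) = true := by decide +kernel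
theorem t1692_rchk_2636 : allR t1692_rf 197670 6 (2636 * 2 ^ 6) = true := by decide +kernel
theorem t1692_rchk_2637 : allR t1692_rf 197670 6 (2637 * 2 ^ 6) = true := by decide +kernel
theorem t1692_rchk_2638 : allR t1692_rf 197670 6 (2638 * 2 ^ 6) = true := by decide +kernel
theorem t1692_rchk_2639 : allR t1692_rf 197670 6 (2639 * 2 ^ 6) = true := by decide +kernel

theorem t1692_rfile_32 : ∀ k, k < 2640 → 2560 ≤ k → allR t1692_rf 197670 6 (k * 2 ^ 6) = true := by
  intro k h1 h2
  interval_cases k
  · exact t1692_rchk_2560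
  · exact t1692_rchk_2561
  · exact t1692_rchk_2562
  · exact t1692_rchk_2563
  · exact t1692_rchk_2564
  · exact t1692_rchk_2565
  · exact t1692_rchk_2566
  · exact t1692_rchk_2567
  · exact t1692_rchk_2568
  · exact t1692_rchk_2569
  · exact t1692_rchk_2570
  · exact t1692_rchk_2571
  · exact t1692_rchk_2572
  · exact t1692_rchk_2573
  · exact t1692_rchk_2574
  · exact t1692_rchk_2575
  · exact t1692_rchk_2576
  · exact t1692_rchk_2577
  · exact t1692_rchk_2578
  · exact t1692_rchk_2579
  · exact t1692_rchk_2580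
  · exact t1692_rchk_2581
  · exact t1692_rchk_2582
  · exact t1692_rchk_2583
  · exact t1692_rchk_2584
  · exact t1692_rchk_2585
  · exact t1692_rchk_2586
  · exact t1692_rchk_2587
  · exact t1692_rchk_2588
  · exact t1692_rchk_2589
  · exact t1692_rchk_2590
  · exact t1692_rchk_2591
  · exact t1692_rchk_2592
  · exact t1692_rchk_2593
  · exact t1692_rchk_2594
  · exact t1692_rchk_2595
  · exact t1692_rchk_2596
  · exact t1692_rchk_2597
  · exact t1692_rchk_2598
  · exact t1692_rchk_2599
  · exact t1692_rchk_2600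
  · exact t1692_rchk_2601
  · exact t1692_rchk_2602
  · exact t1692_rchk_2603
  · exact t1692_rchk_2604
  · exact t1692_rchk_2605
  · exact t1692_rchk_2606
  · exact t1692_rchk_2607
  · exact t1692_rchk_2608
  · exact t1692_rchk_2609
  · exact t1692_rchk_2610
  · exact t1692_rchk_2611
  · exact t1692_rchk_2612
  · exact t1692_rchk_2613
  · exact t1692_rchk_2614
  · exact t1692_rchk_2615
  · exact t1692_rchk_2616
  · exact t1692_rchk_2617
  · exact t1692_rchk_2618
  · exact t1692_rchk_2619
  · exact t1692_rchk_2620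
  · exact t1692_rchk_2621
  · exact t1692_rchk_2622
  · exact t1692_rchk_2623
  · exact t1692_rchk_2624
  · exact t1692_rchk_2625
  · exact t1692_rchk_2626
  · exact t1692_rchk_2627
  · exact t1692_rchk_2628
  · exact t1692_rchk_2629
  · exact t1692_rchk_2630
  · exact t1692_rchk_2631
  · exact t1692_rchk_2632
  · exact t1692_rchk_2633
  · exact t1692_rchk_2634
  · exact t1692_rchk_2635
  · exact t1692_rchk_2636
  · exact t1692_rchk_2637
  · exact t1692_rchk_2638
  · exact t1692_rchk_2639

end Cfsg.Agent.H35
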