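import Cfsg.Agent.H35.T1692.RTab

set_option autoImplicit false
set_option linter.all false
set_option Elab.async false

namespace Cfsg.Agent.H35

theorem t1692_rchk_2720 : allR t1692_rf 197670 6 (2720 * 2 ^ 6) = true := by decide +kernel
theorem t1692_rchk_2721 : allR t1692_rf 197670 6 (2721 * 2 ^ 6) = true := by decide +kernel
theorem t1692_rchk_2722 : allR t1692_rf 197670 6 (2722 * 2 ^ 6) = true := by decide +kernel
theorem t1692_rchk_2723 : allR t1692_rf 197670 6 (2723 * 2 ^ 6) = true := by decide +kernel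
theorem t1692_rchk_2724 : allR t1692_rf 197670 6 (2724 * 2 ^ 6) = true := by decide +kernel
theorem t1692_rchk_2725 : allR t1692_rf 197670 6 (2725 * 2 ^ 6) = true := by decide +kernel
theorem t1692_rchk_2726 : allR t1692_rf 197670 6 (2726 * 2 ^ 6) = true := by decide +kernel
theorem t1692_rchk_2727 : allR t1692_rf 197670 6 (2727 * 2 ^ 6) = true := by decide +kernel
theorem t1692_rchk_2728 : allR t1692_rf 197670 6 (2728 * 2 ^ 6) = true := by decide +kernel
theorem t1692_rchk_2729 : allR t1692_rf 197670 6 (2729 * 2 ^ 6) = true := by decide +kernel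
theorem t1692_rchk_2730 : allR t1692_rf 197670 6 (2730 * 2 ^ 6) = true := by decide +kernel
theorem t1692_rchk_2731 : allR t1692_rf 197670 6 (2731 * 2 ^ 6) = true := by decide +kernel
theorem t1692_rchk_2732 : allR t1692_rf 197670 6 (2732 * 2 ^ 6) = true := by decide +kernel
theorem t1692_rchk_2733 : allR t1692_rf 197670 6 (2733 * 2 ^ 6) = true := by decide +kernel
theorem t1692_rchk_2734 : allR t1692_rf 197670 6 (2734 * 2 ^ 6) = true := by decide +kernel
theorem t1692_rchk_2735 : allR t1692_rf 197670 6 (2735 * 2 ^ 6) = true := by decide +kernel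
theorem t1692_rchk_2736 : allR t1692_rf 197670 6 (2736 * 2 ^ 6) = true := by decide +kernel
theorem t1692_rchk_2737 : allR t1692_rf 197670 6 (2737 * 2 ^ 6) = true := by decide +kernel
theorem t1692_rchk_2738 : allR t1692_rf 197670 6 (2738 * 2 ^ 6) = true := by decide +kernel
theorem t1692_rchk_2739 : allR t1692_rf 197670 6 (2739 * 2 ^ 6) = true := by decide +kernel
theorem t1692_rchk_2740 : allR t1692_rf 197670 6 (2740 * 2 ^ 6) = true := by decide +kernel
theorem t1692_rchk_2741 : allR t1692_rf 197670 6 (2741 * 2 ^ 6) = true := by decide +kernel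
theorem t1692_rchk_2742 : allR t1692_rf 197670 6 (2742 * 2 ^ 6) = true := by decide +kernel
theorem t1692_rchk_2743 : allR t1692_rf 197670 6 (2743 * 2 ^ 6) = true := by decide +kernel
theorem t1692_rchk_2744 : allR t1692_rf 197670 6 (2744 * 2 ^ 6) = true := by decide +kernel
theorem t1692_rchk_2745 : allR t1692_rf 197670 6 (2745 * 2 ^ 6) = true := by decide +kernel
theorem t1692_rchk_2746 : allR t1692_rf 197670 6 (2746 * 2 ^ 6) = true := by decide +kernel
theorem t1692_rchk_2747 : allR t1692_rf 197670 6 (2747 * 2 ^ 6) = true := by decide +kernel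
theorem t1692_rchk_2748 : allR t1692_rf 197670 6 (2748 * 2 ^ 6) = true := by decide +kernel
theorem t1692_rchk_2749 : allR t1692_rf 197670 6 (2749 * 2 ^ 6) = true := by decide +kernel
theorem t1692_rchk_2750 : allR t1692_rf 197670 6 (2750 * 2 ^ 6) = true := by decide +kernel
theorem t1692_rchk_2751 : allR t1692_rf 197670 6 (2751 * 2 ^ 6) = true := by decide +kernel
theorem t1692_rchk_2752 : allR t1692_rf 197670 6 (2752 * 2 ^ 6) = true := by decide +kernel
theorem t1692_rchk_2753 : allR t1692_rf 197670 6 (2753 * 2 ^ 6) = true := by decide +kernel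
theorem t1692_rchk_2754 : allR t1692_rf 197670 6 (2754 * 2 ^ 6) = true := by decide +kernel
theorem t1692_rchk_2755 : allR t1692_rf 197670 6 (2755 * 2 ^ 6) = true := by decide +kernel
theorem t1692_rchk_2756 : allR t1692_rf 197670 6 (2756 * 2 ^ 6) = true := by decide +kernel
theorem t1692_rchk_2757 : allR t1692_rf 197670 6 (2757 * 2 ^ 6) = true := by decide +kernel
theorem t1692_rchk_2758 : allR t1692_rf 197670 6 (2758 * 2 ^ 6) = true := by decide +kernel
theorem t1692_rchk_2759 : allR t1692_rf 197670 6 (2759 * 2 ^ 6) = true := by decide +kernel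
theorem t1692_rchk_2760 : allR t1692_rf 197670 6 (2760 * 2 ^ 6) = true := by decide +kernel
theorem t1692_rchk_2761 : allR t1692_rf 197670 6 (2761 * 2 ^ 6) = true := by decide +kernel
theorem t1692_rchk_2762 : allR t1692_rf 197670 6 (2762 * 2 ^ 6) = true := by decide +kernel
theorem t1692_rchk_2763 : allR t1692_rf 197670 6 (2763 * 2 ^ 6) = true := by decide +kernel
theorem t1692_rchk_2764 : allR t1692_rf 197670 6 (2764 * 2 ^ 6) = true := by decide +kernel
theorem t1692_rchk_2765 : allR t1692_rf 197670 6 (2765 * 2 ^ 6) = true := by decide +kernel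
theorem t1692_rchk_2766 : allR t1692_rf 197670 6 (2766 * 2 ^ 6) = true := by decide +kernel
theorem t1692_rchk_2767 : allR t1692_rf 197670 6 (2767 * 2 ^ 6) = true := by decide +kernel
theorem t1692_rchk_2768 : allR t1692_rf 197670 6 (2768 * 2 ^ 6) = true := by decide +kernel
theorem t1692_rchk_2769 : allR t1692_rf 197670 6 (2769 * 2 ^ 6) = true := by decide +kernel
theorem t1692_rchk_2770 : allR t1692_rf 197670 6 (2770 * 2 ^ 6) = true := by decide +kernel
theorem t1692_rchk_2771 : allR t1692_rf 197670 6 (2771 * 2 ^ 6) = true := by decide +kernel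
theorem t1692_rchk_2772 : allR t1692_rf 197670 6 (2772 * 2 ^ 6) = true := by decide +kernel
theorem t1692_rchk_2773 : allR t1692_rf 197670 6 (2773 * 2 ^ 6) = true := by decide +kernel
theorem t1692_rchk_2774 : allR t1692_rf 197670 6 (2774 * 2 ^ 6) = true := by decide +kernel
theorem t1692_rchk_2775 : allR t1692_rf 197670 6 (2775 * 2 ^ 6) = true := by decide +kernel
theorem t1692_rchk_2776 : allR t1692_rf 197670 6 (2776 * 2 ^ 6) = true := by decide +kernel
theorem t1692_rchk_2777 : allR t1692_rf 197670 6 (2777 * 2 ^ 6) = true := by decide +kernel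
theorem t1692_rchk_2778 : allR t1692_rf 197670 6 (2778 * 2 ^ 6) = true := by decide +kernel
theorem t1692_rchk_2779 : allR t1692_rf 197670 6 (2779 * 2 ^ 6) = true := by decide +kernel
theorem t1692_rchk_2780 : allR t1692_rf 197670 6 (2780 * 2 ^ 6) = true := by decide +kernel
theorem t1692_rchk_2781 : allR t1692_rf 197670 6 (2781 * 2 ^ 6) = true := by decide +kernel
theorem t1692_rchk_2782 : allR t1692_rf 197670 6 (2782 * 2 ^ 6) = true := by decide +kernel
theorem t1692_rchk_2783 : allR t1692_rf 197670 6 (2783 * 2 ^ 6) = true := by decide +kernel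
theorem t1692_rchk_2784 : allR t1692_rf 197670 6 (2784 * 2 ^ 6) = true := by decide +kernel
theorem t1692_rchk_2785 : allR t1692_rf 197670 6 (2785 * 2 ^ 6) = true := by decide +kernel
theorem t1692_rchk_2786 : allR t1692_rf 197670 6 (2786 * 2 ^ 6) = true := by decide +kernel
theorem t1692_rchk_2787 : allR t1692_rf 197670 6 (2787 * 2 ^ 6) = true := by decide +kernel
theorem t1692_rchk_2788 : allR t1692_rf 197670 6 (2788 * 2 ^ 6) = true := by decide +kernel
theorem t1692_rchk_2789 : allR t1692_rf 197670 6 (2789 * 2 ^ 6) = true := by decide +kernel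
theorem t1692_rchk_2790 : allR t1692_rf 197670 6 (2790 * 2 ^ 6) = true := by decide +kernel
theorem t1692_rchk_2791 : allR t1692_rf 197670 6 (2791 * 2 ^ 6) = true := by decide +kernel
theorem t1692_rchk_2792 : allR t1692_rf 197670 6 (2792 * 2 ^ 6) = true := by decide +kernel
theorem t1692_rchk_2793 : allR t1692_rf 197670 6 (2793 * 2 ^ 6) = true := by decide +kernel
theorem t1692_rchk_2794 : allR t1692_rf 197670 6 (2794 * 2 ^ 6) = true := by decide +kernel
theorem t1692_rchk_2795 : allR t1692_rf 197670 6 (2795 * 2 ^ 6) = true := by decide +kernel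
theorem t1692_rchk_2796 : allR t1692_rf 197670 6 (2796 * 2 ^ 6) = true := by decide +kernel
theorem t1692_rchk_2797 : allR t1692_rf 197670 6 (2797 * 2 ^ 6) = true := by decide +kernel
theorem t1692_rchk_2798 : allR t1692_rf 197670 6 (2798 * 2 ^ 6) = true := by decide +kernel
theorem t1692_rchk_2799 : allR t1692_rf 197670 6 (2799 * 2 ^ 6) = true := by decide +kernel

theorem t1692_rfile_34 : ∀ k, k < 2800 → 2720 ≤ k → allR t1692_rf 197670 6 (k * 2 ^ 6) = true := by
  intro k h1 h2
  interval_cases k
  · exact t1692_rchk_2720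
  · exact t1692_rchk_2721
  · exact t1692_rchk_2722
  · exact t1692_rchk_2723
  · exact t1692_rchk_2724
  · exact t1692_rchk_2725
  · exact t1692_rchk_2726
  · exact t1692_rchk_2727
  · exact t1692_rchk_2728
  · exact t1692_rchk_2729
  · exact t1692_rchk_2730
  · exact t1692_rchk_2731
  · exact t1692_rchk_2732
  · exact t1692_rchk_2733
  · exact t1692_rchk_2734
  · exact t1692_rchk_2735
  · exact t1692_rchk_2736
  · exact t1692_rchk_2737
  · exact t1692_rchk_2738
  · exact t1692_rchk_2739
  · exact t1692_rchk_2740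
  · exact t1692_rchk_2741
  · exact t1692_rchk_2742
  · exact t1692_rchk_2743
  · exact t1692_rchk_2744
  · exact t1692_rchk_2745
  · exact t1692_rchk_2746
  · exact t1692_rchk_2747
  · exact t1692_rchk_2748
  · exact t1692_rchk_2749
  · exact t1692_rchk_2750
  · exact t1692_rchk_2751
  · exact t1692_rchk_2752
  · exact t1692_rchk_2753
  · exact t1692_rchk_2754
  · exact t1692_rchk_2755
  · exact t1692_rchk_2756
  · exact t1692_rchk_2757
  · exact t1692_rchk_2758
  · exact t1692_rchk_2759
  · exact t1692_rchk_2760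
  · exact t1692_rchk_2761
  · exact t1692_rchk_2762
  · exact t1692_rchk_2763
  · exact t1692_rchk_2764
  · exact t1692_rchk_2765
  · exact t1692_rchk_2766
  · exact t1692_rchk_2767
  · exact t1692_rchk_2768
  · exact t1692_rchk_2769
  · exact t1692_rchk_2770
  · exact t1692_rchk_2771
  · exact t1692_rchk_2772
  · exact t1692_rchk_2773
  · exact t1692_rchk_2774
  · exact t1692_rchk_2775
  · exact t1692_rchk_2776
  · exact t1692_rchk_2777
  · exact t1692_rchk_2778
  · exact t1692_rchk_2779
  · exact t1692_rchk_2780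
  · exact t1692_rchk_2781
  · exact t1692_rchk_2782
  · exact t1692_rchk_2783
  · exact t1692_rchk_2784
  · exact t1692_rchk_2785
  · exact t1692_rchk_2786
  · exact t1692_rchk_2787
  · exact t1692_rchk_2788
  · exact t1692_rchk_2789
  · exact t1692_rchk_2790
  · exact t1692_rchk_2791
  · exact t1692_rchk_2792
  · exact t1692_rchk_2793
  · exact t1692_rchk_2794
  · exact t1692_rchk_2795
  · exact t1692_rchk_2796
  · exact t1692_rchk_2797
  · exact t1692_rchk_2798
  · exact t1692_rchk_2799

end Cfsg.Agent.H35
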