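import Cfsg.Agent.H35.T1692.RTab

set_option autoImplicit false
set_option linter.all false
set_option Elab.async false

namespace Cfsg.Agent.H35

theorem t1692_rchk_2800 : allR t1692_rf 197670 6 (2800 * 2 ^ 6) = true := by decide +kernel
theorem t1692_rchk_2801 : allR t1692_rf 197670 6 (2801 * 2 ^ 6) = true := by decide +kernel
theorem t1692_rchk_2802 : allR t1692_rf 197670 6 (2802 * 2 ^ 6) = true := by decide +kernel
theorem t1692_rchk_2803 : allR t1692_rf 197670 6 (2803 * 2 ^ 6) = true := by decide +kernel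
theorem t1692_rchk_2804 : allR t1692_rf 197670 6 (2804 * 2 ^ 6) = true := by decide +kernel
theorem t1692_rchk_2805 : allR t1692_rf 197670 6 (2805 * 2 ^ 6) = true := by decide +kernel
theorem t1692_rchk_2806 : allR t1692_rf 197670 6 (2806 * 2 ^ 6) = true := by decide +kernel
theorem t1692_rchk_2807 : allR t1692_rf 197670 6 (2807 * 2 ^ 6) = true := by decide +kernel
theorem t1692_rchk_2808 : allR t1692_rf 197670 6 (2808 * 2 ^ 6) = true := by decide +kernel
theorem t1692_rchk_2809 : allR t1692_rf 197670 6 (2809 * 2 ^ 6) = true := by decide +kernel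
theorem t1692_rchk_2810 : allR t1692_rf 197670 6 (2810 * 2 ^ 6) = true := by decide +kernel
theorem t1692_rchk_2811 : allR t1692_rf 197670 6 (2811 * 2 ^ 6) = true := by decide +kernel
theorem t1692_rchk_2812 : allR t1692_rf 197670 6 (2812 * 2 ^ 6) = true := by decide +kernel
theorem t1692_rchk_2813 : allR t1692_rf 197670 6 (2813 * 2 ^ 6) = true := by decide +kernel
theorem t1692_rchk_2814 : allR t1692_rf 197670 6 (2814 * 2 ^ 6) = true := by decide +kernel
theorem t1692_rchk_2815 : allR t1692_rf 197670 6 (2815 * 2 ^ 6) = true := by decide +kernel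
theorem t1692_rchk_2816 : allR t1692_rf 197670 6 (2816 * 2 ^ 6) = true := by decide +kernel
theorem t1692_rchk_2817 : allR t1692_rf 197670 6 (2817 * 2 ^ 6) = true := by decide +kernel
theorem t1692_rchk_2818 : allR t1692_rf 197670 6 (2818 * 2 ^ 6) = true := by decide +kernel
theorem t1692_rchk_2819 : allR t1692_rf 197670 6 (2819 * 2 ^ 6) = true := by decide +kernel
theorem t1692_rchk_2820 : allR t1692_rf 197670 6 (2820 * 2 ^ 6) = true := by decide +kernel
theorem t1692_rchk_2821 : allR t1692_rf 197670 6 (2821 * 2 ^ 6) = true := by decide +kernel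
theorem t1692_rchk_2822 : allR t1692_rf 197670 6 (2822 * 2 ^ 6) = true := by decide +kernel
theorem t1692_rchk_2823 : allR t1692_rf 197670 6 (2823 * 2 ^ 6) = true := by decide +kernel
theorem t1692_rchk_2824 : allR t1692_rf 197670 6 (2824 * 2 ^ 6) = true := by decide +kernel
theorem t1692_rchk_2825 : allR t1692_rf 197670 6 (2825 * 2 ^ 6) = true := by decide +kernel
theorem t1692_rchk_2826 : allR t1692_rf 197670 6 (2826 * 2 ^ 6) = true := by decide +kernel
theorem t1692_rchk_2827 : allR t1692_rf 197670 6 (2827 * 2 ^ 6) = true := by decide +kernel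
theorem t1692_rchk_2828 : allR t1692_rf 197670 6 (2828 * 2 ^ 6) = true := by decide +kernel
theorem t1692_rchk_2829 : allR t1692_rf 197670 6 (2829 * 2 ^ 6) = true := by decide +kernel
theorem t1692_rchk_2830 : allR t1692_rf 197670 6 (2830 * 2 ^ 6) = true := by decide +kernel
theorem t1692_rchk_2831 : allR t1692_rf 197670 6 (2831 * 2 ^ 6) = true := by decide +kernel
theorem t1692_rchk_2832 : allR t1692_rf 197670 6 (2832 * 2 ^ 6) = true := by decide +kernel
theorem t1692_rchk_2833 : allR t1692_rf 197670 6 (2833 * 2 ^ 6) = true := by decide +kernel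
theorem t1692_rchk_2834 : allR t1692_rf 197670 6 (2834 * 2 ^ 6) = true := by decide +kernel
theorem t1692_rchk_2835 : allR t1692_rf 197670 6 (2835 * 2 ^ 6) = true := by decide +kernel
theorem t1692_rchk_2836 : allR t1692_rf 197670 6 (2836 * 2 ^ 6) = true := by decide +kernel
theorem t1692_rchk_2837 : allR t1692_rf 197670 6 (2837 * 2 ^ 6) = true := by decide +kernel
theorem t1692_rchk_2838 : allR t1692_rf 197670 6 (2838 * 2 ^ 6) = true := by decide +kernel
theorem t1692_rchk_2839 : allR t1692_rf 197670 6 (2839 * 2 ^ 6) = true := by decide +kernel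
theorem t1692_rchk_2840 : allR t1692_rf 197670 6 (2840 * 2 ^ 6) = true := by decide +kernel
theorem t1692_rchk_2841 : allR t1692_rf 197670 6 (2841 * 2 ^ 6) = true := by decide +kernel
theorem t1692_rchk_2842 : allR t1692_rf 197670 6 (2842 * 2 ^ 6) = true := by decide +kernel
theorem t1692_rchk_2843 : allR t1692_rf 197670 6 (2843 * 2 ^ 6) = true := by decide +kernel
theorem t1692_rchk_2844 : allR t1692_rf 197670 6 (2844 * 2 ^ 6) = true := by decide +kernel
theorem t1692_rchk_2845 : allR t1692_rf 197670 6 (2845 * 2 ^ 6) = true := by decide +kernel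
theorem t1692_rchk_2846 : allR t1692_rf 197670 6 (2846 * 2 ^ 6) = true := by decide +kernel
theorem t1692_rchk_2847 : allR t1692_rf 197670 6 (2847 * 2 ^ 6) = true := by decide +kernel
theorem t1692_rchk_2848 : allR t1692_rf 197670 6 (2848 * 2 ^ 6) = true := by decide +kernel
theorem t1692_rchk_2849 : allR t1692_rf 197670 6 (2849 * 2 ^ 6) = true := by decide +kernel
theorem t1692_rchk_2850 : allR t1692_rf 197670 6 (2850 * 2 ^ 6) = true := by decide +kernel
theorem t1692_rchk_2851 : allR t1692_rf 197670 6 (2851 * 2 ^ 6) = true := by decide +kernel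
theorem t1692_rchk_2852 : allR t1692_rf 197670 6 (2852 * 2 ^ 6) = true := by decide +kernel
theorem t1692_rchk_2853 : allR t1692_rf 197670 6 (2853 * 2 ^ 6) = true := by decide +kernel
theorem t1692_rchk_2854 : allR t1692_rf 197670 6 (2854 * 2 ^ 6) = true := by decide +kernel
theorem t1692_rchk_2855 : allR t1692_rf 197670 6 (2855 * 2 ^ 6) = true := by decide +kernel
theorem t1692_rchk_2856 : allR t1692_rf 197670 6 (2856 * 2 ^ 6) = true := by decide +kernel
theorem t1692_rchk_2857 : allR t1692_rf 197670 6 (2857 * 2 ^ 6) = true := by decide +kernel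
theorem t1692_rchk_2858 : allR t1692_rf 197670 6 (2858 * 2 ^ 6) = true := by decide +kernel
theorem t1692_rchk_2859 : allR t1692_rf 197670 6 (2859 * 2 ^ 6) = true := by decide +kernel
theorem t1692_rchk_2860 : allR t1692_rf 197670 6 (2860 * 2 ^ 6) = true := by decide +kernel
theorem t1692_rchk_2861 : allR t1692_rf 197670 6 (2861 * 2 ^ 6) = true := by decide +kernel
theorem t1692_rchk_2862 : allR t1692_rf 197670 6 (2862 * 2 ^ 6) = true := by decide +kernel
theorem t1692_rchk_2863 : allR t1692_rf 197670 6 (2863 * 2 ^ 6) = true := by decide +kernel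
theorem t1692_rchk_2864 : allR t1692_rf 197670 6 (2864 * 2 ^ 6) = true := by decide +kernel
theorem t1692_rchk_2865 : allR t1692_rf 197670 6 (2865 * 2 ^ 6) = true := by decide +kernel
theorem t1692_rchk_2866 : allR t1692_rf 197670 6 (2866 * 2 ^ 6) = true := by decide +kernel
theorem t1692_rchk_2867 : allR t1692_rf 197670 6 (2867 * 2 ^ 6) = true := by decide +kernel
theorem t1692_rchk_2868 : allR t1692_rf 197670 6 (2868 * 2 ^ 6) = true := by decide +kernel
theorem t1692_rchk_2869 : allR t1692_rf 197670 6 (2869 * 2 ^ 6) = true := by decide +kernel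
theorem t1692_rchk_2870 : allR t1692_rf 197670 6 (2870 * 2 ^ 6) = true := by decide +kernel
theorem t1692_rchk_2871 : allR t1692_rf 197670 6 (2871 * 2 ^ 6) = true := by decide +kernel
theorem t1692_rchk_2872 : allR t1692_rf 197670 6 (2872 * 2 ^ 6) = true := by decide +kernel
theorem t1692_rchk_2873 : allR t1692_rf 197670 6 (2873 * 2 ^ 6) = true := by decide +kernel
theorem t1692_rchk_2874 : allR t1692_rf 197670 6 (2874 * 2 ^ 6) = true := by decide +kernel
theorem t1692_rchk_2875 : allR t1692_rf 197670 6 (2875 * 2 ^ 6) = true := by decide +kernel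
theorem t1692_rchk_2876 : allR t1692_rf 197670 6 (2876 * 2 ^ 6) = true := by decide +kernel
theorem t1692_rchk_2877 : allR t1692_rf 197670 6 (2877 * 2 ^ 6) = true := by decide +kernel
theorem t1692_rchk_2878 : allR t1692_rf 197670 6 (2878 * 2 ^ 6) = true := by decide +kernel
theorem t1692_rchk_2879 : allR t1692_rf 197670 6 (2879 * 2 ^ 6) = true := by decide +kernel

theorem t1692_rfile_35 : ∀ k, k < 2880 → 2800 ≤ k → allR t1692_rf 197670 6 (k * 2 ^ 6) = true := by
  intro k h1 h2
  interval_cases k
  · exact t1692_rchk_2800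
  · exact t1692_rchk_2801
  · exact t1692_rchk_2802
  · exact t1692_rchk_2803
  · exact t1692_rchk_2804
  · exact t1692_rchk_2805
  · exact t1692_rchk_2806
  · exact t1692_rchk_2807
  · exact t1692_rchk_2808
  · exact t1692_rchk_2809
  · exact t1692_rchk_2810
  · exact t1692_rchk_2811
  · exact t1692_rchk_2812
  · exact t1692_rchk_2813
  · exact t1692_rchk_2814
  · exact t1692_rchk_2815
  · exact t1692_rchk_2816
  · exact t1692_rchk_2817
  · exact t1692_rchk_2818
  · exact t1692_rchk_2819
  · exact t1692_rchk_2820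
  · exact t1692_rchk_2821
  · exact t1692_rchk_2822
  · exact t1692_rchk_2823
  · exact t1692_rchk_2824
  · exact t1692_rchk_2825
  · exact t1692_rchk_2826
  · exact t1692_rchk_2827
  · exact t1692_rchk_2828
  · exact t1692_rchk_2829
  · exact t1692_rchk_2830
  · exact t1692_rchk_2831
  · exact t1692_rchk_2832
  · exact t1692_rchk_2833
  · exact t1692_rchk_2834
  · exact t1692_rchk_2835
  · exact t1692_rchk_2836
  · exact t1692_rchk_2837
  · exact t1692_rchk_2838
  · exact t1692_rchk_2839
  · exact t1692_rchk_2840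
  · exact t1692_rchk_2841
  · exact t1692_rchk_2842
  · exact t1692_rchk_2843
  · exact t1692_rchk_2844
  · exact t1692_rchk_2845
  · exact t1692_rchk_2846
  · exact t1692_rchk_2847
  · exact t1692_rchk_2848
  · exact t1692_rchk_2849
  · exact t1692_rchk_2850
  · exact t1692_rchk_2851
  · exact t1692_rchk_2852
  · exact t1692_rchk_2853
  · exact t1692_rchk_2854
  · exact t1692_rchk_2855
  · exact t1692_rchk_2856
  · exact t1692_rchk_2857
  · exact t1692_rchk_2858
  · exact t1692_rchk_2859
  · exact t1692_rchk_2860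
  · exact t1692_rchk_2861
  · exact t1692_rchk_2862
  · exact t1692_rchk_2863
  · exact t1692_rchk_2864
  · exact t1692_rchk_2865
  · exact t1692_rchk_2866
  · exact t1692_rchk_2867
  · exact t1692_rchk_2868
  · exact t1692_rchk_2869
  · exact t1692_rchk_2870
  · exact t1692_rchk_2871
  · exact t1692_rchk_2872
  · exact t1692_rchk_2873
  · exact t1692_rchk_2874
  · exact t1692_rchk_2875
  · exact t1692_rchk_2876
  · exact t1692_rchk_2877
  · exact t1692_rchk_2878
  · exact t1692_rchk_2879

end Cfsg.Agent.H35
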