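import Cfsg.Agent.H35.T1692.RTab

set_option autoImplicit false
set_option linter.all false
set_option Elab.async false

namespace Cfsg.Agent.H35

theorem t1692_rchk_2880 : allR t1692_rf 197670 6 (2880 * 2 ^ 6) = true := by decide +kernel
theorem t1692_rchk_2881 : allR t1692_rf 197670 6 (2881 * 2 ^ 6) = true := by decide +kernel
theorem t1692_rchk_2882 : allR t1692_rf 197670 6 (2882 * 2 ^ 6) = true := by decide +kernel
theorem t1692_rchk_2883 : allR t1692_rf 197670 6 (2883 * 2 ^ 6) = true := by decide +kernel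
theorem t1692_rchk_2884 : allR t1692_rf 197670 6 (2884 * 2 ^ 6) = true := by decide +kernel
theorem t1692_rchk_2885 : allR t1692_rf 197670 6 (2885 * 2 ^ 6) = true := by decide +kernel
theorem t1692_rchk_2886 : allR t1692_rf 197670 6 (2886 * 2 ^ 6) = true := by decide +kernel
theorem t1692_rchk_2887 : allR t1692_rf 197670 6 (2887 * 2 ^ 6) = true := by decide +kernel
theorem t1692_rchk_2888 : allR t1692_rf 197670 6 (2888 * 2 ^ 6) = true := by decide +kernel
theorem t1692_rchk_2889 : allR t1692_rf 197670 6 (2889 * 2 ^ 6) = true := by decide +kernel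
theorem t1692_rchk_2890 : allR t1692_rf 197670 6 (2890 * 2 ^ 6) = true := by decide +kernel
theorem t1692_rchk_2891 : allR t1692_rf 197670 6 (2891 * 2 ^ 6) = true := by decide +kernel
theorem t1692_rchk_2892 : allR t1692_rf 197670 6 (2892 * 2 ^ 6) = true := by decide +kernel
theorem t1692_rchk_2893 : allR t1692_rf 197670 6 (2893 * 2 ^ 6) = true := by decide +kernel
theorem t1692_rchk_2894 : allR t1692_rf 197670 6 (2894 * 2 ^ 6) = true := by decide +kernel
theorem t1692_rchk_2895 : allR t1692_rf 197670 6 (2895 * 2 ^ 6) = true := by decide +kernel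
theorem t1692_rchk_2896 : allR t1692_rf 197670 6 (2896 * 2 ^ 6) = true := by decide +kernel
theorem t1692_rchk_2897 : allR t1692_rf 197670 6 (2897 * 2 ^ 6) = true := by decide +kernel
theorem t1692_rchk_2898 : allR t1692_rf 197670 6 (2898 * 2 ^ 6) = true := by decide +kernel
theorem t1692_rchk_2899 : allR t1692_rf 197670 6 (2899 * 2 ^ 6) = true := by decide +kernel
theorem t1692_rchk_2900 : allR t1692_rf 197670 6 (2900 * 2 ^ 6) = true := by decide +kernel
theorem t1692_rchk_2901 : allR t1692_rf 197670 6 (2901 * 2 ^ 6) = true := by decide +kernel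
theorem t1692_rchk_2902 : allR t1692_rf 197670 6 (2902 * 2 ^ 6) = true := by decide +kernel
theorem t1692_rchk_2903 : allR t1692_rf 197670 6 (2903 * 2 ^ 6) = true := by decide +kernel
theorem t1692_rchk_2904 : allR t1692_rf 197670 6 (2904 * 2 ^ 6) = true := by decide +kernel
theorem t1692_rchk_2905 : allR t1692_rf 197670 6 (2905 * 2 ^ 6) = true := by decide +kernel
theorem t1692_rchk_2906 : allR t1692_rf 197670 6 (2906 * 2 ^ 6) = true := by decide +kernel
theorem t1692_rchk_2907 : allR t1692_rf 197670 6 (2907 * 2 ^ 6) = true := by decide +kernel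
theorem t1692_rchk_2908 : allR t1692_rf 197670 6 (2908 * 2 ^ 6) = true := by decide +kernel
theorem t1692_rchk_2909 : allR t1692_rf 197670 6 (2909 * 2 ^ 6) = true := by decide +kernel
theorem t1692_rchk_2910 : allR t1692_rf 197670 6 (2910 * 2 ^ 6) = true := by decide +kernel
theorem t1692_rchk_2911 : allR t1692_rf 197670 6 (2911 * 2 ^ 6) = true := by decide +kernel
theorem t1692_rchk_2912 : allR t1692_rf 197670 6 (2912 * 2 ^ 6) = true := by decide +kernel
theorem t1692_rchk_2913 : allR t1692_rf 197670 6 (2913 * 2 ^ 6) = true := by decide +kernel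
theorem t1692_rchk_2914 : allR t1692_rf 197670 6 (2914 * 2 ^ 6) = true := by decide +kernel
theorem t1692_rchk_2915 : allR t1692_rf 197670 6 (2915 * 2 ^ 6) = true := by decide +kernel
theorem t1692_rchk_2916 : allR t1692_rf 197670 6 (2916 * 2 ^ 6) = true := by decide +kernel
theorem t1692_rchk_2917 : allR t1692_rf 197670 6 (2917 * 2 ^ 6) = true := by decide +kernel
theorem t1692_rchk_2918 : allR t1692_rf 197670 6 (2918 * 2 ^ 6) = true := by decide +kernel
theorem t1692_rchk_2919 : allR t1692_rf 197670 6 (2919 * 2 ^ 6) = true := by decide +kernel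
theorem t1692_rchk_2920 : allR t1692_rf 197670 6 (2920 * 2 ^ 6) = true := by decide +kernel
theorem t1692_rchk_2921 : allR t1692_rf 197670 6 (2921 * 2 ^ 6) = true := by decide +kernel
theorem t1692_rchk_2922 : allR t1692_rf 197670 6 (2922 * 2 ^ 6) = true := by decide +kernel
theorem t1692_rchk_2923 : allR t1692_rf 197670 6 (2923 * 2 ^ 6) = true := by decide +kernel
theorem t1692_rchk_2924 : allR t1692_rf 197670 6 (2924 * 2 ^ 6) = true := by decide +kernel
theorem t1692_rchk_2925 : allR t1692_rf 197670 6 (2925 * 2 ^ 6) = true := by decide +kernel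
theorem t1692_rchk_2926 : allR t1692_rf 197670 6 (2926 * 2 ^ 6) = true := by decide +kernel
theorem t1692_rchk_2927 : allR t1692_rf 197670 6 (2927 * 2 ^ 6) = true := by decide +kernel
theorem t1692_rchk_2928 : allR t1692_rf 197670 6 (2928 * 2 ^ 6) = true := by decide +kernel
theorem t1692_rchk_2929 : allR t1692_rf 197670 6 (2929 * 2 ^ 6) = true := by decide +kernel
theorem t1692_rchk_2930 : allR t1692_rf 197670 6 (2930 * 2 ^ 6) = true := by decide +kernel
theorem t1692_rchk_2931 : allR t1692_rf 197670 6 (2931 * 2 ^ 6) = true := by decide +kernel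
theorem t1692_rchk_2932 : allR t1692_rf 197670 6 (2932 * 2 ^ 6) = true := by decide +kernel
theorem t1692_rchk_2933 : allR t1692_rf 197670 6 (2933 * 2 ^ 6) = true := by decide +kernel
theorem t1692_rchk_2934 : allR t1692_rf 197670 6 (2934 * 2 ^ 6) = true := by decide +kernel
theorem t1692_rchk_2935 : allR t1692_rf 197670 6 (2935 * 2 ^ 6) = true := by decide +kernel
theorem t1692_rchk_2936 : allR t1692_rf 197670 6 (2936 * 2 ^ 6) = true := by decide +kernel
theorem t1692_rchk_2937 : allR t1692_rf 197670 6 (2937 * 2 ^ 6) = true := by decide +kernel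
theorem t1692_rchk_2938 : allR t1692_rf 197670 6 (2938 * 2 ^ 6) = true := by decide +kernel
theorem t1692_rchk_2939 : allR t1692_rf 197670 6 (2939 * 2 ^ 6) = true := by decide +kernel
theorem t1692_rchk_2940 : allR t1692_rf 197670 6 (2940 * 2 ^ 6) = true := by decide +kernel
theorem t1692_rchk_2941 : allR t1692_rf 197670 6 (2941 * 2 ^ 6) = true := by decide +kernel
theorem t1692_rchk_2942 : allR t1692_rf 197670 6 (2942 * 2 ^ 6) = true := by decide +kernel
theorem t1692_rchk_2943 : allR t1692_rf 197670 6 (2943 * 2 ^ 6) = true := by decide +kernel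
theorem t1692_rchk_2944 : allR t1692_rf 197670 6 (2944 * 2 ^ 6) = true := by decide +kernel
theorem t1692_rchk_2945 : allR t1692_rf 197670 6 (2945 * 2 ^ 6) = true := by decide +kernel
theorem t1692_rchk_2946 : allR t1692_rf 197670 6 (2946 * 2 ^ 6) = true := by decide +kernel
theorem t1692_rchk_2947 : allR t1692_rf 197670 6 (2947 * 2 ^ 6) = true := by decide +kernel
theorem t1692_rchk_2948 : allR t1692_rf 197670 6 (2948 * 2 ^ 6) = true := by decide +kernel
theorem t1692_rchk_2949 : allR t1692_rf 197670 6 (2949 * 2 ^ 6) = true := by decide +kernel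
theorem t1692_rchk_2950 : allR t1692_rf 197670 6 (2950 * 2 ^ 6) = true := by decide +kernel
theorem t1692_rchk_2951 : allR t1692_rf 197670 6 (2951 * 2 ^ 6) = true := by decide +kernel
theorem t1692_rchk_2952 : allR t1692_rf 197670 6 (2952 * 2 ^ 6) = true := by decide +kernel
theorem t1692_rchk_2953 : allR t1692_rf 197670 6 (2953 * 2 ^ 6) = true := by decide +kernel
theorem t1692_rchk_2954 : allR t1692_rf 197670 6 (2954 * 2 ^ 6) = true := by decide +kernel
theorem t1692_rchk_2955 : allR t1692_rf 197670 6 (2955 * 2 ^ 6) = true := by decide +kernel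
theorem t1692_rchk_2956 : allR t1692_rf 197670 6 (2956 * 2 ^ 6) = true := by decide +kernel
theorem t1692_rchk_2957 : allR t1692_rf 197670 6 (2957 * 2 ^ 6) = true := by decide +kernel
theorem t1692_rchk_2958 : allR t1692_rf 197670 6 (2958 * 2 ^ 6) = true := by decide +kernel
theorem t1692_rchk_2959 : allR t1692_rf 197670 6 (2959 * 2 ^ 6) = true := by decide +kernel

theorem t1692_rfile_36 : ∀ k, k < 2960 → 2880 ≤ k → allR t1692_rf 197670 6 (k * 2 ^ 6) = true := by
  intro k h1 h2
  interval_cases k
  · exact t1692_rchk_2880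
  · exact t1692_rchk_2881
  · exact t1692_rchk_2882
  · exact t1692_rchk_2883
  · exact t1692_rchk_2884
  · exact t1692_rchk_2885
  · exact t1692_rchk_2886
  · exact t1692_rchk_2887
  · exact t1692_rchk_2888
  · exact t1692_rchk_2889
  · exact t1692_rchk_2890
  · exact t1692_rchk_2891
  · exact t1692_rchk_2892
  · exact t1692_rchk_2893
  · exact t1692_rchk_2894
  · exact t1692_rchk_2895
  · exact t1692_rchk_2896
  · exact t1692_rchk_2897
  · exact t1692_rchk_2898
  · exact t1692_rchk_2899
  · exact t1692_rchk_2900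
  · exact t1692_rchk_2901
  · exact t1692_rchk_2902
  · exact t1692_rchk_2903
  · exact t1692_rchk_2904
  · exact t1692_rchk_2905
  · exact t1692_rchk_2906
  · exact t1692_rchk_2907
  · exact t1692_rchk_2908
  · exact t1692_rchk_2909
  · exact t1692_rchk_2910
  · exact t1692_rchk_2911
  · exact t1692_rchk_2912
  · exact t1692_rchk_2913
  · exact t1692_rchk_2914
  · exact t1692_rchk_2915
  · exact t1692_rchk_2916
  · exact t1692_rchk_2917
  · exact t1692_rchk_2918
  · exact t1692_rchk_2919
  · exact t1692_rchk_2920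
  · exact t1692_rchk_2921
  · exact t1692_rchk_2922
  · exact t1692_rchk_2923
  · exact t1692_rchk_2924
  · exact t1692_rchk_2925
  · exact t1692_rchk_2926
  · exact t1692_rchk_2927
  · exact t1692_rchk_2928
  · exact t1692_rchk_2929
  · exact t1692_rchk_2930
  · exact t1692_rchk_2931
  · exact t1692_rchk_2932
  · exact t1692_rchk_2933
  · exact t1692_rchk_2934
  · exact t1692_rchk_2935
  · exact t1692_rchk_2936
  · exact t1692_rchk_2937
  · exact t1692_rchk_2938
  · exact t1692_rchk_2939
  · exact t1692_rchk_2940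
  · exact t1692_rchk_2941
  · exact t1692_rchk_2942
  · exact t1692_rchk_2943
  · exact t1692_rchk_2944
  · exact t1692_rchk_2945
  · exact t1692_rchk_2946
  · exact t1692_rchk_2947
  · exact t1692_rchk_2948
  · exact t1692_rchk_2949
  · exact t1692_rchk_2950
  · exact t1692_rchk_2951
  · exact t1692_rchk_2952
  · exact t1692_rchk_2953
  · exact t1692_rchk_2954
  · exact t1692_rchk_2955
  · exact t1692_rchk_2956
  · exact t1692_rchk_2957
  · exact t1692_rchk_2958
  · exact t1692_rchk_2959

end Cfsg.Agent.H35
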