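import Cfsg.Agent.H35.T1692.RTab

set_option autoImplicit false
set_option linter.all false
set_option Elab.async false

namespace Cfsg.Agent.H35

theorem t1692_rchk_3040 : allR t1692_rf 197670 6 (3040 * 2 ^ 6) = true := by decide +kernel
theorem t1692_rchk_3041 : allR t1692_rf 197670 6 (3041 * 2 ^ 6) = true := by decide +kernel
theorem t1692_rchk_3042 : allR t1692_rf 197670 6 (3042 * 2 ^ 6) = true := by decide +kernel
theorem t1692_rchk_3043 : allR t1692_rf 197670 6 (3043 * 2 ^ 6) = true := by decide +kernel
theorem t1692_rchk_3044 : allR t1692_rf 197670 6 (3044 * 2 ^ 6) = true := by decide +kernel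
theorem t1692_rchk_3045 : allR t1692_rf 197670 6 (3045 * 2 ^ 6) = true := by decide +kernel
theorem t1692_rchk_3046 : allR t1692_rf 197670 6 (3046 * 2 ^ 6) = true := by decide +kernel
theorem t1692_rchk_3047 : allR t1692_rf 197670 6 (3047 * 2 ^ 6) = true := by decide +kernel
theorem t1692_rchk_3048 : allR t1692_rf 197670 6 (3048 * 2 ^ 6) = true := by decide +kernel
theorem t1692_rchk_3049 : allR t1692_rf 197670 6 (3049 * 2 ^ 6) = true := by decide +kernel
theorem t1692_rchk_3050 : allR t1692_rf 197670 6 (3050 * 2 ^ 6) = true := by decide +kernel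
theorem t1692_rchk_3051 : allR t1692_rf 197670 6 (3051 * 2 ^ 6) = true := by decide +kernel
theorem t1692_rchk_3052 : allR t1692_rf 197670 6 (3052 * 2 ^ 6) = true := by decide +kernel
theorem t1692_rchk_3053 : allR t1692_rf 197670 6 (3053 * 2 ^ 6) = true := by decide +kernel
theorem t1692_rchk_3054 : allR t1692_rf 197670 6 (3054 * 2 ^ 6) = true := by decide +kernel
theorem t1692_rchk_3055 : allR t1692_rf 197670 6 (3055 * 2 ^ 6) = true := by decide +kernel
theorem t1692_rchk_3056 : allR t1692_rf 197670 6 (3056 * 2 ^ 6) = true := by decide +kernel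
theorem t1692_rchk_3057 : allR t1692_rf 197670 6 (3057 * 2 ^ 6) = true := by decide +kernel
theorem t1692_rchk_3058 : allR t1692_rf 197670 6 (3058 * 2 ^ 6) = true := by decide +kernel
theorem t1692_rchk_3059 : allR t1692_rf 197670 6 (3059 * 2 ^ 6) = true := by decide +kernel
theorem t1692_rchk_3060 : allR t1692_rf 197670 6 (3060 * 2 ^ 6) = true := by decide +kernel
theorem t1692_rchk_3061 : allR t1692_rf 197670 6 (3061 * 2 ^ 6) = true := by decide +kernel
theorem t1692_rchk_3062 : allR t1692_rf 197670 6 (3062 * 2 ^ 6) = true := by decide +kernel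
theorem t1692_rchk_3063 : allR t1692_rf 197670 6 (3063 * 2 ^ 6) = true := by decide +kernel
theorem t1692_rchk_3064 : allR t1692_rf 197670 6 (3064 * 2 ^ 6) = true := by decide +kernel
theorem t1692_rchk_3065 : allR t1692_rf 197670 6 (3065 * 2 ^ 6) = true := by decide +kernel
theorem t1692_rchk_3066 : allR t1692_rf 197670 6 (3066 * 2 ^ 6) = true := by decide +kernel
theorem t1692_rchk_3067 : allR t1692_rf 197670 6 (3067 * 2 ^ 6) = true := by decide +kernel
theorem t1692_rchk_3068 : allR t1692_rf 197670 6 (3068 * 2 ^ 6) = true := by decide +kernel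
theorem t1692_rchk_3069 : allR t1692_rf 197670 6 (3069 * 2 ^ 6) = true := by decide +kernel
theorem t1692_rchk_3070 : allR t1692_rf 197670 6 (3070 * 2 ^ 6) = true := by decide +kernel
theorem t1692_rchk_3071 : allR t1692_rf 197670 6 (3071 * 2 ^ 6) = true := by decide +kernel
theorem t1692_rchk_3072 : allR t1692_rf 197670 6 (3072 * 2 ^ 6) = true := by decide +kernel
theorem t1692_rchk_3073 : allR t1692_rf 197670 6 (3073 * 2 ^ 6) = true := by decide +kernel
theorem t1692_rchk_3074 : allR t1692_rf 197670 6 (3074 * 2 ^ 6) = true := by decide +kernel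
theorem t1692_rchk_3075 : allR t1692_rf 197670 6 (3075 * 2 ^ 6) = true := by decide +kernel
theorem t1692_rchk_3076 : allR t1692_rf 197670 6 (3076 * 2 ^ 6) = true := by decide +kernel
theorem t1692_rchk_3077 : allR t1692_rf 197670 6 (3077 * 2 ^ 6) = true := by decide +kernel
theorem t1692_rchk_3078 : allR t1692_rf 197670 6 (3078 * 2 ^ 6) = true := by decide +kernel
theorem t1692_rchk_3079 : allR t1692_rf 197670 6 (3079 * 2 ^ 6) = true := by decide +kernel
theorem t1692_rchk_3080 : allR t1692_rf 197670 6 (3080 * 2 ^ 6) = true := by decide +kernel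
theorem t1692_rchk_3081 : allR t1692_rf 197670 6 (3081 * 2 ^ 6) = true := by decide +kernel
theorem t1692_rchk_3082 : allR t1692_rf 197670 6 (3082 * 2 ^ 6) = true := by decide +kernel
theorem t1692_rchk_3083 : allR t1692_rf 197670 6 (3083 * 2 ^ 6) = true := by decide +kernel
theorem t1692_rchk_3084 : allR t1692_rf 197670 6 (3084 * 2 ^ 6) = true := by decide +kernel
theorem t1692_rchk_3085 : allR t1692_rf 197670 6 (3085 * 2 ^ 6) = true := by decide +kernel
theorem t1692_rchk_3086 : allR t1692_rf 197670 6 (3086 * 2 ^ 6) = true := by decide +kernel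
theorem t1692_rchk_3087 : allR t1692_rf 197670 6 (3087 * 2 ^ 6) = true := by decide +kernel
theorem t1692_rchk_3088 : allR t1692_rf 197670 6 (3088 * 2 ^ 6) = true := by decide +kernel

theorem t1692_rfile_38 : ∀ k, k < 3089 → 3040 ≤ k → allR t1692_rf 197670 6 (k * 2 ^ 6) = true := by
  intro k h1 h2
  interval_cases k
  · exact t1692_rchk_3040
  · exact t1692_rchk_3041
  · exact t1692_rchk_3042
  · exact t1692_rchk_3043
  · exact t1692_rchk_3044
  · exact t1692_rchk_3045
  · exact t1692_rchk_3046
  · exact t1692_rchk_3047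
  · exact t1692_rchk_3048
  · exact t1692_rchk_3049
  · exact t1692_rchk_3050
  · exact t1692_rchk_3051
  · exact t1692_rchk_3052
  · exact t1692_rchk_3053
  · exact t1692_rchk_3054
  · exact t1692_rchk_3055
  · exact t1692_rchk_3056
  · exact t1692_rchk_3057
  · exact t1692_rchk_3058
  · exact t1692_rchk_3059
  · exact t1692_rchk_3060
  · exact t1692_rchk_3061
  · exact t1692_rchk_3062
  · exact t1692_rchk_3063
  · exact t1692_rchk_3064
  · exact t1692_rchk_3065
  · exact t1692_rchk_3066
  · exact t1692_rchk_3067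
  · exact t1692_rchk_3068
  · exact t1692_rchk_3069
  · exact t1692_rchk_3070
  · exact t1692_rchk_3071
  · exact t1692_rchk_3072
  · exact t1692_rchk_3073
  · exact t1692_rchk_3074
  · exact t1692_rchk_3075
  · exact t1692_rchk_3076
  · exact t1692_rchk_3077
  · exact t1692_rchk_3078
  · exact t1692_rchk_3079
  · exact t1692_rchk_3080
  · exact t1692_rchk_3081
  · exact t1692_rchk_3082
  · exact t1692_rchk_3083
  · exact t1692_rchk_3084
  · exact t1692_rchk_3085
  · exact t1692_rchk_3086
  · exact t1692_rchk_3087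
  · exact t1692_rchk_3088

end Cfsg.Agent.H35
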