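import Cfsg.Agent.H35.T1692.RTab

set_option autoImplicit false
set_option linter.all false
set_option Elab.async false

namespace Cfsg.Agent.H35

theorem t1692_rchk_320 : allR t1692_rf 197670 6 (320 * 2 ^ 6) = true := by decide +kernel
theorem t1692_rchk_321 : allR t1692_rf 197670 6 (321 * 2 ^ 6) = true := by decide +kernel
theorem t1692_rchk_322 : allR t1692_rf 197670 6 (322 * 2 ^ 6) = true := by decide +kernel
theorem t1692_rchk_323 : allR t1692_rf 197670 6 (323 * 2 ^ 6) = true := by decide +kernel
theorem t1692_rchk_324 : allR t1692_rf 197670 6 (324 * 2 ^ 6) = true := by decide +kernel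
theorem t1692_rchk_325 : allR t1692_rf 197670 6 (325 * 2 ^ 6) = true := by decide +kernel
theorem t1692_rchk_326 : allR t1692_rf 197670 6 (326 * 2 ^ 6) = true := by decide +kernel
theorem t1692_rchk_327 : allR t1692_rf 197670 6 (327 * 2 ^ 6) = true := by decide +kernel
theorem t1692_rchk_328 : allR t1692_rf 197670 6 (328 * 2 ^ 6) = true := by decide +kernel
theorem t1692_rchk_329 : allR t1692_rf 197670 6 (329 * 2 ^ 6) = true := by decide +kernel
theorem t1692_rchk_330 : allR t1692_rf 197670 6 (330 * 2 ^ 6) = true := by decide +kernel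
theorem t1692_rchk_331 : allR t1692_rf 197670 6 (331 * 2 ^ 6) = true := by decide +kernel
theorem t1692_rchk_332 : allR t1692_rf 197670 6 (332 * 2 ^ 6) = true := by decide +kernel
theorem t1692_rchk_333 : allR t1692_rf 197670 6 (333 * 2 ^ 6) = true := by decide +kernel
theorem t1692_rchk_334 : allR t1692_rf 197670 6 (334 * 2 ^ 6) = true := by decide +kernel
theorem t1692_rchk_335 : allR t1692_rf 197670 6 (335 * 2 ^ 6) = true := by decide +kernel
theorem t1692_rchk_336 : allR t1692_rf 197670 6 (336 * 2 ^ 6) = true := by decide +kernel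
theorem t1692_rchk_337 : allR t1692_rf 197670 6 (337 * 2 ^ 6) = true := by decide +kernel
theorem t1692_rchk_338 : allR t1692_rf 197670 6 (338 * 2 ^ 6) = true := by decide +kernel
theorem t1692_rchk_339 : allR t1692_rf 197670 6 (339 * 2 ^ 6) = true := by decide +kernel
theorem t1692_rchk_340 : allR t1692_rf 197670 6 (340 * 2 ^ 6) = true := by decide +kernel
theorem t1692_rchk_341 : allR t1692_rf 197670 6 (341 * 2 ^ 6) = true := by decide +kernel
theorem t1692_rchk_342 : allR t1692_rf 197670 6 (342 * 2 ^ 6) = true := by decide +kernel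
theorem t1692_rchk_343 : allR t1692_rf 197670 6 (343 * 2 ^ 6) = true := by decide +kernel
theorem t1692_rchk_344 : allR t1692_rf 197670 6 (344 * 2 ^ 6) = true := by decide +kernel
theorem t1692_rchk_345 : allR t1692_rf 197670 6 (345 * 2 ^ 6) = true := by decide +kernel
theorem t1692_rchk_346 : allR t1692_rf 197670 6 (346 * 2 ^ 6) = true := by decide +kernel
theorem t1692_rchk_347 : allR t1692_rf 197670 6 (347 * 2 ^ 6) = true := by decide +kernel
theorem t1692_rchk_348 : allR t1692_rf 197670 6 (348 * 2 ^ 6) = true := by decide +kernel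
theorem t1692_rchk_349 : allR t1692_rf 197670 6 (349 * 2 ^ 6) = true := by decide +kernel
theorem t1692_rchk_350 : allR t1692_rf 197670 6 (350 * 2 ^ 6) = true := by decide +kernel
theorem t1692_rchk_351 : allR t1692_rf 197670 6 (351 * 2 ^ 6) = true := by decide +kernel
theorem t1692_rchk_352 : allR t1692_rf 197670 6 (352 * 2 ^ 6) = true := by decide +kernel
theorem t1692_rchk_353 : allR t1692_rf 197670 6 (353 * 2 ^ 6) = true := by decide +kernel
theorem t1692_rchk_354 : allR t1692_rf 197670 6 (354 * 2 ^ 6) = true := by decide +kernel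
theorem t1692_rchk_355 : allR t1692_rf 197670 6 (355 * 2 ^ 6) = true := by decide +kernel
theorem t1692_rchk_356 : allR t1692_rf 197670 6 (356 * 2 ^ 6) = true := by decide +kernel
theorem t1692_rchk_357 : allR t1692_rf 197670 6 (357 * 2 ^ 6) = true := by decide +kernel
theorem t1692_rchk_358 : allR t1692_rf 197670 6 (358 * 2 ^ 6) = true := by decide +kernel
theorem t1692_rchk_359 : allR t1692_rf 197670 6 (359 * 2 ^ 6) = true := by decide +kernel
theorem t1692_rchk_360 : allR t1692_rf 197670 6 (360 * 2 ^ 6) = true := by decide +kernel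
theorem t1692_rchk_361 : allR t1692_rf 197670 6 (361 * 2 ^ 6) = true := by decide +kernel
theorem t1692_rchk_362 : allR t1692_rf 197670 6 (362 * 2 ^ 6) = true := by decide +kernel
theorem t1692_rchk_363 : allR t1692_rf 197670 6 (363 * 2 ^ 6) = true := by decide +kernel
theorem t1692_rchk_364 : allR t1692_rf 197670 6 (364 * 2 ^ 6) = true := by decide +kernel
theorem t1692_rchk_365 : allR t1692_rf 197670 6 (365 * 2 ^ 6) = true := by decide +kernel
theorem t1692_rchk_366 : allR t1692_rf 197670 6 (366 * 2 ^ 6) = true := by decide +kernel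
theorem t1692_rchk_367 : allR t1692_rf 197670 6 (367 * 2 ^ 6) = true := by decide +kernel
theorem t1692_rchk_368 : allR t1692_rf 197670 6 (368 * 2 ^ 6) = true := by decide +kernel
theorem t1692_rchk_369 : allR t1692_rf 197670 6 (369 * 2 ^ 6) = true := by decide +kernel
theorem t1692_rchk_370 : allR t1692_rf 197670 6 (370 * 2 ^ 6) = true := by decide +kernel
theorem t1692_rchk_371 : allR t1692_rf 197670 6 (371 * 2 ^ 6) = true := by decide +kernel
theorem t1692_rchk_372 : allR t1692_rf 197670 6 (372 * 2 ^ 6) = true := by decide +kernel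
theorem t1692_rchk_373 : allR t1692_rf 197670 6 (373 * 2 ^ 6) = true := by decide +kernel
theorem t1692_rchk_374 : allR t1692_rf 197670 6 (374 * 2 ^ 6) = true := by decide +kernel
theorem t1692_rchk_375 : allR t1692_rf 197670 6 (375 * 2 ^ 6) = true := by decide +kernel
theorem t1692_rchk_376 : allR t1692_rf 197670 6 (376 * 2 ^ 6) = true := by decide +kernel
theorem t1692_rchk_377 : allR t1692_rf 197670 6 (377 * 2 ^ 6) = true := by decide +kernel
theorem t1692_rchk_378 : allR t1692_rf 197670 6 (378 * 2 ^ 6) = true := by decide +kernel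
theorem t1692_rchk_379 : allR t1692_rf 197670 6 (379 * 2 ^ 6) = true := by decide +kernel
theorem t1692_rchk_380 : allR t1692_rf 197670 6 (380 * 2 ^ 6) = true := by decide +kernel
theorem t1692_rchk_381 : allR t1692_rf 197670 6 (381 * 2 ^ 6) = true := by decide +kernel
theorem t1692_rchk_382 : allR t1692_rf 197670 6 (382 * 2 ^ 6) = true := by decide +kernel
theorem t1692_rchk_383 : allR t1692_rf 197670 6 (383 * 2 ^ 6) = true := by decide +kernel
theorem t1692_rchk_384 : allR t1692_rf 197670 6 (384 * 2 ^ 6) = true := by decide +kernel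
theorem t1692_rchk_385 : allR t1692_rf 197670 6 (385 * 2 ^ 6) = true := by decide +kernel
theorem t1692_rchk_386 : allR t1692_rf 197670 6 (386 * 2 ^ 6) = true := by decide +kernel
theorem t1692_rchk_387 : allR t1692_rf 197670 6 (387 * 2 ^ 6) = true := by decide +kernel
theorem t1692_rchk_388 : allR t1692_rf 197670 6 (388 * 2 ^ 6) = true := by decide +kernel
theorem t1692_rchk_389 : allR t1692_rf 197670 6 (389 * 2 ^ 6) = true := by decide +kernel
theorem t1692_rchk_390 : allR t1692_rf 197670 6 (390 * 2 ^ 6) = true := by decide +kernel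
theorem t1692_rchk_391 : allR t1692_rf 197670 6 (391 * 2 ^ 6) = true := by decide +kernel
theorem t1692_rchk_392 : allR t1692_rf 197670 6 (392 * 2 ^ 6) = true := by decide +kernel
theorem t1692_rchk_393 : allR t1692_rf 197670 6 (393 * 2 ^ 6) = true := by decide +kernel
theorem t1692_rchk_394 : allR t1692_rf 197670 6 (394 * 2 ^ 6) = true := by decide +kernel
theorem t1692_rchk_395 : allR t1692_rf 197670 6 (395 * 2 ^ 6) = true := by decide +kernel
theorem t1692_rchk_396 : allR t1692_rf 197670 6 (396 * 2 ^ 6) = true := by decide +kernel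
theorem t1692_rchk_397 : allR t1692_rf 197670 6 (397 * 2 ^ 6) = true := by decide +kernel
theorem t1692_rchk_398 : allR t1692_rf 197670 6 (398 * 2 ^ 6) = true := by decide +kernel
theorem t1692_rchk_399 : allR t1692_rf 197670 6 (399 * 2 ^ 6) = true := by decide +kernel

theorem t1692_rfile_4 : ∀ k, k < 400 → 320 ≤ k → allR t1692_rf 197670 6 (k * 2 ^ 6) = true := by
  intro k h1 h2
  interval_cases k
  · exact t1692_rchk_320
  · exact t1692_rchk_321
  · exact t1692_rchk_322
  · exact t1692_rchk_323
  · exact t1692_rchk_324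
  · exact t1692_rchk_325
  · exact t1692_rchk_326
  · exact t1692_rchk_327
  · exact t1692_rchk_328
  · exact t1692_rchk_329
  · exact t1692_rchk_330
  · exact t1692_rchk_331
  · exact t1692_rchk_332
  · exact t1692_rchk_333
  · exact t1692_rchk_334
  · exact t1692_rchk_335
  · exact t1692_rchk_336
  · exact t1692_rchk_337
  · exact t1692_rchk_338
  · exact t1692_rchk_339
  · exact t1692_rchk_340
  · exact t1692_rchk_341
  · exact t1692_rchk_342
  · exact t1692_rchk_343
  · exact t1692_rchk_344
  · exact t1692_rchk_345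
  · exact t1692_rchk_346
  · exact t1692_rchk_347
  · exact t1692_rchk_348
  · exact t1692_rchk_349
  · exact t1692_rchk_350
  · exact t1692_rchk_351
  · exact t1692_rchk_352
  · exact t1692_rchk_353
  · exact t1692_rchk_354
  · exact t1692_rchk_355
  · exact t1692_rchk_356
  · exact t1692_rchk_357
  · exact t1692_rchk_358
  · exact t1692_rchk_359
  · exact t1692_rchk_360
  · exact t1692_rchk_361
  · exact t1692_rchk_362
  · exact t1692_rchk_363
  · exact t1692_rchk_364
  · exact t1692_rchk_365
  · exact t1692_rchk_366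
  · exact t1692_rchk_367
  · exact t1692_rchk_368
  · exact t1692_rchk_369
  · exact t1692_rchk_370
  · exact t1692_rchk_371
  · exact t1692_rchk_372
  · exact t1692_rchk_373
  · exact t1692_rchk_374
  · exact t1692_rchk_375
  · exact t1692_rchk_376
  · exact t1692_rchk_377
  · exact t1692_rchk_378
  · exact t1692_rchk_379
  · exact t1692_rchk_380
  · exact t1692_rchk_381
  · exact t1692_rchk_382
  · exact t1692_rchk_383
  · exact t1692_rchk_384
  · exact t1692_rchk_385
  · exact t1692_rchk_386
  · exact t1692_rchk_387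
  · exact t1692_rchk_388
  · exact t1692_rchk_389
  · exact t1692_rchk_390
  · exact t1692_rchk_391
  · exact t1692_rchk_392
  · exact t1692_rchk_393
  · exact t1692_rchk_394
  · exact t1692_rchk_395
  · exact t1692_rchk_396
  · exact t1692_rchk_397
  · exact t1692_rchk_398
  · exact t1692_rchk_399

end Cfsg.Agent.H35
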