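import Cfsg.Agent.H35.T1692.RTab

set_option autoImplicit false
set_option linter.all false
set_option Elab.async false

namespace Cfsg.Agent.H35

theorem t1692_rchk_400 : allR t1692_rf 197670 6 (400 * 2 ^ 6) = true := by decide +kernel
theorem t1692_rchk_401 : allR t1692_rf 197670 6 (401 * 2 ^ 6) = true := by decide +kernel
theorem t1692_rchk_402 : allR t1692_rf 197670 6 (402 * 2 ^ 6) = true := by decide +kernel
theorem t1692_rchk_403 : allR t1692_rf 197670 6 (403 * 2 ^ 6) = true := by decide +kernel
theorem t1692_rchk_404 : allR t1692_rf 197670 6 (404 * 2 ^ 6) = true := by decide +kernel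
theorem t1692_rchk_405 : allR t1692_rf 197670 6 (405 * 2 ^ 6) = true := by decide +kernel
theorem t1692_rchk_406 : allR t1692_rf 197670 6 (406 * 2 ^ 6) = true := by decide +kernel
theorem t1692_rchk_407 : allR t1692_rf 197670 6 (407 * 2 ^ 6) = true := by decide +kernel
theorem t1692_rchk_408 : allR t1692_rf 197670 6 (408 * 2 ^ 6) = true := by decide +kernel
theorem t1692_rchk_409 : allR t1692_rf 197670 6 (409 * 2 ^ 6) = true := by decide +kernel
theorem t1692_rchk_410 : allR t1692_rf 197670 6 (410 * 2 ^ 6) = true := by decide +kernel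
theorem t1692_rchk_411 : allR t1692_rf 197670 6 (411 * 2 ^ 6) = true := by decide +kernel
theorem t1692_rchk_412 : allR t1692_rf 197670 6 (412 * 2 ^ 6) = true := by decide +kernel
theorem t1692_rchk_413 : allR t1692_rf 197670 6 (413 * 2 ^ 6) = true := by decide +kernel
theorem t1692_rchk_414 : allR t1692_rf 197670 6 (414 * 2 ^ 6) = true := by decide +kernel
theorem t1692_rchk_415 : allR t1692_rf 197670 6 (415 * 2 ^ 6) = true := by decide +kernel
theorem t1692_rchk_416 : allR t1692_rf 197670 6 (416 * 2 ^ 6) = true := by decide +kernel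
theorem t1692_rchk_417 : allR t1692_rf 197670 6 (417 * 2 ^ 6) = true := by decide +kernel
theorem t1692_rchk_418 : allR t1692_rf 197670 6 (418 * 2 ^ 6) = true := by decide +kernel
theorem t1692_rchk_419 : allR t1692_rf 197670 6 (419 * 2 ^ 6) = true := by decide +kernel
theorem t1692_rchk_420 : allR t1692_rf 197670 6 (420 * 2 ^ 6) = true := by decide +kernel
theorem t1692_rchk_421 : allR t1692_rf 197670 6 (421 * 2 ^ 6) = true := by decide +kernel
theorem t1692_rchk_422 : allR t1692_rf 197670 6 (422 * 2 ^ 6) = true := by decide +kernel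
theorem t1692_rchk_423 : allR t1692_rf 197670 6 (423 * 2 ^ 6) = true := by decide +kernel
theorem t1692_rchk_424 : allR t1692_rf 197670 6 (424 * 2 ^ 6) = true := by decide +kernel
theorem t1692_rchk_425 : allR t1692_rf 197670 6 (425 * 2 ^ 6) = true := by decide +kernel
theorem t1692_rchk_426 : allR t1692_rf 197670 6 (426 * 2 ^ 6) = true := by decide +kernel
theorem t1692_rchk_427 : allR t1692_rf 197670 6 (427 * 2 ^ 6) = true := by decide +kernel
theorem t1692_rchk_428 : allR t1692_rf 197670 6 (428 * 2 ^ 6) = true := by decide +kernel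
theorem t1692_rchk_429 : allR t1692_rf 197670 6 (429 * 2 ^ 6) = true := by decide +kernel
theorem t1692_rchk_430 : allR t1692_rf 197670 6 (430 * 2 ^ 6) = true := by decide +kernel
theorem t1692_rchk_431 : allR t1692_rf 197670 6 (431 * 2 ^ 6) = true := by decide +kernel
theorem t1692_rchk_432 : allR t1692_rf 197670 6 (432 * 2 ^ 6) = true := by decide +kernel
theorem t1692_rchk_433 : allR t1692_rf 197670 6 (433 * 2 ^ 6) = true := by decide +kernel
theorem t1692_rchk_434 : allR t1692_rf 197670 6 (434 * 2 ^ 6) = true := by decide +kernel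
theorem t1692_rchk_435 : allR t1692_rf 197670 6 (435 * 2 ^ 6) = true := by decide +kernel
theorem t1692_rchk_436 : allR t1692_rf 197670 6 (436 * 2 ^ 6) = true := by decide +kernel
theorem t1692_rchk_437 : allR t1692_rf 197670 6 (437 * 2 ^ 6) = true := by decide +kernel
theorem t1692_rchk_438 : allR t1692_rf 197670 6 (438 * 2 ^ 6) = true := by decide +kernel
theorem t1692_rchk_439 : allR t1692_rf 197670 6 (439 * 2 ^ 6) = true := by decide +kernel
theorem t1692_rchk_440 : allR t1692_rf 197670 6 (440 * 2 ^ 6) = true := by decide +kernel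
theorem t1692_rchk_441 : allR t1692_rf 197670 6 (441 * 2 ^ 6) = true := by decide +kernel
theorem t1692_rchk_442 : allR t1692_rf 197670 6 (442 * 2 ^ 6) = true := by decide +kernel
theorem t1692_rchk_443 : allR t1692_rf 197670 6 (443 * 2 ^ 6) = true := by decide +kernel
theorem t1692_rchk_444 : allR t1692_rf 197670 6 (444 * 2 ^ 6) = true := by decide +kernel
theorem t1692_rchk_445 : allR t1692_rf 197670 6 (445 * 2 ^ 6) = true := by decide +kernel
theorem t1692_rchk_446 : allR t1692_rf 197670 6 (446 * 2 ^ 6) = true := by decide +kernel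
theorem t1692_rchk_447 : allR t1692_rf 197670 6 (447 * 2 ^ 6) = true := by decide +kernel
theorem t1692_rchk_448 : allR t1692_rf 197670 6 (448 * 2 ^ 6) = true := by decide +kernel
theorem t1692_rchk_449 : allR t1692_rf 197670 6 (449 * 2 ^ 6) = true := by decide +kernel
theorem t1692_rchk_450 : allR t1692_rf 197670 6 (450 * 2 ^ 6) = true := by decide +kernel
theorem t1692_rchk_451 : allR t1692_rf 197670 6 (451 * 2 ^ 6) = true := by decide +kernel
theorem t1692_rchk_452 : allR t1692_rf 197670 6 (452 * 2 ^ 6) = true := by decide +kernel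
theorem t1692_rchk_453 : allR t1692_rf 197670 6 (453 * 2 ^ 6) = true := by decide +kernel
theorem t1692_rchk_454 : allR t1692_rf 197670 6 (454 * 2 ^ 6) = true := by decide +kernel
theorem t1692_rchk_455 : allR t1692_rf 197670 6 (455 * 2 ^ 6) = true := by decide +kernel
theorem t1692_rchk_456 : allR t1692_rf 197670 6 (456 * 2 ^ 6) = true := by decide +kernel
theorem t1692_rchk_457 : allR t1692_rf 197670 6 (457 * 2 ^ 6) = true := by decide +kernel
theorem t1692_rchk_458 : allR t1692_rf 197670 6 (458 * 2 ^ 6) = true := by decide +kernel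
theorem t1692_rchk_459 : allR t1692_rf 197670 6 (459 * 2 ^ 6) = true := by decide +kernel
theorem t1692_rchk_460 : allR t1692_rf 197670 6 (460 * 2 ^ 6) = true := by decide +kernel
theorem t1692_rchk_461 : allR t1692_rf 197670 6 (461 * 2 ^ 6) = true := by decide +kernel
theorem t1692_rchk_462 : allR t1692_rf 197670 6 (462 * 2 ^ 6) = true := by decide +kernel
theorem t1692_rchk_463 : allR t1692_rf 197670 6 (463 * 2 ^ 6) = true := by decide +kernel
theorem t1692_rchk_464 : allR t1692_rf 197670 6 (464 * 2 ^ 6) = true := by decide +kernel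
theorem t1692_rchk_465 : allR t1692_rf 197670 6 (465 * 2 ^ 6) = true := by decide +kernel
theorem t1692_rchk_466 : allR t1692_rf 197670 6 (466 * 2 ^ 6) = true := by decide +kernel
theorem t1692_rchk_467 : allR t1692_rf 197670 6 (467 * 2 ^ 6) = true := by decide +kernel
theorem t1692_rchk_468 : allR t1692_rf 197670 6 (468 * 2 ^ 6) = true := by decide +kernel
theorem t1692_rchk_469 : allR t1692_rf 197670 6 (469 * 2 ^ 6) = true := by decide +kernel
theorem t1692_rchk_470 : allR t1692_rf 197670 6 (470 * 2 ^ 6) = true := by decide +kernel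
theorem t1692_rchk_471 : allR t1692_rf 197670 6 (471 * 2 ^ 6) = true := by decide +kernel
theorem t1692_rchk_472 : allR t1692_rf 197670 6 (472 * 2 ^ 6) = true := by decide +kernel
theorem t1692_rchk_473 : allR t1692_rf 197670 6 (473 * 2 ^ 6) = true := by decide +kernel
theorem t1692_rchk_474 : allR t1692_rf 197670 6 (474 * 2 ^ 6) = true := by decide +kernel
theorem t1692_rchk_475 : allR t1692_rf 197670 6 (475 * 2 ^ 6) = true := by decide +kernel
theorem t1692_rchk_476 : allR t1692_rf 197670 6 (476 * 2 ^ 6) = true := by decide +kernel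
theorem t1692_rchk_477 : allR t1692_rf 197670 6 (477 * 2 ^ 6) = true := by decide +kernel
theorem t1692_rchk_478 : allR t1692_rf 197670 6 (478 * 2 ^ 6) = true := by decide +kernel
theorem t1692_rchk_479 : allR t1692_rf 197670 6 (479 * 2 ^ 6) = true := by decide +kernel

theorem t1692_rfile_5 : ∀ k, k < 480 → 400 ≤ k → allR t1692_rf 197670 6 (k * 2 ^ 6) = true := by
  intro k h1 h2
  interval_cases k
  · exact t1692_rchk_400
  · exact t1692_rchk_401
  · exact t1692_rchk_402
  · exact t1692_rchk_403
  · exact t1692_rchk_404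
  · exact t1692_rchk_405
  · exact t1692_rchk_406
  · exact t1692_rchk_407
  · exact t1692_rchk_408
  · exact t1692_rchk_409
  · exact t1692_rchk_410
  · exact t1692_rchk_411
  · exact t1692_rchk_412
  · exact t1692_rchk_413
  · exact t1692_rchk_414
  · exact t1692_rchk_415
  · exact t1692_rchk_416
  · exact t1692_rchk_417
  · exact t1692_rchk_418
  · exact t1692_rchk_419
  · exact t1692_rchk_420
  · exact t1692_rchk_421
  · exact t1692_rchk_422
  · exact t1692_rchk_423
  · exact t1692_rchk_424
  · exact t1692_rchk_425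
  · exact t1692_rchk_426
  · exact t1692_rchk_427
  · exact t1692_rchk_428
  · exact t1692_rchk_429
  · exact t1692_rchk_430
  · exact t1692_rchk_431
  · exact t1692_rchk_432
  · exact t1692_rchk_433
  · exact t1692_rchk_434
  · exact t1692_rchk_435
  · exact t1692_rchk_436
  · exact t1692_rchk_437
  · exact t1692_rchk_438
  · exact t1692_rchk_439
  · exact t1692_rchk_440
  · exact t1692_rchk_441
  · exact t1692_rchk_442
  · exact t1692_rchk_443
  · exact t1692_rchk_444
  · exact t1692_rchk_445
  · exact t1692_rchk_446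
  · exact t1692_rchk_447
  · exact t1692_rchk_448
  · exact t1692_rchk_449
  · exact t1692_rchk_450
  · exact t1692_rchk_451
  · exact t1692_rchk_452
  · exact t1692_rchk_453
  · exact t1692_rchk_454
  · exact t1692_rchk_455
  · exact t1692_rchk_456
  · exact t1692_rchk_457
  · exact t1692_rchk_458
  · exact t1692_rchk_459
  · exact t1692_rchk_460
  · exact t1692_rchk_461
  · exact t1692_rchk_462
  · exact t1692_rchk_463
  · exact t1692_rchk_464
  · exact t1692_rchk_465
  · exact t1692_rchk_466
  · exact t1692_rchk_467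
  · exact t1692_rchk_468
  · exact t1692_rchk_469
  · exact t1692_rchk_470
  · exact t1692_rchk_471
  · exact t1692_rchk_472
  · exact t1692_rchk_473
  · exact t1692_rchk_474
  · exact t1692_rchk_475
  · exact t1692_rchk_476
  · exact t1692_rchk_477
  · exact t1692_rchk_478
  · exact t1692_rchk_479

end Cfsg.Agent.H35
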