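import Cfsg.Agent.H35.T1692.RTab

set_option autoImplicit false
set_option linter.all false
set_option Elab.async false

namespace Cfsg.Agent.H35

theorem t1692_rchk_720 : allR t1692_rf 197670 6 (720 * 2 ^ 6) = true := by decide +kernel
theorem t1692_rchk_721 : allR t1692_rf 197670 6 (721 * 2 ^ 6) = true := by decide +kernel
theorem t1692_rchk_722 : allR t1692_rf 197670 6 (722 * 2 ^ 6) = true := by decide +kernel
theorem t1692_rchk_723 : allR t1692_rf 197670 6 (723 * 2 ^ 6) = true := by decide +kernel
theorem t1692_rchk_724 : allR t1692_rf 197670 6 (724 * 2 ^ 6) = true := by decide +kernel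
theorem t1692_rchk_725 : allR t1692_rf 197670 6 (725 * 2 ^ 6) = true := by decide +kernel
theorem t1692_rchk_726 : allR t1692_rf 197670 6 (726 * 2 ^ 6) = true := by decide +kernel
theorem t1692_rchk_727 : allR t1692_rf 197670 6 (727 * 2 ^ 6) = true := by decide +kernel
theorem t1692_rchk_728 : allR t1692_rf 197670 6 (728 * 2 ^ 6) = true := by decide +kernel
theorem t1692_rchk_729 : allR t1692_rf 197670 6 (729 * 2 ^ 6) = true := by decide +kernel
theorem t1692_rchk_730 : allR t1692_rf 197670 6 (730 * 2 ^ 6) = true := by decide +kernel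
theorem t1692_rchk_731 : allR t1692_rf 197670 6 (731 * 2 ^ 6) = true := by decide +kernel
theorem t1692_rchk_732 : allR t1692_rf 197670 6 (732 * 2 ^ 6) = true := by decide +kernel
theorem t1692_rchk_733 : allR t1692_rf 197670 6 (733 * 2 ^ 6) = true := by decide +kernel
theorem t1692_rchk_734 : allR t1692_rf 197670 6 (734 * 2 ^ 6) = true := by decide +kernel
theorem t1692_rchk_735 : allR t1692_rf 197670 6 (735 * 2 ^ 6) = true := by decide +kernel
theorem t1692_rchk_736 : allR t1692_rf 197670 6 (736 * 2 ^ 6) = true := by decide +kernel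
theorem t1692_rchk_737 : allR t1692_rf 197670 6 (737 * 2 ^ 6) = true := by decide +kernel
theorem t1692_rchk_738 : allR t1692_rf 197670 6 (738 * 2 ^ 6) = true := by decide +kernel
theorem t1692_rchk_739 : allR t1692_rf 197670 6 (739 * 2 ^ 6) = true := by decide +kernel
theorem t1692_rchk_740 : allR t1692_rf 197670 6 (740 * 2 ^ 6) = true := by decide +kernel
theorem t1692_rchk_741 : allR t1692_rf 197670 6 (741 * 2 ^ 6) = true := by decide +kernel
theorem t1692_rchk_742 : allR t1692_rf 197670 6 (742 * 2 ^ 6) = true := by decide +kernel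
theorem t1692_rchk_743 : allR t1692_rf 197670 6 (743 * 2 ^ 6) = true := by decide +kernel
theorem t1692_rchk_744 : allR t1692_rf 197670 6 (744 * 2 ^ 6) = true := by decide +kernel
theorem t1692_rchk_745 : allR t1692_rf 197670 6 (745 * 2 ^ 6) = true := by decide +kernel
theorem t1692_rchk_746 : allR t1692_rf 197670 6 (746 * 2 ^ 6) = true := by decide +kernel
theorem t1692_rchk_747 : allR t1692_rf 197670 6 (747 * 2 ^ 6) = true := by decide +kernel
theorem t1692_rchk_748 : allR t1692_rf 197670 6 (748 * 2 ^ 6) = true := by decide +kernel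
theorem t1692_rchk_749 : allR t1692_rf 197670 6 (749 * 2 ^ 6) = true := by decide +kernel
theorem t1692_rchk_750 : allR t1692_rf 197670 6 (750 * 2 ^ 6) = true := by decide +kernel
theorem t1692_rchk_751 : allR t1692_rf 197670 6 (751 * 2 ^ 6) = true := by decide +kernel
theorem t1692_rchk_752 : allR t1692_rf 197670 6 (752 * 2 ^ 6) = true := by decide +kernel
theorem t1692_rchk_753 : allR t1692_rf 197670 6 (753 * 2 ^ 6) = true := by decide +kernel
theorem t1692_rchk_754 : allR t1692_rf 197670 6 (754 * 2 ^ 6) = true := by decide +kernel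
theorem t1692_rchk_755 : allR t1692_rf 197670 6 (755 * 2 ^ 6) = true := by decide +kernel
theorem t1692_rchk_756 : allR t1692_rf 197670 6 (756 * 2 ^ 6) = true := by decide +kernel
theorem t1692_rchk_757 : allR t1692_rf 197670 6 (757 * 2 ^ 6) = true := by decide +kernel
theorem t1692_rchk_758 : allR t1692_rf 197670 6 (758 * 2 ^ 6) = true := by decide +kernel
theorem t1692_rchk_759 : allR t1692_rf 197670 6 (759 * 2 ^ 6) = true := by decide +kernel
theorem t1692_rchk_760 : allR t1692_rf 197670 6 (760 * 2 ^ 6) = true := by decide +kernel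
theorem t1692_rchk_761 : allR t1692_rf 197670 6 (761 * 2 ^ 6) = true := by decide +kernel
theorem t1692_rchk_762 : allR t1692_rf 197670 6 (762 * 2 ^ 6) = true := by decide +kernel
theorem t1692_rchk_763 : allR t1692_rf 197670 6 (763 * 2 ^ 6) = true := by decide +kernel
theorem t1692_rchk_764 : allR t1692_rf 197670 6 (764 * 2 ^ 6) = true := by decide +kernel
theorem t1692_rchk_765 : allR t1692_rf 197670 6 (765 * 2 ^ 6) = true := by decide +kernel
theorem t1692_rchk_766 : allR t1692_rf 197670 6 (766 * 2 ^ 6) = true := by decide +kernel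
theorem t1692_rchk_767 : allR t1692_rf 197670 6 (767 * 2 ^ 6) = true := by decide +kernel
theorem t1692_rchk_768 : allR t1692_rf 197670 6 (768 * 2 ^ 6) = true := by decide +kernel
theorem t1692_rchk_769 : allR t1692_rf 197670 6 (769 * 2 ^ 6) = true := by decide +kernel
theorem t1692_rchk_770 : allR t1692_rf 197670 6 (770 * 2 ^ 6) = true := by decide +kernel
theorem t1692_rchk_771 : allR t1692_rf 197670 6 (771 * 2 ^ 6) = true := by decide +kernel
theorem t1692_rchk_772 : allR t1692_rf 197670 6 (772 * 2 ^ 6) = true := by decide +kernel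
theorem t1692_rchk_773 : allR t1692_rf 197670 6 (773 * 2 ^ 6) = true := by decide +kernel
theorem t1692_rchk_774 : allR t1692_rf 197670 6 (774 * 2 ^ 6) = true := by decide +kernel
theorem t1692_rchk_775 : allR t1692_rf 197670 6 (775 * 2 ^ 6) = true := by decide +kernel
theorem t1692_rchk_776 : allR t1692_rf 197670 6 (776 * 2 ^ 6) = true := by decide +kernel
theorem t1692_rchk_777 : allR t1692_rf 197670 6 (777 * 2 ^ 6) = true := by decide +kernel
theorem t1692_rchk_778 : allR t1692_rf 197670 6 (778 * 2 ^ 6) = true := by decide +kernel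
theorem t1692_rchk_779 : allR t1692_rf 197670 6 (779 * 2 ^ 6) = true := by decide +kernel
theorem t1692_rchk_780 : allR t1692_rf 197670 6 (780 * 2 ^ 6) = true := by decide +kernel
theorem t1692_rchk_781 : allR t1692_rf 197670 6 (781 * 2 ^ 6) = true := by decide +kernel
theorem t1692_rchk_782 : allR t1692_rf 197670 6 (782 * 2 ^ 6) = true := by decide +kernel
theorem t1692_rchk_783 : allR t1692_rf 197670 6 (783 * 2 ^ 6) = true := by decide +kernel
theorem t1692_rchk_784 : allR t1692_rf 197670 6 (784 * 2 ^ 6) = true := by decide +kernel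
theorem t1692_rchk_785 : allR t1692_rf 197670 6 (785 * 2 ^ 6) = true := by decide +kernel
theorem t1692_rchk_786 : allR t1692_rf 197670 6 (786 * 2 ^ 6) = true := by decide +kernel
theorem t1692_rchk_787 : allR t1692_rf 197670 6 (787 * 2 ^ 6) = true := by decide +kernel
theorem t1692_rchk_788 : allR t1692_rf 197670 6 (788 * 2 ^ 6) = true := by decide +kernel
theorem t1692_rchk_789 : allR t1692_rf 197670 6 (789 * 2 ^ 6) = true := by decide +kernel
theorem t1692_rchk_790 : allR t1692_rf 197670 6 (790 * 2 ^ 6) = true := by decide +kernel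
theorem t1692_rchk_791 : allR t1692_rf 197670 6 (791 * 2 ^ 6) = true := by decide +kernel
theorem t1692_rchk_792 : allR t1692_rf 197670 6 (792 * 2 ^ 6) = true := by decide +kernel
theorem t1692_rchk_793 : allR t1692_rf 197670 6 (793 * 2 ^ 6) = true := by decide +kernel
theorem t1692_rchk_794 : allR t1692_rf 197670 6 (794 * 2 ^ 6) = true := by decide +kernel
theorem t1692_rchk_795 : allR t1692_rf 197670 6 (795 * 2 ^ 6) = true := by decide +kernel
theorem t1692_rchk_796 : allR t1692_rf 197670 6 (796 * 2 ^ 6) = true := by decide +kernel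
theorem t1692_rchk_797 : allR t1692_rf 197670 6 (797 * 2 ^ 6) = true := by decide +kernel
theorem t1692_rchk_798 : allR t1692_rf 197670 6 (798 * 2 ^ 6) = true := by decide +kernel
theorem t1692_rchk_799 : allR t1692_rf 197670 6 (799 * 2 ^ 6) = true := by decide +kernel

theorem t1692_rfile_9 : ∀ k, k < 800 → 720 ≤ k → allR t1692_rf 197670 6 (k * 2 ^ 6) = true := by
  intro k h1 h2
  interval_cases k
  · exact t1692_rchk_720
  · exact t1692_rchk_721
  · exact t1692_rchk_722
  · exact t1692_rchk_723
  · exact t1692_rchk_724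
  · exact t1692_rchk_725
  · exact t1692_rchk_726
  · exact t1692_rchk_727
  · exact t1692_rchk_728
  · exact t1692_rchk_729
  · exact t1692_rchk_730
  · exact t1692_rchk_731
  · exact t1692_rchk_732
  · exact t1692_rchk_733
  · exact t1692_rchk_734
  · exact t1692_rchk_735
  · exact t1692_rchk_736
  · exact t1692_rchk_737
  · exact t1692_rchk_738
  · exact t1692_rchk_739
  · exact t1692_rchk_740
  · exact t1692_rchk_741
  · exact t1692_rchk_742
  · exact t1692_rchk_743
  · exact t1692_rchk_744
  · exact t1692_rchk_745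
  · exact t1692_rchk_746
  · exact t1692_rchk_747
  · exact t1692_rchk_748
  · exact t1692_rchk_749
  · exact t1692_rchk_750
  · exact t1692_rchk_751
  · exact t1692_rchk_752
  · exact t1692_rchk_753
  · exact t1692_rchk_754
  · exact t1692_rchk_755
  · exact t1692_rchk_756
  · exact t1692_rchk_757
  · exact t1692_rchk_758
  · exact t1692_rchk_759
  · exact t1692_rchk_760
  · exact t1692_rchk_761
  · exact t1692_rchk_762
  · exact t1692_rchk_763
  · exact t1692_rchk_764
  · exact t1692_rchk_765
  · exact t1692_rchk_766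
  · exact t1692_rchk_767
  · exact t1692_rchk_768
  · exact t1692_rchk_769
  · exact t1692_rchk_770
  · exact t1692_rchk_771
  · exact t1692_rchk_772
  · exact t1692_rchk_773
  · exact t1692_rchk_774
  · exact t1692_rchk_775
  · exact t1692_rchk_776
  · exact t1692_rchk_777
  · exact t1692_rchk_778
  · exact t1692_rchk_779
  · exact t1692_rchk_780
  · exact t1692_rchk_781
  · exact t1692_rchk_782
  · exact t1692_rchk_783
  · exact t1692_rchk_784
  · exact t1692_rchk_785
  · exact t1692_rchk_786
  · exact t1692_rchk_787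
  · exact t1692_rchk_788
  · exact t1692_rchk_789
  · exact t1692_rchk_790
  · exact t1692_rchk_791
  · exact t1692_rchk_792
  · exact t1692_rchk_793
  · exact t1692_rchk_794
  · exact t1692_rchk_795
  · exact t1692_rchk_796
  · exact t1692_rchk_797
  · exact t1692_rchk_798
  · exact t1692_rchk_799

end Cfsg.Agent.H35
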