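import Cfsg.Agent.H35.T1692.RChk0
import Cfsg.Agent.H35.T1692.RChk1
import Cfsg.Agent.H35.T1692.RChk2
import Cfsg.Agent.H35.T1692.RChk3
import Cfsg.Agent.H35.T1692.RChk4
import Cfsg.Agent.H35.T1692.RChk5
import Cfsg.Agent.H35.T1692.RChk6
import Cfsg.Agent.H35.T1692.RChk7
import Cfsg.Agent.H35.T1692.RChk8
import Cfsg.Agent.H35.T1692.RChk9
import Cfsg.Agent.H35.T1692.RChk10
import Cfsg.Agent.H35.T1692.RChk11
import Cfsg.Agent.H35.T1692.RChk12
import Cfsg.Agent.H35.T1692.RChk13
import Cfsg.Agent.H35.T1692.RChk14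
import Cfsg.Agent.H35.T1692.RChk15
import Cfsg.Agent.H35.T1692.RChk16
import Cfsg.Agent.H35.T1692.RChk17
import Cfsg.Agent.H35.T1692.RChk18
import Cfsg.Agent.H35.T1692.RChk19
import Cfsg.Agent.H35.T1692.RChk20
import Cfsg.Agent.H35.T1692.RChk21
import Cfsg.Agent.H35.T1692.RChk22
import Cfsg.Agent.H35.T1692.RChk23
import Cfsg.Agent.H35.T1692.RChk24
import Cfsg.Agent.H35.T1692.RChk25
import Cfsg.Agent.H35.T1692.RChk26
import Cfsg.Agent.H35.T1692.RChk27
import Cfsg.Agent.H35.T1692.RChk28
import Cfsg.Agent.H35.T1692.RChk29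
import Cfsg.Agent.H35.T1692.RChk30
import Cfsg.Agent.H35.T1692.RChk31
import Cfsg.Agent.H35.T1692.RChk32
import Cfsg.Agent.H35.T1692.RChk33
import Cfsg.Agent.H35.T1692.RChk34
import Cfsg.Agent.H35.T1692.RChk35
import Cfsg.Agent.H35.T1692.RChk36
import Cfsg.Agent.H35.T1692.RChk37
import Cfsg.Agent.H35.T1692.RChk38

set_option autoImplicit false
set_option linter.all false

namespace Cfsg.Agent.H35

theorem t1692_rall : ∀ p, p < 197670 → t1692_rf p = true := by
  apply allR_blocks t1692_rf 197670 6 3089 _ (by decide)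
  intro k hk
  by_cases h0 : k < 80
  · exact t1692_rfile_0 k h0 (by omega)
  by_cases h1 : k < 160
  · exact t1692_rfile_1 k h1 (by omega)
  by_cases h2 : k < 240
  · exact t1692_rfile_2 k h2 (by omega)
  by_cases h3 : k < 320
  · exact t1692_rfile_3 k h3 (by omega)
  by_cases h4 : k < 400
  · exact t1692_rfile_4 k h4 (by omega)
  by_cases h5 : k < 480
  · exact t1692_rfile_5 k h5 (by omega)
  by_cases h6 : k < 560
  · exact t1692_rfile_6 k h6 (by omega)
  by_cases h7 : k < 640
  · exact t1692_rfile_7 k h7 (by omega)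
  by_cases h8 : k < 720
  · exact t1692_rfile_8 k h8 (by omega)
  by_cases h9 : k < 800
  · exact t1692_rfile_9 k h9 (by omega)
  by_cases h10 : k < 880
  · exact t1692_rfile_10 k h10 (by omega)
  by_cases h11 : k < 960
  · exact t1692_rfile_11 k h11 (by omega)
  by_cases h12 : k < 1040
  · exact t1692_rfile_12 k h12 (by omega)
  by_cases h13 : k < 1120
  · exact t1692_rfile_13 k h13 (by omega)
  by_cases h14 : k < 1200
  · exact t1692_rfile_14 k h14 (by omega)
  by_cases h15 : k < 1280
  · exact t1692_rfile_15 k h15 (by omega)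
  by_cases h16 : k < 1360
  · exact t1692_rfile_16 k h16 (by omega)
  by_cases h17 : k < 1440
  · exact t1692_rfile_17 k h17 (by omega)
  by_cases h18 : k < 1520
  · exact t1692_rfile_18 k h18 (by omega)
  by_cases h19 : k < 1600
  · exact t1692_rfile_19 k h19 (by omega)
  by_cases h20 : k < 1680
  · exact t1692_rfile_20 k h20 (by omega)
  by_cases h21 : k < 1760
  · exact t1692_rfile_21 k h21 (by omega)
  by_cases h22 : k < 1840
  · exact t1692_rfile_22 k h22 (by omega)
  by_cases h23 : k < 1920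
  · exact t1692_rfile_23 k h23 (by omega)
  by_cases h24 : k < 2000
  · exact t1692_rfile_24 k h24 (by omega)
  by_cases h25 : k < 2080
  · exact t1692_rfile_25 k h25 (by omega)
  by_cases h26 : k < 2160
  · exact t1692_rfile_26 k h26 (by omega)
  by_cases h27 : k < 2240
  · exact t1692_rfile_27 k h27 (by omega)
  by_cases h28 : k < 2320
  · exact t1692_rfile_28 k h28 (by omega)
  by_cases h29 : k < 2400
  · exact t1692_rfile_29 k h29 (by omega)
  by_cases h30 : k < 2480
  · exact t1692_rfile_30 k h30 (by omega)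
  by_cases h31 : k < 2560
  · exact t1692_rfile_31 k h31 (by omega)
  by_cases h32 : k < 2640
  · exact t1692_rfile_32 k h32 (by omega)
  by_cases h33 : k < 2720
  · exact t1692_rfile_33 k h33 (by omega)
  by_cases h34 : k < 2800
  · exact t1692_rfile_34 k h34 (by omega)
  by_cases h35 : k < 2880
  · exact t1692_rfile_35 k h35 (by omega)
  by_cases h36 : k < 2960
  · exact t1692_rfile_36 k h36 (by omega)
  by_cases h37 : k < 3040
  · exact t1692_rfile_37 k h37 (by omega)
  by_cases h38 : k < 3089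
  · exact t1692_rfile_38 k h38 (by omega)
  exact absurd hk (by omega)

theorem t1692_circ_ok : NI.circChk on_gv on_full t1692_circT 0 t1692_ccert = true := by decide +kernel
theorem t1692_hc_ok : allR (fun c => NI.hcChk t1692_rsw t1692_hc1T t1692_hc2T c) 6 3 0 = true := by decide +kernel
theorem t1692_h0 : NI.RData.aord (t1692_rd.ent 0 1) = 0 := by decide +kernel

end Cfsg.Agent.H35
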