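import Cfsg.Agent.H35.T1692.RTab

set_option autoImplicit false
set_option linter.all false
set_option Elab.async false

namespace Cfsg.Agent.H35

theorem t1692_rchk_0 : allR t1692_rf 197670 6 (0 * 2 ^ 6) = true := by decide +kernel
theorem t1692_rchk_1 : allR t1692_rf 197670 6 (1 * 2 ^ 6) = true := by decide +kernel
theorem t1692_rchk_2 : allR t1692_rf 197670 6 (2 * 2 ^ 6) = true := by decide +kernel
theorem t1692_rchk_3 : allR t1692_rf 197670 6 (3 * 2 ^ 6) = true := by decide +kernel
theorem t1692_rchk_4 : allR t1692_rf 197670 6 (4 * 2 ^ 6) = true := by decide +kernel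
theorem t1692_rchk_5 : allR t1692_rf 197670 6 (5 * 2 ^ 6) = true := by decide +kernel
theorem t1692_rchk_6 : allR t1692_rf 197670 6 (6 * 2 ^ 6) = true := by decide +kernel
theorem t1692_rchk_7 : allR t1692_rf 197670 6 (7 * 2 ^ 6) = true := by decide +kernel
theorem t1692_rchk_8 : allR t1692_rf 197670 6 (8 * 2 ^ 6) = true := by decide +kernel
theorem t1692_rchk_9 : allR t1692_rf 197670 6 (9 * 2 ^ 6) = true := by decide +kernel
theorem t1692_rchk_10 : allR t1692_rf 197670 6 (10 * 2 ^ 6) = true := by decide +kernel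
theorem t1692_rchk_11 : allR t1692_rf 197670 6 (11 * 2 ^ 6) = true := by decide +kernel
theorem t1692_rchk_12 : allR t1692_rf 197670 6 (12 * 2 ^ 6) = true := by decide +kernel
theorem t1692_rchk_13 : allR t1692_rf 197670 6 (13 * 2 ^ 6) = true := by decide +kernel
theorem t1692_rchk_14 : allR t1692_rf 197670 6 (14 * 2 ^ 6) = true := by decide +kernel
theorem t1692_rchk_15 : allR t1692_rf 197670 6 (15 * 2 ^ 6) = true := by decide +kernel
theorem t1692_rchk_16 : allR t1692_rf 197670 6 (16 * 2 ^ 6) = true := by decide +kernel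
theorem t1692_rchk_17 : allR t1692_rf 197670 6 (17 * 2 ^ 6) = true := by decide +kernel
theorem t1692_rchk_18 : allR t1692_rf 197670 6 (18 * 2 ^ 6) = true := by decide +kernel
theorem t1692_rchk_19 : allR t1692_rf 197670 6 (19 * 2 ^ 6) = true := by decide +kernel
theorem t1692_rchk_20 : allR t1692_rf 197670 6 (20 * 2 ^ 6) = true := by decide +kernel
theorem t1692_rchk_21 : allR t1692_rf 197670 6 (21 * 2 ^ 6) = true := by decide +kernel
theorem t1692_rchk_22 : allR t1692_rf 197670 6 (22 * 2 ^ 6) = true := by decide +kernel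
theorem t1692_rchk_23 : allR t1692_rf 197670 6 (23 * 2 ^ 6) = true := by decide +kernel
theorem t1692_rchk_24 : allR t1692_rf 197670 6 (24 * 2 ^ 6) = true := by decide +kernel
theorem t1692_rchk_25 : allR t1692_rf 197670 6 (25 * 2 ^ 6) = true := by decide +kernel
theorem t1692_rchk_26 : allR t1692_rf 197670 6 (26 * 2 ^ 6) = true := by decide +kernel
theorem t1692_rchk_27 : allR t1692_rf 197670 6 (27 * 2 ^ 6) = true := by decide +kernel
theorem t1692_rchk_28 : allR t1692_rf 197670 6 (28 * 2 ^ 6) = true := by decide +kernel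
theorem t1692_rchk_29 : allR t1692_rf 197670 6 (29 * 2 ^ 6) = true := by decide +kernel
theorem t1692_rchk_30 : allR t1692_rf 197670 6 (30 * 2 ^ 6) = true := by decide +kernel
theorem t1692_rchk_31 : allR t1692_rf 197670 6 (31 * 2 ^ 6) = true := by decide +kernel
theorem t1692_rchk_32 : allR t1692_rf 197670 6 (32 * 2 ^ 6) = true := by decide +kernel
theorem t1692_rchk_33 : allR t1692_rf 197670 6 (33 * 2 ^ 6) = true := by decide +kernel
theorem t1692_rchk_34 : allR t1692_rf 197670 6 (34 * 2 ^ 6) = true := by decide +kernel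
theorem t1692_rchk_35 : allR t1692_rf 197670 6 (35 * 2 ^ 6) = true := by decide +kernel
theorem t1692_rchk_36 : allR t1692_rf 197670 6 (36 * 2 ^ 6) = true := by decide +kernel
theorem t1692_rchk_37 : allR t1692_rf 197670 6 (37 * 2 ^ 6) = true := by decide +kernel
theorem t1692_rchk_38 : allR t1692_rf 197670 6 (38 * 2 ^ 6) = true := by decide +kernel
theorem t1692_rchk_39 : allR t1692_rf 197670 6 (39 * 2 ^ 6) = true := by decide +kernel
theorem t1692_rchk_40 : allR t1692_rf 197670 6 (40 * 2 ^ 6) = true := by decide +kernel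
theorem t1692_rchk_41 : allR t1692_rf 197670 6 (41 * 2 ^ 6) = true := by decide +kernel
theorem t1692_rchk_42 : allR t1692_rf 197670 6 (42 * 2 ^ 6) = true := by decide +kernel
theorem t1692_rchk_43 : allR t1692_rf 197670 6 (43 * 2 ^ 6) = true := by decide +kernel
theorem t1692_rchk_44 : allR t1692_rf 197670 6 (44 * 2 ^ 6) = true := by decide +kernel
theorem t1692_rchk_45 : allR t1692_rf 197670 6 (45 * 2 ^ 6) = true := by decide +kernel
theorem t1692_rchk_46 : allR t1692_rf 197670 6 (46 * 2 ^ 6) = true := by decide +kernel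
theorem t1692_rchk_47 : allR t1692_rf 197670 6 (47 * 2 ^ 6) = true := by decide +kernel
theorem t1692_rchk_48 : allR t1692_rf 197670 6 (48 * 2 ^ 6) = true := by decide +kernel
theorem t1692_rchk_49 : allR t1692_rf 197670 6 (49 * 2 ^ 6) = true := by decide +kernel
theorem t1692_rchk_50 : allR t1692_rf 197670 6 (50 * 2 ^ 6) = true := by decide +kernel
theorem t1692_rchk_51 : allR t1692_rf 197670 6 (51 * 2 ^ 6) = true := by decide +kernel
theorem t1692_rchk_52 : allR t1692_rf 197670 6 (52 * 2 ^ 6) = true := by decide +kernel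
theorem t1692_rchk_53 : allR t1692_rf 197670 6 (53 * 2 ^ 6) = true := by decide +kernel
theorem t1692_rchk_54 : allR t1692_rf 197670 6 (54 * 2 ^ 6) = true := by decide +kernel
theorem t1692_rchk_55 : allR t1692_rf 197670 6 (55 * 2 ^ 6) = true := by decide +kernel
theorem t1692_rchk_56 : allR t1692_rf 197670 6 (56 * 2 ^ 6) = true := by decide +kernel
theorem t1692_rchk_57 : allR t1692_rf 197670 6 (57 * 2 ^ 6) = true := by decide +kernel
theorem t1692_rchk_58 : allR t1692_rf 197670 6 (58 * 2 ^ 6) = true := by decide +kernel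
theorem t1692_rchk_59 : allR t1692_rf 197670 6 (59 * 2 ^ 6) = true := by decide +kernel
theorem t1692_rchk_60 : allR t1692_rf 197670 6 (60 * 2 ^ 6) = true := by decide +kernel
theorem t1692_rchk_61 : allR t1692_rf 197670 6 (61 * 2 ^ 6) = true := by decide +kernel
theorem t1692_rchk_62 : allR t1692_rf 197670 6 (62 * 2 ^ 6) = true := by decide +kernel
theorem t1692_rchk_63 : allR t1692_rf 197670 6 (63 * 2 ^ 6) = true := by decide +kernel
theorem t1692_rchk_64 : allR t1692_rf 197670 6 (64 * 2 ^ 6) = true := by decide +kernel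
theorem t1692_rchk_65 : allR t1692_rf 197670 6 (65 * 2 ^ 6) = true := by decide +kernel
theorem t1692_rchk_66 : allR t1692_rf 197670 6 (66 * 2 ^ 6) = true := by decide +kernel
theorem t1692_rchk_67 : allR t1692_rf 197670 6 (67 * 2 ^ 6) = true := by decide +kernel
theorem t1692_rchk_68 : allR t1692_rf 197670 6 (68 * 2 ^ 6) = true := by decide +kernel
theorem t1692_rchk_69 : allR t1692_rf 197670 6 (69 * 2 ^ 6) = true := by decide +kernel
theorem t1692_rchk_70 : allR t1692_rf 197670 6 (70 * 2 ^ 6) = true := by decide +kernel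
theorem t1692_rchk_71 : allR t1692_rf 197670 6 (71 * 2 ^ 6) = true := by decide +kernel
theorem t1692_rchk_72 : allR t1692_rf 197670 6 (72 * 2 ^ 6) = true := by decide +kernel
theorem t1692_rchk_73 : allR t1692_rf 197670 6 (73 * 2 ^ 6) = true := by decide +kernel
theorem t1692_rchk_74 : allR t1692_rf 197670 6 (74 * 2 ^ 6) = true := by decide +kernel
theorem t1692_rchk_75 : allR t1692_rf 197670 6 (75 * 2 ^ 6) = true := by decide +kernel
theorem t1692_rchk_76 : allR t1692_rf 197670 6 (76 * 2 ^ 6) = true := by decide +kernel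
theorem t1692_rchk_77 : allR t1692_rf 197670 6 (77 * 2 ^ 6) = true := by decide +kernel
theorem t1692_rchk_78 : allR t1692_rf 197670 6 (78 * 2 ^ 6) = true := by decide +kernel
theorem t1692_rchk_79 : allR t1692_rf 197670 6 (79 * 2 ^ 6) = true := by decide +kernel

theorem t1692_rfile_0 : ∀ k, k < 80 → 0 ≤ k → allR t1692_rf 197670 6 (k * 2 ^ 6) = true := by
  intro k h1 h2
  interval_cases k
  · exact t1692_rchk_0
  · exact t1692_rchk_1
  · exact t1692_rchk_2
  · exact t1692_rchk_3
  · exact t1692_rchk_4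
  · exact t1692_rchk_5
  · exact t1692_rchk_6
  · exact t1692_rchk_7
  · exact t1692_rchk_8
  · exact t1692_rchk_9
  · exact t1692_rchk_10
  · exact t1692_rchk_11
  · exact t1692_rchk_12
  · exact t1692_rchk_13
  · exact t1692_rchk_14
  · exact t1692_rchk_15
  · exact t1692_rchk_16
  · exact t1692_rchk_17
  · exact t1692_rchk_18
  · exact t1692_rchk_19
  · exact t1692_rchk_20
  · exact t1692_rchk_21
  · exact t1692_rchk_22
  · exact t1692_rchk_23
  · exact t1692_rchk_24
  · exact t1692_rchk_25
  · exact t1692_rchk_26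
  · exact t1692_rchk_27
  · exact t1692_rchk_28
  · exact t1692_rchk_29
  · exact t1692_rchk_30
  · exact t1692_rchk_31
  · exact t1692_rchk_32
  · exact t1692_rchk_33
  · exact t1692_rchk_34
  · exact t1692_rchk_35
  · exact t1692_rchk_36
  · exact t1692_rchk_37
  · exact t1692_rchk_38
  · exact t1692_rchk_39
  · exact t1692_rchk_40
  · exact t1692_rchk_41
  · exact t1692_rchk_42
  · exact t1692_rchk_43
  · exact t1692_rchk_44
  · exact t1692_rchk_45
  · exact t1692_rchk_46
  · exact t1692_rchk_47
  · exact t1692_rchk_48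
  · exact t1692_rchk_49
  · exact t1692_rchk_50
  · exact t1692_rchk_51
  · exact t1692_rchk_52
  · exact t1692_rchk_53
  · exact t1692_rchk_54
  · exact t1692_rchk_55
  · exact t1692_rchk_56
  · exact t1692_rchk_57
  · exact t1692_rchk_58
  · exact t1692_rchk_59
  · exact t1692_rchk_60
  · exact t1692_rchk_61
  · exact t1692_rchk_62
  · exact t1692_rchk_63
  · exact t1692_rchk_64
  · exact t1692_rchk_65
  · exact t1692_rchk_66
  · exact t1692_rchk_67
  · exact t1692_rchk_68
  · exact t1692_rchk_69
  · exact t1692_rchk_70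
  · exact t1692_rchk_71
  · exact t1692_rchk_72
  · exact t1692_rchk_73
  · exact t1692_rchk_74
  · exact t1692_rchk_75
  · exact t1692_rchk_76
  · exact t1692_rchk_77
  · exact t1692_rchk_78
  · exact t1692_rchk_79

end Cfsg.Agent.H35
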