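import Cfsg.Agent.H35.T1692.RTab

set_option autoImplicit false
set_option linter.all false
set_option Elab.async false

namespace Cfsg.Agent.H35

theorem t1692_rchk_1120 : allR t1692_rf 197670 6 (1120 * 2 ^ 6) = true := by decide +kernel
theorem t1692_rchk_1121 : allR t1692_rf 197670 6 (1121 * 2 ^ 6) = true := by decide +kernel
theorem t1692_rchk_1122 : allR t1692_rf 197670 6 (1122 * 2 ^ 6) = true := by decide +kernel
theorem t1692_rchk_1123 : allR t1692_rf 197670 6 (1123 * 2 ^ 6) = true := by decide +kernel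
theorem t1692_rchk_1124 : allR t1692_rf 197670 6 (1124 * 2 ^ 6) = true := by decide +kernel
theorem t1692_rchk_1125 : allR t1692_rf 197670 6 (1125 * 2 ^ 6) = true := by decide +kernel
theorem t1692_rchk_1126 : allR t1692_rf 197670 6 (1126 * 2 ^ 6) = true := by decide +kernel
theorem t1692_rchk_1127 : allR t1692_rf 197670 6 (1127 * 2 ^ 6) = true := by decide +kernel
theorem t1692_rchk_1128 : allR t1692_rf 197670 6 (1128 * 2 ^ 6) = true := by decide +kernel
theorem t1692_rchk_1129 : allR t1692_rf 197670 6 (1129 * 2 ^ 6) = true := by decide +kernel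
theorem t1692_rchk_1130 : allR t1692_rf 197670 6 (1130 * 2 ^ 6) = true := by decide +kernel
theorem t1692_rchk_1131 : allR t1692_rf 197670 6 (1131 * 2 ^ 6) = true := by decide +kernel
theorem t1692_rchk_1132 : allR t1692_rf 197670 6 (1132 * 2 ^ 6) = true := by decide +kernel
theorem t1692_rchk_1133 : allR t1692_rf 197670 6 (1133 * 2 ^ 6) = true := by decide +kernel
theorem t1692_rchk_1134 : allR t1692_rf 197670 6 (1134 * 2 ^ 6) = true := by decide +kernel
theorem t1692_rchk_1135 : allR t1692_rf 197670 6 (1135 * 2 ^ 6) = true := by decide +kernel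
theorem t1692_rchk_1136 : allR t1692_rf 197670 6 (1136 * 2 ^ 6) = true := by decide +kernel
theorem t1692_rchk_1137 : allR t1692_rf 197670 6 (1137 * 2 ^ 6) = true := by decide +kernel
theorem t1692_rchk_1138 : allR t1692_rf 197670 6 (1138 * 2 ^ 6) = true := by decide +kernel
theorem t1692_rchk_1139 : allR t1692_rf 197670 6 (1139 * 2 ^ 6) = true := by decide +kernel
theorem t1692_rchk_1140 : allR t1692_rf 197670 6 (1140 * 2 ^ 6) = true := by decide +kernel
theorem t1692_rchk_1141 : allR t1692_rf 197670 6 (1141 * 2 ^ 6) = true := by decide +kernel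
theorem t1692_rchk_1142 : allR t1692_rf 197670 6 (1142 * 2 ^ 6) = true := by decide +kernel
theorem t1692_rchk_1143 : allR t1692_rf 197670 6 (1143 * 2 ^ 6) = true := by decide +kernel
theorem t1692_rchk_1144 : allR t1692_rf 197670 6 (1144 * 2 ^ 6) = true := by decide +kernel
theorem t1692_rchk_1145 : allR t1692_rf 197670 6 (1145 * 2 ^ 6) = true := by decide +kernel
theorem t1692_rchk_1146 : allR t1692_rf 197670 6 (1146 * 2 ^ 6) = true := by decide +kernel
theorem t1692_rchk_1147 : allR t1692_rf 197670 6 (1147 * 2 ^ 6) = true := by decide +kernel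
theorem t1692_rchk_1148 : allR t1692_rf 197670 6 (1148 * 2 ^ 6) = true := by decide +kernel
theorem t1692_rchk_1149 : allR t1692_rf 197670 6 (1149 * 2 ^ 6) = true := by decide +kernel
theorem t1692_rchk_1150 : allR t1692_rf 197670 6 (1150 * 2 ^ 6) = true := by decide +kernel
theorem t1692_rchk_1151 : allR t1692_rf 197670 6 (1151 * 2 ^ 6) = true := by decide +kernel
theorem t1692_rchk_1152 : allR t1692_rf 197670 6 (1152 * 2 ^ 6) = true := by decide +kernel
theorem t1692_rchk_1153 : allR t1692_rf 197670 6 (1153 * 2 ^ 6) = true := by decide +kernel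
theorem t1692_rchk_1154 : allR t1692_rf 197670 6 (1154 * 2 ^ 6) = true := by decide +kernel
theorem t1692_rchk_1155 : allR t1692_rf 197670 6 (1155 * 2 ^ 6) = true := by decide +kernel
theorem t1692_rchk_1156 : allR t1692_rf 197670 6 (1156 * 2 ^ 6) = true := by decide +kernel
theorem t1692_rchk_1157 : allR t1692_rf 197670 6 (1157 * 2 ^ 6) = true := by decide +kernel
theorem t1692_rchk_1158 : allR t1692_rf 197670 6 (1158 * 2 ^ 6) = true := by decide +kernel
theorem t1692_rchk_1159 : allR t1692_rf 197670 6 (1159 * 2 ^ 6) = true := by decide +kernel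
theorem t1692_rchk_1160 : allR t1692_rf 197670 6 (1160 * 2 ^ 6) = true := by decide +kernel
theorem t1692_rchk_1161 : allR t1692_rf 197670 6 (1161 * 2 ^ 6) = true := by decide +kernel
theorem t1692_rchk_1162 : allR t1692_rf 197670 6 (1162 * 2 ^ 6) = true := by decide +kernel
theorem t1692_rchk_1163 : allR t1692_rf 197670 6 (1163 * 2 ^ 6) = true := by decide +kernel
theorem t1692_rchk_1164 : allR t1692_rf 197670 6 (1164 * 2 ^ 6) = true := by decide +kernel
theorem t1692_rchk_1165 : allR t1692_rf 197670 6 (1165 * 2 ^ 6) = true := by decide +kernel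
theorem t1692_rchk_1166 : allR t1692_rf 197670 6 (1166 * 2 ^ 6) = true := by decide +kernel
theorem t1692_rchk_1167 : allR t1692_rf 197670 6 (1167 * 2 ^ 6) = true := by decide +kernel
theorem t1692_rchk_1168 : allR t1692_rf 197670 6 (1168 * 2 ^ 6) = true := by decide +kernel
theorem t1692_rchk_1169 : allR t1692_rf 197670 6 (1169 * 2 ^ 6) = true := by decide +kernel
theorem t1692_rchk_1170 : allR t1692_rf 197670 6 (1170 * 2 ^ 6) = true := by decide +kernel
theorem t1692_rchk_1171 : allR t1692_rf 197670 6 (1171 * 2 ^ 6) = true := by decide +kernel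
theorem t1692_rchk_1172 : allR t1692_rf 197670 6 (1172 * 2 ^ 6) = true := by decide +kernel
theorem t1692_rchk_1173 : allR t1692_rf 197670 6 (1173 * 2 ^ 6) = true := by decide +kernel
theorem t1692_rchk_1174 : allR t1692_rf 197670 6 (1174 * 2 ^ 6) = true := by decide +kernel
theorem t1692_rchk_1175 : allR t1692_rf 197670 6 (1175 * 2 ^ 6) = true := by decide +kernel
theorem t1692_rchk_1176 : allR t1692_rf 197670 6 (1176 * 2 ^ 6) = true := by decide +kernel
theorem t1692_rchk_1177 : allR t1692_rf 197670 6 (1177 * 2 ^ 6) = true := by decide +kernel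
theorem t1692_rchk_1178 : allR t1692_rf 197670 6 (1178 * 2 ^ 6) = true := by decide +kernel
theorem t1692_rchk_1179 : allR t1692_rf 197670 6 (1179 * 2 ^ 6) = true := by decide +kernel
theorem t1692_rchk_1180 : allR t1692_rf 197670 6 (1180 * 2 ^ 6) = true := by decide +kernel
theorem t1692_rchk_1181 : allR t1692_rf 197670 6 (1181 * 2 ^ 6) = true := by decide +kernel
theorem t1692_rchk_1182 : allR t1692_rf 197670 6 (1182 * 2 ^ 6) = true := by decide +kernel
theorem t1692_rchk_1183 : allR t1692_rf 197670 6 (1183 * 2 ^ 6) = true := by decide +kernel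
theorem t1692_rchk_1184 : allR t1692_rf 197670 6 (1184 * 2 ^ 6) = true := by decide +kernel
theorem t1692_rchk_1185 : allR t1692_rf 197670 6 (1185 * 2 ^ 6) = true := by decide +kernel
theorem t1692_rchk_1186 : allR t1692_rf 197670 6 (1186 * 2 ^ 6) = true := by decide +kernel
theorem t1692_rchk_1187 : allR t1692_rf 197670 6 (1187 * 2 ^ 6) = true := by decide +kernel
theorem t1692_rchk_1188 : allR t1692_rf 197670 6 (1188 * 2 ^ 6) = true := by decide +kernel
theorem t1692_rchk_1189 : allR t1692_rf 197670 6 (1189 * 2 ^ 6) = true := by decide +kernel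
theorem t1692_rchk_1190 : allR t1692_rf 197670 6 (1190 * 2 ^ 6) = true := by decide +kernel
theorem t1692_rchk_1191 : allR t1692_rf 197670 6 (1191 * 2 ^ 6) = true := by decide +kernel
theorem t1692_rchk_1192 : allR t1692_rf 197670 6 (1192 * 2 ^ 6) = true := by decide +kernel
theorem t1692_rchk_1193 : allR t1692_rf 197670 6 (1193 * 2 ^ 6) = true := by decide +kernel
theorem t1692_rchk_1194 : allR t1692_rf 197670 6 (1194 * 2 ^ 6) = true := by decide +kernel
theorem t1692_rchk_1195 : allR t1692_rf 197670 6 (1195 * 2 ^ 6) = true := by decide +kernel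
theorem t1692_rchk_1196 : allR t1692_rf 197670 6 (1196 * 2 ^ 6) = true := by decide +kernel
theorem t1692_rchk_1197 : allR t1692_rf 197670 6 (1197 * 2 ^ 6) = true := by decide +kernel
theorem t1692_rchk_1198 : allR t1692_rf 197670 6 (1198 * 2 ^ 6) = true := by decide +kernel
theorem t1692_rchk_1199 : allR t1692_rf 197670 6 (1199 * 2 ^ 6) = true := by decide +kernel

theorem t1692_rfile_14 : ∀ k, k < 1200 → 1120 ≤ k → allR t1692_rf 197670 6 (k * 2 ^ 6) = true := by
  intro k h1 h2
  interval_cases k
  · exact t1692_rchk_1120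
  · exact t1692_rchk_1121
  · exact t1692_rchk_1122
  · exact t1692_rchk_1123
  · exact t1692_rchk_1124
  · exact t1692_rchk_1125
  · exact t1692_rchk_1126
  · exact t1692_rchk_1127
  · exact t1692_rchk_1128
  · exact t1692_rchk_1129
  · exact t1692_rchk_1130
  · exact t1692_rchk_1131
  · exact t1692_rchk_1132
  · exact t1692_rchk_1133
  · exact t1692_rchk_1134
  · exact t1692_rchk_1135
  · exact t1692_rchk_1136
  · exact t1692_rchk_1137
  · exact t1692_rchk_1138
  · exact t1692_rchk_1139
  · exact t1692_rchk_1140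
  · exact t1692_rchk_1141
  · exact t1692_rchk_1142
  · exact t1692_rchk_1143
  · exact t1692_rchk_1144
  · exact t1692_rchk_1145
  · exact t1692_rchk_1146
  · exact t1692_rchk_1147
  · exact t1692_rchk_1148
  · exact t1692_rchk_1149
  · exact t1692_rchk_1150
  · exact t1692_rchk_1151
  · exact t1692_rchk_1152
  · exact t1692_rchk_1153
  · exact t1692_rchk_1154
  · exact t1692_rchk_1155
  · exact t1692_rchk_1156
  · exact t1692_rchk_1157
  · exact t1692_rchk_1158
  · exact t1692_rchk_1159
  · exact t1692_rchk_1160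
  · exact t1692_rchk_1161
  · exact t1692_rchk_1162
  · exact t1692_rchk_1163
  · exact t1692_rchk_1164
  · exact t1692_rchk_1165
  · exact t1692_rchk_1166
  · exact t1692_rchk_1167
  · exact t1692_rchk_1168
  · exact t1692_rchk_1169
  · exact t1692_rchk_1170
  · exact t1692_rchk_1171
  · exact t1692_rchk_1172
  · exact t1692_rchk_1173
  · exact t1692_rchk_1174
  · exact t1692_rchk_1175
  · exact t1692_rchk_1176
  · exact t1692_rchk_1177
  · exact t1692_rchk_1178
  · exact t1692_rchk_1179
  · exact t1692_rchk_1180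
  · exact t1692_rchk_1181
  · exact t1692_rchk_1182
  · exact t1692_rchk_1183
  · exact t1692_rchk_1184
  · exact t1692_rchk_1185
  · exact t1692_rchk_1186
  · exact t1692_rchk_1187
  · exact t1692_rchk_1188
  · exact t1692_rchk_1189
  · exact t1692_rchk_1190
  · exact t1692_rchk_1191
  · exact t1692_rchk_1192
  · exact t1692_rchk_1193
  · exact t1692_rchk_1194
  · exact t1692_rchk_1195
  · exact t1692_rchk_1196
  · exact t1692_rchk_1197
  · exact t1692_rchk_1198
  · exact t1692_rchk_1199

end Cfsg.Agent.H35
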