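import Cfsg.Agent.H35.T1692.RTab

set_option autoImplicit false
set_option linter.all false
set_option Elab.async false

namespace Cfsg.Agent.H35

theorem t1692_rchk_2320 : allR t1692_rf 197670 6 (2320 * 2 ^ 6) = true := by decide +kernel
theorem t1692_rchk_2321 : allR t1692_rf 197670 6 (2321 * 2 ^ 6) = true := by decide +kernel
theorem t1692_rchk_2322 : allR t1692_rf 197670 6 (2322 * 2 ^ 6) = true := by decide +kernel
theorem t1692_rchk_2323 : allR t1692_rf 197670 6 (2323 * 2 ^ 6) = true := by decide +kernel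
theorem t1692_rchk_2324 : allR t1692_rf 197670 6 (2324 * 2 ^ 6) = true := by decide +kernel
theorem t1692_rchk_2325 : allR t1692_rf 197670 6 (2325 * 2 ^ 6) = true := by decide +kernel
theorem t1692_rchk_2326 : allR t1692_rf 197670 6 (2326 * 2 ^ 6) = true := by decide +kernel
theorem t1692_rchk_2327 : allR t1692_rf 197670 6 (2327 * 2 ^ 6) = true := by decide +kernel
theorem t1692_rchk_2328 : allR t1692_rf 197670 6 (2328 * 2 ^ 6) = true := by decide +kernel
theorem t1692_rchk_2329 : allR t1692_rf 197670 6 (2329 * 2 ^ 6) = true := by decide +kernel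
theorem t1692_rchk_2330 : allR t1692_rf 197670 6 (2330 * 2 ^ 6) = true := by decide +kernel
theorem t1692_rchk_2331 : allR t1692_rf 197670 6 (2331 * 2 ^ 6) = true := by decide +kernel
theorem t1692_rchk_2332 : allR t1692_rf 197670 6 (2332 * 2 ^ 6) = true := by decide +kernel
theorem t1692_rchk_2333 : allR t1692_rf 197670 6 (2333 * 2 ^ 6) = true := by decide +kernel
theorem t1692_rchk_2334 : allR t1692_rf 197670 6 (2334 * 2 ^ 6) = true := by decide +kernel
theorem t1692_rchk_2335 : allR t1692_rf 197670 6 (2335 * 2 ^ 6) = true := by decide +kernel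
theorem t1692_rchk_2336 : allR t1692_rf 197670 6 (2336 * 2 ^ 6) = true := by decide +kernel
theorem t1692_rchk_2337 : allR t1692_rf 197670 6 (2337 * 2 ^ 6) = true := by decide +kernel
theorem t1692_rchk_2338 : allR t1692_rf 197670 6 (2338 * 2 ^ 6) = true := by decide +kernel
theorem t1692_rchk_2339 : allR t1692_rf 197670 6 (2339 * 2 ^ 6) = true := by decide +kernel
theorem t1692_rchk_2340 : allR t1692_rf 197670 6 (2340 * 2 ^ 6) = true := by decide +kernel
theorem t1692_rchk_2341 : allR t1692_rf 197670 6 (2341 * 2 ^ 6) = true := by decide +kernel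
theorem t1692_rchk_2342 : allR t1692_rf 197670 6 (2342 * 2 ^ 6) = true := by decide +kernel
theorem t1692_rchk_2343 : allR t1692_rf 197670 6 (2343 * 2 ^ 6) = true := by decide +kernel
theorem t1692_rchk_2344 : allR t1692_rf 197670 6 (2344 * 2 ^ 6) = true := by decide +kernel
theorem t1692_rchk_2345 : allR t1692_rf 197670 6 (2345 * 2 ^ 6) = true := by decide +kernel
theorem t1692_rchk_2346 : allR t1692_rf 197670 6 (2346 * 2 ^ 6) = true := by decide +kernel
theorem t1692_rchk_2347 : allR t1692_rf 197670 6 (2347 * 2 ^ 6) = true := by decide +kernel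
theorem t1692_rchk_2348 : allR t1692_rf 197670 6 (2348 * 2 ^ 6) = true := by decide +kernel
theorem t1692_rchk_2349 : allR t1692_rf 197670 6 (2349 * 2 ^ 6) = true := by decide +kernel
theorem t1692_rchk_2350 : allR t1692_rf 197670 6 (2350 * 2 ^ 6) = true := by decide +kernel
theorem t1692_rchk_2351 : allR t1692_rf 197670 6 (2351 * 2 ^ 6) = true := by decide +kernel
theorem t1692_rchk_2352 : allR t1692_rf 197670 6 (2352 * 2 ^ 6) = true := by decide +kernel
theorem t1692_rchk_2353 : allR t1692_rf 197670 6 (2353 * 2 ^ 6) = true := by decide +kernel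
theorem t1692_rchk_2354 : allR t1692_rf 197670 6 (2354 * 2 ^ 6) = true := by decide +kernel
theorem t1692_rchk_2355 : allR t1692_rf 197670 6 (2355 * 2 ^ 6) = true := by decide +kernel
theorem t1692_rchk_2356 : allR t1692_rf 197670 6 (2356 * 2 ^ 6) = true := by decide +kernel
theorem t1692_rchk_2357 : allR t1692_rf 197670 6 (2357 * 2 ^ 6) = true := by decide +kernel
theorem t1692_rchk_2358 : allR t1692_rf 197670 6 (2358 * 2 ^ 6) = true := by decide +kernel
theorem t1692_rchk_2359 : allR t1692_rf 197670 6 (2359 * 2 ^ 6) = true := by decide +kernel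
theorem t1692_rchk_2360 : allR t1692_rf 197670 6 (2360 * 2 ^ 6) = true := by decide +kernel
theorem t1692_rchk_2361 : allR t1692_rf 197670 6 (2361 * 2 ^ 6) = true := by decide +kernel
theorem t1692_rchk_2362 : allR t1692_rf 197670 6 (2362 * 2 ^ 6) = true := by decide +kernel
theorem t1692_rchk_2363 : allR t1692_rf 197670 6 (2363 * 2 ^ 6) = true := by decide +kernel
theorem t1692_rchk_2364 : allR t1692_rf 197670 6 (2364 * 2 ^ 6) = true := by decide +kernel
theorem t1692_rchk_2365 : allR t1692_rf 197670 6 (2365 * 2 ^ 6) = true := by decide +kernel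
theorem t1692_rchk_2366 : allR t1692_rf 197670 6 (2366 * 2 ^ 6) = true := by decide +kernel
theorem t1692_rchk_2367 : allR t1692_rf 197670 6 (2367 * 2 ^ 6) = true := by decide +kernel
theorem t1692_rchk_2368 : allR t1692_rf 197670 6 (2368 * 2 ^ 6) = true := by decide +kernel
theorem t1692_rchk_2369 : allR t1692_rf 197670 6 (2369 * 2 ^ 6) = true := by decide +kernel
theorem t1692_rchk_2370 : allR t1692_rf 197670 6 (2370 * 2 ^ 6) = true := by decide +kernel
theorem t1692_rchk_2371 : allR t1692_rf 197670 6 (2371 * 2 ^ 6) = true := by decide +kernel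
theorem t1692_rchk_2372 : allR t1692_rf 197670 6 (2372 * 2 ^ 6) = true := by decide +kernel
theorem t1692_rchk_2373 : allR t1692_rf 197670 6 (2373 * 2 ^ 6) = true := by decide +kernel
theorem t1692_rchk_2374 : allR t1692_rf 197670 6 (2374 * 2 ^ 6) = true := by decide +kernel
theorem t1692_rchk_2375 : allR t1692_rf 197670 6 (2375 * 2 ^ 6) = true := by decide +kernel
theorem t1692_rchk_2376 : allR t1692_rf 197670 6 (2376 * 2 ^ 6) = true := by decide +kernel
theorem t1692_rchk_2377 : allR t1692_rf 197670 6 (2377 * 2 ^ 6) = true := by decide +kernel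
theorem t1692_rchk_2378 : allR t1692_rf 197670 6 (2378 * 2 ^ 6) = true := by decide +kernel
theorem t1692_rchk_2379 : allR t1692_rf 197670 6 (2379 * 2 ^ 6) = true := by decide +kernel
theorem t1692_rchk_2380 : allR t1692_rf 197670 6 (2380 * 2 ^ 6) = true := by decide +kernel
theorem t1692_rchk_2381 : allR t1692_rf 197670 6 (2381 * 2 ^ 6) = true := by decide +kernel
theorem t1692_rchk_2382 : allR t1692_rf 197670 6 (2382 * 2 ^ 6) = true := by decide +kernel
theorem t1692_rchk_2383 : allR t1692_rf 197670 6 (2383 * 2 ^ 6) = true := by decide +kernel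
theorem t1692_rchk_2384 : allR t1692_rf 197670 6 (2384 * 2 ^ 6) = true := by decide +kernel
theorem t1692_rchk_2385 : allR t1692_rf 197670 6 (2385 * 2 ^ 6) = true := by decide +kernel
theorem t1692_rchk_2386 : allR t1692_rf 197670 6 (2386 * 2 ^ 6) = true := by decide +kernel
theorem t1692_rchk_2387 : allR t1692_rf 197670 6 (2387 * 2 ^ 6) = true := by decide +kernel
theorem t1692_rchk_2388 : allR t1692_rf 197670 6 (2388 * 2 ^ 6) = true := by decide +kernel
theorem t1692_rchk_2389 : allR t1692_rf 197670 6 (2389 * 2 ^ 6) = true := by decide +kernel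
theorem t1692_rchk_2390 : allR t1692_rf 197670 6 (2390 * 2 ^ 6) = true := by decide +kernel
theorem t1692_rchk_2391 : allR t1692_rf 197670 6 (2391 * 2 ^ 6) = true := by decide +kernel
theorem t1692_rchk_2392 : allR t1692_rf 197670 6 (2392 * 2 ^ 6) = true := by decide +kernel
theorem t1692_rchk_2393 : allR t1692_rf 197670 6 (2393 * 2 ^ 6) = true := by decide +kernel
theorem t1692_rchk_2394 : allR t1692_rf 197670 6 (2394 * 2 ^ 6) = true := by decide +kernel
theorem t1692_rchk_2395 : allR t1692_rf 197670 6 (2395 * 2 ^ 6) = true := by decide +kernel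
theorem t1692_rchk_2396 : allR t1692_rf 197670 6 (2396 * 2 ^ 6) = true := by decide +kernel
theorem t1692_rchk_2397 : allR t1692_rf 197670 6 (2397 * 2 ^ 6) = true := by decide +kernel
theorem t1692_rchk_2398 : allR t1692_rf 197670 6 (2398 * 2 ^ 6) = true := by decide +kernel
theorem t1692_rchk_2399 : allR t1692_rf 197670 6 (2399 * 2 ^ 6) = true := by decide +kernel

theorem t1692_rfile_29 : ∀ k, k < 2400 → 2320 ≤ k → allR t1692_rf 197670 6 (k * 2 ^ 6) = true := by
  intro k h1 h2
  interval_cases k
  · exact t1692_rchk_2320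
  · exact t1692_rchk_2321
  · exact t1692_rchk_2322
  · exact t1692_rchk_2323
  · exact t1692_rchk_2324
  · exact t1692_rchk_2325
  · exact t1692_rchk_2326
  · exact t1692_rchk_2327
  · exact t1692_rchk_2328
  · exact t1692_rchk_2329
  · exact t1692_rchk_2330
  · exact t1692_rchk_2331
  · exact t1692_rchk_2332
  · exact t1692_rchk_2333
  · exact t1692_rchk_2334
  · exact t1692_rchk_2335
  · exact t1692_rchk_2336
  · exact t1692_rchk_2337
  · exact t1692_rchk_2338
  · exact t1692_rchk_2339
  · exact t1692_rchk_2340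
  · exact t1692_rchk_2341
  · exact t1692_rchk_2342
  · exact t1692_rchk_2343
  · exact t1692_rchk_2344
  · exact t1692_rchk_2345
  · exact t1692_rchk_2346
  · exact t1692_rchk_2347
  · exact t1692_rchk_2348
  · exact t1692_rchk_2349
  · exact t1692_rchk_2350
  · exact t1692_rchk_2351
  · exact t1692_rchk_2352
  · exact t1692_rchk_2353
  · exact t1692_rchk_2354
  · exact t1692_rchk_2355
  · exact t1692_rchk_2356
  · exact t1692_rchk_2357
  · exact t1692_rchk_2358
  · exact t1692_rchk_2359
  · exact t1692_rchk_2360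
  · exact t1692_rchk_2361
  · exact t1692_rchk_2362
  · exact t1692_rchk_2363
  · exact t1692_rchk_2364
  · exact t1692_rchk_2365
  · exact t1692_rchk_2366
  · exact t1692_rchk_2367
  · exact t1692_rchk_2368
  · exact t1692_rchk_2369
  · exact t1692_rchk_2370
  · exact t1692_rchk_2371
  · exact t1692_rchk_2372
  · exact t1692_rchk_2373
  · exact t1692_rchk_2374
  · exact t1692_rchk_2375
  · exact t1692_rchk_2376
  · exact t1692_rchk_2377
  · exact t1692_rchk_2378
  · exact t1692_rchk_2379
  · exact t1692_rchk_2380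
  · exact t1692_rchk_2381
  · exact t1692_rchk_2382
  · exact t1692_rchk_2383
  · exact t1692_rchk_2384
  · exact t1692_rchk_2385
  · exact t1692_rchk_2386
  · exact t1692_rchk_2387
  · exact t1692_rchk_2388
  · exact t1692_rchk_2389
  · exact t1692_rchk_2390
  · exact t1692_rchk_2391
  · exact t1692_rchk_2392
  · exact t1692_rchk_2393
  · exact t1692_rchk_2394
  · exact t1692_rchk_2395
  · exact t1692_rchk_2396
  · exact t1692_rchk_2397
  · exact t1692_rchk_2398
  · exact t1692_rchk_2399

end Cfsg.Agent.H35
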