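import Cfsg.Agent.H35.T1692.RTab0
import Cfsg.Agent.H35.T1692.RTab1
import Cfsg.Agent.H35.T1692.RTab2
import Cfsg.Agent.H35.T1692.RTab3
import Cfsg.Agent.H35.T1692.RTab4
import Cfsg.Agent.H35.T1692.RTab5
import Cfsg.Agent.H35.T1692.RTab6
import Cfsg.Agent.H35.T1692.RTab7
import Cfsg.Agent.H35.T1692.RTab8

set_option autoImplicit false
set_option linter.all false

namespace Cfsg.Agent.H35

noncomputable def t1692_rrowT_t : ℕ → ℕ := (nd (nat_lit 192) (nd (nat_lit 96) (nd (nat_lit 48) (nd (nat_lit 24) (nd (nat_lit 8) t1692_rrowT_t_c0 (nd (nat_lit 16) t1692_rrowT_t_c1 t1692_rrowT_t_c2)) (nd (nat_lit 32) t1692_rrowT_t_c3 (nd (nat_lit 40) t1692_rrowT_t_c4 t1692_rrowT_t_c5))) (nd (nat_lit 72) (nd (nat_lit 56) t1692_rrowT_t_c6 (nd (nat_lit 64) t1692_rrowT_t_c7 t1692_rrowT_t_c8)) (nd (nat_lit 80) t1692_rrowT_t_c9 (nd (nat_lit 88) t1692_rrowT_t_c10 t1692_rrowT_t_c11))))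 (nd (nat_lit 144) (nd (nat_lit 120) (nd (nat_lit 104) t1692_rrowT_t_c12 (nd (nat_lit 112) t1692_rrowT_t_c13 t1692_rrowT_t_c14)) (nd (nat_lit 128) t1692_rrowT_t_c15 (nd (nat_lit 136) t1692_rrowT_t_c16 t1692_rrowT_t_c17))) (nd (nat_lit 168) (nd (nat_lit 152) t1692_rrowT_t_c18 (nd (nat_lit 160) t1692_rrowT_t_c19 t1692_rrowT_t_c20)) (nd (nat_lit 176) t1692_rrowT_t_c21 (nd (nat_lit 184) t1692_rrowT_t_c22 t1692_rrowT_t_c23))))) (nd (nat_lit 288) (nd (nat_lit 240) (nd (nat_lit 216) (nd (nat_lit 200) t1692_rrowT_t_c24 (nd (nat_lit 208) t1692_rrowT_t_c25 t1692_rrowT_t_c26)) (nd (nat_lit 224) t1692_rrowT_t_c27 (nd (nat_lit 232) t1692_rrowT_t_c28 t1692_rrowT_t_c29))) (nd (nat_lit 264) (nd (nat_lit 248) t1692_rrowT_t_c30 (nd (nat_lit 256) t1692_rrowT_t_c31 t1692_rrowT_t_c32)) (nd (nat_lit 272) t1692_rrowT_t_c33 (nd (nat_lit 280) t1692_rrowT_t_c34 t1692_rrowT_t_c35)))) (nd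 (nat_lit 336) (nd (nat_lit 312) (nd (nat_lit 296) t1692_rrowT_t_c36 (nd (nat_lit 304) t1692_rrowT_t_c37 t1692_rrowT_t_c38)) (nd (nat_lit 320) t1692_rrowT_t_c39 (nd (nat_lit 328) t1692_rrowT_t_c40 t1692_rrowT_t_c41))) (nd (nat_lit 360) (nd (nat_lit 344) t1692_rrowT_t_c42 (nd (nat_lit 352) t1692_rrowT_t_c43 t1692_rrowT_t_c44)) (nd (nat_lit 376) (nd (nat_lit 368) t1692_rrowT_t_c45 t1692_rrowT_t_c46) (nd (nat_lit 384) t1692_rrowT_t_c47 t1692_rrowT_t_c48))))))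
noncomputable def t1692_rrowT : ℕ → ℕ := fun p => Nat.land (Nat.shiftRight (t1692_rrowT_t (Nat.shiftRight p (nat_lit 9))) (Nat.mul (nat_lit 960) (Nat.land p (nat_lit 511)))) (nat_lit 9745314011399999080353382387875188310876226857595007526867906457212948690766426102465615065882010259225304916231408668183459169865203094046577987296312653419531277699956473029870789655490053648352799593479218378873685597925394874945746363615468965612827738803104277547081828589991914110975)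

noncomputable def t1692_circT_c0 : ℕ → List OnL := (nd 32 (nd 16 (nd 8 (nd 4 (nd 2 (nd 1 (lf [.g, .f, .a, .g]) (lf [.v, .g])) (nd 3 (lf [.f, .v, .v, .a]) (lf [.f, .f]))) (nd 6 (nd 5 (lf [.f, .b, .f, .b]) (lf [.a, .c, .a, .c])) (nd 7 (lf [.a, .a]) (lf [.f, .c, .f, .c])))) (nd 12 (nd 10 (nd 9 (lf [.a, .d, .a, .d]) (lf [.f, .d, .f, .d])) (nd 11 (lf [.a, .e, .a, .e]) (lf [.b, .d, .b, .d]))) (nd 14 (nd 13 (lf [.b, .b]) (lf [.b, .e, .b, .e])) (nd 15 (lf [.d, .v, .c, .v, .c, .d, .c, .g, .c, .g]) (lf [.c, .d, .g, .d, .g, .c, .v, .d, .v, .d]))))) (nd 24 (nd 20 (nd 18 (nd 17 (lf [.c, .c]) (lf [.c, .e, .c, .e])) (nd 19 (lf [.c, .v, .d, .v, .d, .c, .d, .g, .d, .g]) (lf [.b, .a, .b, .a, .b, .a]))) (nd 22 (nd 21 (lf [.f, .a, .f, .a]) (lf [.v, .v, .a, .f])) (nd 23 (lf [.g, .v]) (lf [.g, .g, .f, .a])))) (nd 28 (nd 26 (nd 25 (lf [.v, .a, .f, .v]) (lf [.c, .f, .c, .f])) (nd 27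 (lf [.a, .f, .a, .f]) (lf [.e, .f, .e, .f, .e, .f]))) (nd 30 (nd 29 (lf [.e, .e]) (lf [.c, .b, .c, .b, .c, .b])) (nd 31 (lf [.b, .f, .b, .f]) (lf [.d, .a, .d, .a])))))) (nd 48 (nd 40 (nd 36 (nd 34 (nd 33 (lf [.d, .b, .d, .b]) (lf [.c, .g, .c, .b, .g, .b, .c, .g, .c, .g, .b])) (nd 35 (lf [.v, .c, .v, .c, .d, .c, .g, .c, .g, .d]) (lf [.d, .c, .g, .c, .g, .d, .v, .c, .v, .c]))) (nd 38 (nd 37 (lf [.b, .c, .g, .c, .g, .b, .c, .g, .c, .b, .g]) (lf [.c, .v, .c, .b, .v, .b, .c, .v, .c, .b, .v])) (nd 39 (lf [.b, .g, .b, .c, .g, .c, .g, .b, .c, .g, .c]) (lf [.c, .a, .c, .a])))) (nd 44 (nd 42 (nd 41 (lf [.e, .d, .g, .d, .g, .e, .d, .g, .d, .e, .g]) (lf [.e, .d, .e, .d, .e, .d])) (nd 43 (lf [.d, .g, .e, .d, .g, .d, .e, .g, .e, .d, .g]) (lf [.d, .d]))) (nd 46 (nd 45 (lf [.e, .d, .v, .d, .e, .v, .d, .v, .d, .e, .v]) (lf [.d, .f, .d, .f])) (nd 47 (lf [.d, .e, .v, .d, .v, .d,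 .e, .v, .e, .d, .v]) (lf [.v, .d, .v, .d, .c, .d, .g, .d, .g, .c]))))) (nd 56 (nd 52 (nd 50 (nd 49 (lf [.v, .c, .b, .v, .b, .c, .v, .c, .b, .v, .c]) (lf [.v, .d, .e, .v, .e, .d, .v, .d, .e, .v, .d])) (nd 51 (lf [.g, .c, .b, .g, .b, .c, .g, .c, .g, .b, .c]) (lf [.c, .g, .c, .g, .b, .c, .g, .c, .b, .g, .b]))) (nd 54 (nd 53 (lf [.b, .c, .b, .c, .b, .c]) (lf [.c, .b, .g, .b, .c, .g, .c, .g, .b, .c, .g])) (nd 55 (lf [.v, .b, .c, .v, .c, .b, .v, .c, .v, .c, .b]) (lf [.a, .b, .a, .b, .a, .b])))) (nd 60 (nd 58 (nd 57 (lf [.v, .c, .d, .c, .g, .c, .g, .d, .v, .c]) (lf [.g, .d, .g, .c, .v, .d, .v, .d, .c, .d])) (nd 59 (lf [.e, .a, .e, .a]) (lf [.a, .f, .v, .v]))) (nd 62 (nd 61 (lf [.c, .g, .d, .v, .c, .v, .c, .d, .c, .g]) (lf [.b, .c, .v, .c, .b, .v, .c, .v, .c, .b, .v])) (nd 63 (lf [.g, .b, .c, .g, .c, .g, .b, .c, .g, .c, .b]) (lf [.c, .v, .c, .d, .c, .g, .c, .g, .d, .v])))))))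
noncomputable def t1692_circT_c1 : ℕ → List OnL := (nd 96 (nd 80 (nd 72 (nd 68 (nd 66 (nd 65 (lf [.v, .d, .c, .d, .g, .d, .g, .c, .v, .d]) (lf [.d, .g, .c, .v, .d, .v, .d, .c, .d, .g])) (nd 67 (lf [.e, .g, .e, .d, .g, .d, .g, .e, .d, .g, .d]) (lf [.f, .d, .c, .d, .c, .d, .c, .d, .c, .a]))) (nd 70 (nd 69 (lf [.d, .v, .d, .c, .d, .g, .d, .g, .c, .v]) (lf [.e, .v, .e, .d, .v, .d, .e, .v, .d, .v, .d])) (nd 71 (lf [.e, .b, .e, .b]) (lf [.e, .c, .e, .c])))) (nd 76 (nd 74 (nd 73 (lf [.v, .e, .d, .v, .d, .e, .v, .d, .v, .d, .e]) (lf [.d, .e, .d, .e, .d, .e])) (nd 75 (lf [.f, .e, .f, .e, .f, .e]) (lf [.c, .g, .c, .g, .d, .v, .c, .v, .c, .d]))) (nd 78 (nd 77 (lf [.c, .d, .c, .g, .c, .g, .d, .v, .c, .v]) (lf [.g, .c, .g, .d, .v, .c, .v, .c, .d, .c])) (nd 79 (lf [.d, .c, .d, .g, .d, .g, .c, .v, .d, .v]) (lf [.c, .d, .c, .d, .c, .d, .c, .a, .f, .d]))))) (nd 88 (nd 84 (nd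 82 (nd 81 (lf [.c, .v, .c, .b, .v, .c, .v, .c, .b, .v, .b]) (lf [.d, .c, .d, .c, .d, .c, .a, .f, .d, .c])) (nd 83 (lf [.f, .a, .g, .g]) (lf [.d, .g, .d, .g, .c, .v, .d, .v, .d, .c]))) (nd 86 (nd 85 (lf [.d, .c, .d, .c, .d, .c, .d, .c, .d, .c, .d, .c, .d, .c, .d, .c]) (lf [.d, .g, .d, .e, .g, .e, .d, .g, .d, .g, .e])) (nd 87 (lf [.d, .v, .d, .e, .v, .d, .v, .d, .e, .v, .e]) (lf [.v, .c, .b, .v, .c, .v, .c, .b, .v, .b, .c])))) (nd 92 (nd 90 (nd 89 (lf [.g, .d, .e, .g, .e, .d, .g, .d, .g, .e, .d]) (lf [.e, .d, .g, .d, .e, .g, .e, .d, .g, .d, .g])) (nd 91 (lf [.b, .c, .g, .c, .b, .g, .b, .c, .g, .c, .g]) (lf [.g, .c, .v, .d, .v, .d, .c, .d, .g, .d]))) (nd 94 (nd 93 (lf [.d, .c, .a, .f, .d, .c, .d, .c, .d, .c]) (lf [.v, .d, .e, .v, .d, .v, .d, .e, .v, .e, .d])) (nd 95 (lf [.c, .b, .v, .b, .c, .v, .c, .b, .v, .c, .v]) (lf [.v, .c, .v, .c, .b, .v, .b, .c, .v, .c, .b]))))))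 (nd 112 (nd 104 (nd 100 (nd 98 (nd 97 (lf [.c, .b, .v, .c, .v, .c, .b, .v, .b, .c, .v]) (lf [.g, .d, .g, .e, .d, .g, .d, .e, .g, .e, .d])) (nd 99 (lf [.d, .v, .d, .e, .v, .e, .d, .v, .d, .e, .v]) (lf [.d, .e, .g, .e, .d, .g, .d, .g, .e, .d, .g]))) (nd 102 (nd 101 (lf [.a, .g, .g, .f]) (lf [.g, .c, .g, .b, .c, .g, .c, .b, .g, .b, .c])) (nd 103 (lf [.g, .e, .d, .g, .d, .g, .e, .d, .g, .d, .e]) (lf [.c, .b, .v, .d, .c, .b, .v, .d, .c, .b, .v, .d, .c, .b, .v, .d, .c, .b, .v, .d])))) (nd 108 (nd 106 (nd 105 (lf [.c, .g, .b, .c, .g, .c, .b, .g, .b, .c, .g]) (lf [.d, .g, .b, .c, .d, .g, .b, .c, .d, .g, .b, .c, .d, .g, .b, .c, .d, .g, .b, .c])) (nd 107 (lf [.g, .d, .v, .c, .v, .c, .d, .c, .g, .c]) (lf [.c, .d, .g, .b, .c, .d, .g, .b, .c, .d, .g, .b, .c, .d, .g, .b, .c, .d, .g, .b]))) (nd 110 (nd 109 (lf [.g, .b, .c, .d, .g, .b, .c, .d, .g, .b, .c, .d, .g, .b, .c, .d,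 .g, .b, .c, .d]) (lf [.b, .c, .d, .g, .b, .c, .d, .g, .b, .c, .d, .g, .b, .c, .d, .g, .b, .c, .d, .g])) (nd 111 (lf [.c, .d, .c, .d, .c, .a, .f, .d, .c, .d]) (lf [.v, .d, .v, .d, .e, .v, .e, .d, .v, .d, .e]))))) (nd 120 (nd 116 (nd 114 (nd 113 (lf [.d, .c, .b, .v, .d, .c, .b, .v, .d, .c, .b, .v, .d, .c, .b, .v, .d, .c, .b, .v]) (lf [.d, .g, .d, .g, .e, .d, .g, .d, .e, .g, .e])) (nd 115 (lf [.c, .d, .c, .d, .c, .d, .c, .d, .c, .d, .c, .d, .c, .d, .c, .d]) (lf [.d, .e, .v, .e, .d, .v, .d, .e, .v, .d, .v]))) (nd 118 (nd 117 (lf [.b, .v, .b, .c, .v, .c, .b, .v, .c, .v, .c]) (lf [.d, .c, .d, .c, .d, .c, .d, .f, .a, .c])) (nd 119 (lf [.a, .f, .d, .c, .d, .c, .d, .c, .d, .c]) (lf [.g, .e, .d, .g, .d, .e, .g, .e, .d, .g, .d])))) (nd 124 (nd 122 (nd 121 (lf [.g, .b, .c, .g, .c, .b, .g, .b, .c, .g, .c]) (lf [.v, .d, .c, .b, .v, .d, .c, .b, .v, .d, .c, .b, .v, .d, .c, .b,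 .v, .d, .c, .b])) (nd 123 (lf [.d, .f, .a, .c, .d, .c, .d, .c, .d, .c]) (lf [.b, .v, .d, .c, .b, .v, .d, .c, .b, .v, .d, .c, .b, .v, .d, .c, .b, .v, .d, .c]))) (nd 126 (nd 125 (lf [.f, .a, .c, .d, .c, .d, .c, .d, .c, .d]) (lf [.b, .v, .c, .v, .c, .b, .v, .b, .c, .v, .c])) (nd 127 (lf [.e, .v, .d, .v, .d, .e, .v, .e, .d, .v, .d]) (lf [.c, .d, .c, .d, .c, .d, .c, .d, .f, .a])))))))
noncomputable def t1692_circT_c2 : ℕ → List OnL := (nd 133 (nd 130 (nd 129 (lf [.c, .d, .c, .a, .f, .d, .c, .d, .c, .d]) (lf [.a, .c, .d, .c, .d, .c, .d, .c, .d, .f])) (nd 131 (lf [.d, .c, .d, .c, .a, .f, .d, .c, .d, .c]) (nd 132 (lf [.d, .c, .d, .c, .d, .c, .d, .c, .a, .f]) (lf [.c, .a, .f, .d, .c, .d, .c, .d, .c, .d])))) (nd 135 (nd 134 (lf [.c, .d, .f, .a, .c, .d, .c, .d, .c, .d]) (lf [.c, .d, .c, .d, .f, .a, .c, .d, .c, .d])) (nd 136 (lf [.c, .d, .c, .d, .c, .d, .f, .a, .c, .d])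 (nd 137 (lf [.d, .c, .d, .f, .a, .c, .d, .c, .d, .c]) (lf [.d, .c, .d, .c, .d, .f, .a, .c, .d, .c])))))
noncomputable def t1692_circT : ℕ → List OnL := (nd 64 t1692_circT_c0 (nd 128 t1692_circT_c1 t1692_circT_c2))
def t1692_ccert : List (ℕ × ℕ × Bool) := [(15, 1, true), (22, 1, false), (15, 1, false), (28, 0, false), (8, 1, false), (1, 0, false), (23, 0, false), (11, 1, false), (2, 0, false), (13, 1, false), (3, 0, false), (6, 0, false), (24, 0, false), (7, 0, false), (18, 0, false), (17, 5, false), (25, 0, false), (10, 0, false), (17, 0, false), (0, 1, false), (4, 1, false), (15, 2, false), (22, 0, false), (15, 0, true), (15, 3, false), (11, 0, false), (4, 0, false), (14, 0, false), (27, 0, false), (5, 1, false), (8, 0, false), (2, 1, false), (6, 1, false), (20, 2, false), (18, 1, false), (18, 5, false), (20, 7, false), (20, 0, true), (20, 5, false), (1, 1,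 false), (21, 7, false), (12, 1, false), (21, 10, false), (26, 0, false), (21, 5, true), (13, 0, false), (21, 8, true), (17, 1, false), (20, 1, true), (21, 1, true), (20, 3, false), (20, 8, false), (5, 0, false), (20, 4, false), (20, 4, true), (0, 0, false), (18, 3, false), (17, 7, false), (3, 1, false), (15, 0, false), (18, 8, false), (20, 5, true), (20, 6, false), (18, 2, false), (17, 3, false), (17, 8, false), (21, 5, false), (16, 1, false), (17, 2, false), (21, 3, true), (7, 1, false), (10, 1, false), (21, 4, true), (12, 0, false), (14, 1, false), (18, 6, false), (18, 4, false), (18, 7, false), (17, 4, false), (16, 3, false), (20, 6, true), (16, 4, false), (15, 2, true), (17, 6, false), (9, 1, false), (21, 2, false), (21, 6, true), (20, 7, true), (21, 3, false), (21, 1, false), (20, 1, false), (17, 9, false), (16, 8, false), (21, 7, true), (20, 2, true), (20,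 10, true), (20, 8, true), (21, 9, false), (21, 0, true), (21, 4, false), (15, 3, true), (20, 9, false), (21, 6, false), (19, 2, true), (20, 10, false), (19, 2, false), (18, 9, false), (19, 1, false), (19, 3, false), (19, 0, false), (16, 5, false), (21, 10, true), (19, 1, true), (21, 8, false), (9, 0, false), (21, 2, true), (20, 3, true), (16, 1, true), (16, 0, false), (21, 0, false), (20, 0, false), (19, 0, true), (16, 7, true), (19, 3, true), (16, 8, true), (20, 9, true), (21, 9, true), (16, 0, true), (16, 7, false), (16, 9, true), (16, 6, false), (16, 2, false), (16, 9, false), (16, 6, true), (16, 4, true), (16, 2, true), (16, 5, true), (16, 3, true)]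
noncomputable def t1692_hc1T_c0 : ℕ → List OnL := (nd 3 (nd 1 (lf [.a]) (nd 2 (lf [.b]) (lf [.c]))) (nd 4 (lf [.d]) (nd 5 (lf [.e]) (lf [.f]))))
noncomputable def t1692_hc1T : ℕ → List OnL := t1692_hc1T_c0
noncomputable def t1692_hc2T_c0 : ℕ → List OnL := (nd 3 (nd 1 (lf []) (nd 2 (lf []) (lf []))) (nd 4 (lf []) (nd 5 (lf []) (lf []))))
noncomputable def t1692_hc2T : ℕ → List OnL := t1692_hc2T_c0

noncomputable def t1692_rd : NI.RData OnL := ⟨wrapRow 197670 t1692_rrowT, 197670, 122760, on_gi, on_gof, on_gens, circTab 138 t1692_circT, circTab 6 t1692_hc1T, circTab 6 t1692_hc2T, 5, on_gv⟩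
noncomputable def t1692_rf (p : ℕ) : Bool := t1692_rd.chk p
def t1692_rsw : List (List OnL) := [[.a], [.b], [.c], [.d], [.e], [.f]]

end Cfsg.Agent.H35
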